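/-
Facts on the linear group of degree three over the field of two elements.
-/
import Cfsg.Agent.Lib.Classical.SL
set_option autoImplicit false

namespace Cfsg.Agent.MonsterT.Seven

theorem zmod2_mul_one : ∀ a b : ZMod 2, a * b = 1 → a = 1 := by decide

theorem sl32_facts : IsSimpleGroup (Matrix.SpecialLinearGroup (Fin 3) (ZMod 2)) ∧
    Nat.card (Matrix.SpecialLinearGroup (Fin 3) (ZMod 2)) = 168 := by
  haveI : Fact (Nat.Prime 2) := ⟨Nat.prime_two⟩
  have h2 : Nat.card (ZMod 2) = 2 := by rw [Nat.card_eq_fintype_card, ZMod.card]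
  have hsl : Nat.card (Matrix.SpecialLinearGroup (Fin 3) (ZMod 2)) = 168 := by
    have h := ClassicalSL.card_sl_mul (ι := Fin 3) (F := ZMod 2)
    rw [h2, ClassicalSL.card_gl_fin h2 3] at h
    norm_num [Fin.prod_univ_three, Finset.prod_range_succ] at h
    rw [Nat.card_eq_fintype_card]; exact h
  have hz : Subgroup.center (Matrix.SpecialLinearGroup (Fin 3) (ZMod 2)) = ⊥ :=
    Subgroup.card_eq_one.1 (by rw [ClassicalSL.card_center_sl, h2]; simp)
  haveI := ClassicalSL.isSimpleGroup_psl (ι := Fin 3) (F := ZMod 2) (by simp)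
  have hinj : Function.Injective
      (QuotientGroup.mk' (Subgroup.center (Matrix.SpecialLinearGroup (Fin 3) (ZMod 2)))) := by
    rw [← MonoidHom.ker_eq_bot_iff, QuotientGroup.ker_mk', hz]
  exact ⟨(MulEquiv.ofBijective _ ⟨hinj, QuotientGroup.mk'_surjective _⟩ :
    Matrix.SpecialLinearGroup (Fin 3) (ZMod 2) ≃*
      Matrix.ProjectiveSpecialLinearGroup (Fin 3) (ZMod 2)).isSimpleGroup, hsl⟩

theorem sl32_top {H : Subgroup (Matrix.SpecialLinearGroup (Fin 3) (ZMod 2))} (h : 42 ∣ Nat.card ↥H) : H = ⊤ := by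
  obtain ⟨hs, hc⟩ := sl32_facts
  by_contra hne
  obtain ⟨m, hm⟩ := h
  have hmul := H.card_mul_index
  rw [hc, hm, mul_assoc] at hmul
  have hi4 : H.index ≤ 4 := Nat.le_of_dvd (by norm_num) ⟨m, by rw [mul_comm]; omega⟩
  let φ := MulAction.toPermHom (Matrix.SpecialLinearGroup (Fin 3) (ZMod 2))
    (Matrix.SpecialLinearGroup (Fin 3) (ZMod 2) ⧸ H)
  have hker : φ.ker = H.normalCore := (Subgroup.normalCore_eq_ker H).symm
  have hbot : φ.ker = ⊥ := (φ.normal_ker.eq_bot_or_eq_top).resolve_right fun e => hne (by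
    rw [hker] at e
    exact top_le_iff.1 (e ▸ H.normalCore_le))
  have := Nat.card_le_card_of_injective φ ((MonoidHom.ker_eq_bot_iff φ).1 hbot)
  rw [hc, Nat.card_perm, ← Subgroup.index_eq_card] at this
  have := Nat.factorial_le hi4
  simp [Nat.factorial] at *
  omega

end Cfsg.Agent.MonsterT.Seven
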