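/-
Normal two-subgroups of the stabilisers of classes of the Leech lattice modulo two.
-/
import Cfsg.Agent.Lib.Leech.Short
import Cfsg.Agent.Lib.LeechMod.Forms
set_option autoImplicit false

namespace Cfsg.Agent.MonsterT

open Cfsg Cfsg.Agent.Golay Cfsg.Agent.Leech
open Cfsg.Agent.LatticeMod2 (Rootless Cong)
open scoped Pointwise

/-- The permutation of a monomial automorphism. -/
noncomputable def rho : ↥crossStab →* ↥M24 :=
  MonoidHom.mk' (fun g => (fixesStd_iff.1 (mem_crossStab.1 g.2)).choose.1) (by
    intro g h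
    have hg := (fixesStd_iff.1 (mem_crossStab.1 g.2)).choose_spec
    have hh := (fixesStd_iff.1 (mem_crossStab.1 h.2)).choose_spec
    have hgh := (fixesStd_iff.1 (mem_crossStab.1 (g * h).2)).choose_spec
    generalize (fixesStd_iff.1 (mem_crossStab.1 g.2)).choose = a at hg
    generalize (fixesStd_iff.1 (mem_crossStab.1 h.2)).choose = b at hh
    generalize (fixesStd_iff.1 (mem_crossStab.1 (g * h).2)).choose = c at hgh
    refine Subtype.ext (Equiv.ext fun i => ?_)
    have e : mono c • axis i = mono a • mono b • axis i := by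
      rw [← mul_smul, hg, hh, hgh]; rfl
    rw [mono_axis, mono_axis, ← hom0_apply, map_zsmul, hom0_apply, mono_axis, smul_smul] at e
    exact (sgn_axis_inj (sgn_cases _ _) e).1)

theorem rho_spec (g : ↥crossStab) : ∃ c : golayCode, mono (rho g, c) = (g : Co0) :=
  ⟨(fixesStd_iff.1 (mem_crossStab.1 g.2)).choose.2, (fixesStd_iff.1 (mem_crossStab.1 g.2)).choose_spec⟩

theorem rho_mono (a : M24 × golayCode) (h : mono a ∈ crossStab) : rho ⟨mono a, h⟩ = a.1 := by
  obtain ⟨c, hc⟩ := rho_spec ⟨mono a, h⟩
  have hc' : mono (rho ⟨mono a, h⟩, c) = mono a := hc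
  exact (Prod.ext_iff.1 (mono_injective hc')).1

theorem mono_mem (a : M24 × golayCode) : mono a ∈ crossStab := mem_crossStab.2 (fixesStd_iff.2 ⟨a, rfl⟩)

theorem rho_surjective : Function.Surjective rho := fun σ => ⟨⟨mono (σ, 0), mono_mem _⟩, rho_mono _ _⟩

theorem card_rho_ker : Nat.card rho.ker = 4096 := by
  have h := rho.ker.card_mul_index
  rw [Subgroup.index_ker, MonoidHom.range_eq_top.2 rho_surjective, Subgroup.card_top, card_M24,
    card_crossStab] at h
  exact Nat.eq_of_mul_eq_mul_right (by norm_num) h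

/-- The sign changes among the automorphisms. -/
noncomputable def diag : Subgroup Co0 := rho.ker.map crossStab.subtype

theorem card_diag : Nat.card diag = 4096 := by
  rw [diag, Subgroup.card_map_of_injective crossStab.subtype_injective, card_rho_ker]

theorem diag_le : diag ≤ crossStab := Subgroup.map_subtype_le _

theorem mem_diag {g : Co0} : g ∈ diag ↔ ∃ c : golayCode, mono (1, c) = g := by
  constructor
  · rintro ⟨x, hx, rfl⟩
    obtain ⟨c, hc⟩ := rho_spec x
    rw [MonoidHom.mem_ker.1 hx] at hc
    exact ⟨c, hc⟩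
  · rintro ⟨c, rfl⟩
    exact ⟨⟨mono (1, c), mono_mem _⟩, rho_mono _ _, rfl⟩

/-- The stabiliser of a class. -/
def classStab (v : leechLattice) : Subgroup Co0 where
  carrier := {g | Cong (g • v) v}
  one_mem' := ⟨0, by simp⟩
  mul_mem' := fun {a b} ha hb => by
    show Cong ((a * b) • v) v
    rw [mul_smul]
    exact cong_trans (co0_cong hb) ha
  inv_mem' := fun {a} ha => by
    show Cong (a⁻¹ • v) v
    have := co0_cong (g := a⁻¹) ha
    rw [inv_smul_smul] at this
    exact cong_symm this

theorem mem_classStab {v : leechLattice} {g : Co0} : g ∈ classStab v ↔ Cong (g • v) v := Iff.rfl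

theorem classStab_conj (k : Co0) {v w : leechLattice} (h : k • v = w) (g : Co0) :
    g ∈ classStab w ↔ k⁻¹ * g * k ∈ classStab v := by
  subst h
  rw [mem_classStab, mem_classStab, mul_smul, mul_smul]
  constructor
  · intro hc
    have := co0_cong (g := k⁻¹) hc
    rwa [inv_smul_smul] at this
  · intro hc
    have := co0_cong (g := k) hc
    rwa [smul_inv_smul] at this

theorem classStab_axis : classStab (axis none) = crossStab := by
  ext g
  rw [mem_classStab, crossStab, MulAction.mem_stabilizer_iff, smul_xCross]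
  constructor
  · intro h
    exact xCross_eq_of_mem ⟨(co0_ip g _ _).trans (ip_axis_self none), cong_symm h⟩
  · intro h
    have := self_mem_xCross ((co0_ip g _ _).trans (ip_axis_self none))
    rw [h] at this
    exact cong_symm this.2

/-- The standard vector of norm four. -/
def pairVec : leechLattice := pairV none (some 0) (by simp) 1 1 (Or.inl rfl) (Or.inl rfl)

theorem mem_classStab_pair {g : Co0} : g ∈ classStab pairVec ↔ g • pairVec = pairVec ∨ g • pairVec = -pairVec := by
  rw [mem_classStab]
  constructor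
  · intro h
    have h1 : ip pairVec pairVec = 4 := ip_pairV_self
    have h2 : ip (g • pairVec) (g • pairVec) = 4 := (co0_ip g _ _).trans h1
    rcases LatticeMod2.cong_short rootless_ip (by omega) (by omega) (cong_symm h) with e | e | ⟨e, -, -⟩
    · exact Or.inl e
    · exact Or.inr e
    · omega
  · rintro (e | e) <;> rw [e]
    · exact ⟨0, by simp⟩
    · exact ⟨-pairVec, by rw [two_nsmul]; abel⟩

theorem card_classStab_pair : 98280 * Nat.card (classStab pairVec) = Nat.card Co0 := by
  let St := MulAction.stabilizer Co0 pairVec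
  have horb : MulAction.orbit Co0 pairVec = {x | ip x x = 4} := by
    ext x
    constructor
    · rintro ⟨g, rfl⟩; exact (co0_ip g _ _).trans ip_pairV_self
    · intro hx; exact transitive4 ip_pairV_self hx
  have hi : St.index = 196560 := by
    rw [MulAction.index_stabilizer, horb, ncard_shell4]
  have hneg : negCo0 ∈ classStab pairVec := mem_classStab_pair.2 (Or.inr (negCo0_smul _))
  have hSt : St ≤ classStab pairVec := fun g hg => mem_classStab_pair.2 (Or.inl hg)
  have h2 : St.relIndex (classStab pairVec) = 2 := by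
    show (St.subgroupOf (classStab pairVec)).index = 2
    rw [Subgroup.index_eq_two_iff]
    refine ⟨⟨negCo0, hneg⟩, fun b => ?_⟩
    rw [Subgroup.mem_subgroupOf, Subgroup.mem_subgroupOf, MulAction.mem_stabilizer_iff, MulAction.mem_stabilizer_iff,
      Subgroup.coe_mul, mul_smul, negCo0_smul, co0_neg]
    have hne : pairVec ≠ -pairVec := (LatticeMod2.neg_ne_self rootless_ip (fun e => by
      have h1 : ip pairVec pairVec = 4 := ip_pairV_self
      rw [e, LatticeMod2.map_zero_left rootless_ip] at h1; omega)).symm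
    rcases mem_classStab_pair.1 b.2 with e | e <;> rw [e]
    · exact Or.inr ⟨rfl, hne.symm⟩
    · exact Or.inl ⟨neg_neg _, hne.symm⟩
  have h := Subgroup.relIndex_mul_index hSt
  rw [h2, hi] at h
  have hc := (classStab pairVec).card_mul_index
  have : (classStab pairVec).index = 98280 := by omega
  rw [this] at hc
  rw [← hc, mul_comm]

/-- The monomial part of the stabiliser of the standard pair. -/
noncomputable def pairMono : Subgroup ↥crossStab := (classStab pairVec).subgroupOf crossStab

theorem pair_pos {a b : GolayPt} (ha : a = none ∨ a = some 0) (hb : b = none ∨ b = some 0) :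
    (pairVec : GolayPt → ℤ) a = 4 ∧ (pairVec : GolayPt → ℤ) b = 4 := by
  rcases ha with rfl | rfl <;> rcases hb with rfl | rfl <;> simp [pairVec, pairV_apply]

/-- The point pair. -/
def pairSet : Finset GolayPt := {none, some 0}

theorem mem_pairSet {i : GolayPt} : i ∈ pairSet ↔ i = none ∨ i = some 0 := by simp [pairSet]

theorem pairVec_eq (i : GolayPt) : (pairVec : GolayPt → ℤ) i = if i ∈ pairSet then 4 else 0 := by
  by_cases h : i ∈ pairSet
  · rw [if_pos h]; exact (pair_pos (mem_pairSet.1 h) (mem_pairSet.1 h)).1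
  · rw [if_neg h]
    rw [mem_pairSet, not_or] at h
    simp [pairVec, pairV_apply, h.1, h.2]

theorem mono_mem_pair {σ : ↥M24} {c : golayCode} :
    mono (σ, c) ∈ classStab pairVec ↔
      (∀ i, (σ : Equiv.Perm GolayPt) i ∈ pairSet ↔ i ∈ pairSet) ∧
        (c : GolayPt → ZMod 2) none = (c : GolayPt → ZMod 2) (some 0) := by
  rw [mem_classStab_pair]
  constructor
  · intro h
    obtain ⟨s, hs, he⟩ : ∃ s : ℤ, (s = 1 ∨ s = -1) ∧ ∀ i,
        sgn (c : GolayPt → ZMod 2) i * (pairVec : GolayPt → ℤ) ((σ : Equiv.Perm GolayPt).symm i) =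
          s * (pairVec : GolayPt → ℤ) i := by
      rcases h with e | e
      · exact ⟨1, Or.inl rfl, fun i => by
          rw [one_mul]; exact congrFun (congrArg Subtype.val e) i⟩
      · exact ⟨-1, Or.inr rfl, fun i => by
          rw [neg_one_mul]; exact congrFun (congrArg Subtype.val e) i⟩
    have hset : ∀ i, (σ : Equiv.Perm GolayPt) i ∈ pairSet ↔ i ∈ pairSet := fun i => by
      have := he ((σ : Equiv.Perm GolayPt) i)
      rw [Equiv.symm_apply_apply, pairVec_eq, pairVec_eq] at this
      rcases hs with rfl | rfl <;>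
        rcases sgn_cases (c : GolayPt → ZMod 2) ((σ : Equiv.Perm GolayPt) i) with q | q <;> rw [q] at this <;>
        split_ifs at this with h1 h2 <;> simp_all
    refine ⟨hset, sgn_inj' ?_⟩
    have key : ∀ a ∈ pairSet, sgn (c : GolayPt → ZMod 2) a = s := fun a ha => by
      have := he a
      rw [pairVec_eq, pairVec_eq, if_pos ha, if_pos ((hset _).1 (by rwa [Equiv.apply_symm_apply]))] at this
      omega
    rw [key none (by simp [pairSet]), key (some 0) (by simp [pairSet])]
  · rintro ⟨hset, hc⟩
    have key : ∀ i, ((mono (σ, c) • pairVec : leechLattice) : GolayPt → ℤ) i =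
        sgn (c : GolayPt → ZMod 2) none * (pairVec : GolayPt → ℤ) i := fun i => by
      rw [mono_smul]
      show sgn _ i * _ = _
      rw [pairVec_eq, pairVec_eq]
      have hi := hset ((σ : Equiv.Perm GolayPt).symm i)
      rw [Equiv.apply_symm_apply] at hi
      by_cases h : i ∈ pairSet
      · rw [if_pos h, if_pos (hi.1 h)]
        rcases mem_pairSet.1 h with rfl | rfl
        · rfl
        · simp only [sgn, hc]
      · rw [if_neg h, if_neg (fun h' => h (hi.2 h'))]; ring
    rcases sgn_cases (c : GolayPt → ZMod 2) none with q | q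
    · exact Or.inl (Subtype.ext (funext fun i => by rw [key, q, one_mul]))
    · exact Or.inr (Subtype.ext (funext fun i => by rw [key, q, neg_one_mul]; rfl))
where
  sgn_inj' {c : golayCode} (h : sgn (c : GolayPt → ZMod 2) none = sgn (c : GolayPt → ZMod 2) (some 0)) :
      (c : GolayPt → ZMod 2) none = (c : GolayPt → ZMod 2) (some 0) := by
    revert h
    simp only [sgn]
    rcases zmod2_cases ((c : GolayPt → ZMod 2) none) with a | a <;>
      rcases zmod2_cases ((c : GolayPt → ZMod 2) (some 0)) with b | b <;> simp [a, b]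

/-- The setwise stabiliser of the pair. -/
def pairPerm : Subgroup ↥M24 where
  carrier := {σ | ∀ i, (σ : Equiv.Perm GolayPt) i ∈ pairSet ↔ i ∈ pairSet}
  one_mem' := fun i => Iff.rfl
  mul_mem' := fun {a b} ha hb i => (ha _).trans (hb i)
  inv_mem' := fun {a} ha i => by
    have h := ha ((a : Equiv.Perm GolayPt).symm i)
    rw [Equiv.apply_symm_apply] at h
    exact h.symm

theorem index_pairPerm : pairPerm.index = 276 := by
  classical
  have hst : pairPerm = MulAction.stabilizer ↥M24 pairSet := by
    ext σ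
    rw [MulAction.mem_stabilizer_iff]
    have hmem : ∀ i, (σ : Equiv.Perm GolayPt) i ∈ σ • pairSet ↔ i ∈ pairSet := fun i =>
      Finset.smul_mem_smul_finset_iff (s := pairSet) σ
    constructor
    · intro h
      ext j
      obtain ⟨i, rfl⟩ := (σ : Equiv.Perm GolayPt).surjective j
      rw [hmem, h]
    · intro h i
      rw [← h, hmem]
      rw [h]
  have horb : MulAction.orbit ↥M24 pairSet = ↑((Finset.univ : Finset GolayPt).powersetCard 2) := by
    ext s
    rw [Finset.mem_coe, Finset.mem_powersetCard]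
    constructor
    · rintro ⟨σ, rfl⟩
      refine ⟨Finset.subset_univ _, ?_⟩
      show (σ • pairSet).card = 2
      rw [Finset.card_smul_finset]; rfl
    · rintro ⟨-, hs⟩
      obtain ⟨x, y, hxy, rfl⟩ := Finset.card_eq_two.1 hs
      obtain ⟨σ, hσ, hm⟩ := exists_M24_map' (k := 2) (x := ![none, some 0]) (y := ![x, y]) (by norm_num)
        (by intro p q h; fin_cases p <;> fin_cases q <;> simp_all)
        (by intro p q h; fin_cases p <;> fin_cases q <;> simp_all)
      refine ⟨⟨σ, hσ⟩, ?_⟩
      show (⟨σ, hσ⟩ : ↥M24) • ({none, some 0} : Finset GolayPt) = {x, y}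
      rw [Finset.smul_finset_insert, Finset.smul_finset_singleton]
      have h0 : σ none = x := hm 0
      have h1 : σ (some 0) = y := hm 1
      rw [← h0, ← h1]; rfl
  rw [hst, MulAction.index_stabilizer, horb, Set.ncard_coe_finset, Finset.card_powersetCard]
  rfl

/-- The code words taking equal values at the pair. -/
def pairCode : AddSubgroup ↥golayCode where
  carrier := {c | (c : GolayPt → ZMod 2) none = (c : GolayPt → ZMod 2) (some 0)}
  zero_mem' := rfl
  add_mem' := fun {a b} (ha : _ = _) (hb : _ = _) => by simp [ha, hb]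
  neg_mem' := fun {a} (ha : _ = _) => by simp [ha]

theorem card_pairCode : Nat.card pairCode = 2048 := by
  let f : ↥golayCode →+ ZMod 2 :=
    AddMonoidHom.mk' (fun c => (c : GolayPt → ZMod 2) none + (c : GolayPt → ZMod 2) (some 0))
      fun a b => by simp; ring
  have hk : f.ker = pairCode := by
    ext c
    show ((c : GolayPt → ZMod 2) none + (c : GolayPt → ZMod 2) (some 0) = 0) ↔
      (c : GolayPt → ZMod 2) none = (c : GolayPt → ZMod 2) (some 0)
    rcases zmod2_cases ((c : GolayPt → ZMod 2) none) with a | a <;>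
      rcases zmod2_cases ((c : GolayPt → ZMod 2) (some 0)) with b | b <;> rw [a, b] <;> decide
  have hs : Function.Surjective f := fun z => by
    rcases zmod2_cases z with rfl | rfl
    · exact ⟨0, by simp [f]⟩
    · obtain ⟨c, hc, h0, h1⟩ := exists_code_separating (i := (none : GolayPt)) (j := some 0) (by simp)
      exact ⟨⟨c, hc⟩, by simp [f, h0, h1]⟩
  have h := f.ker.card_mul_index
  rw [AddSubgroup.index_ker, AddMonoidHom.range_eq_top.2 hs, AddSubgroup.card_top, Nat.card_zmod, hk,
    card_golayCode] at h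
  omega

theorem mem_pairMono {g : ↥crossStab} :
    g ∈ pairMono ↔ ∃ c : golayCode, mono (rho g, c) = (g : Co0) ∧ rho g ∈ pairPerm ∧ c ∈ pairCode := by
  rw [pairMono, Subgroup.mem_subgroupOf]
  obtain ⟨c, hc⟩ := rho_spec g
  constructor
  · intro h
    rw [← hc, mono_mem_pair] at h
    exact ⟨c, hc, h.1, h.2⟩
  · rintro ⟨c', hc', h1, h2⟩
    rw [← hc', mono_mem_pair]
    exact ⟨h1, h2⟩

theorem card_pairMono_ker : Nat.card (rho.ker ⊓ pairMono : Subgroup ↥crossStab) = 2048 := by
  rw [← card_pairCode]
  refine (Nat.card_eq_of_bijective (fun c : pairCode => (⟨⟨mono (1, c.1), mono_mem _⟩, ?_, ?_⟩ :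
    (rho.ker ⊓ pairMono : Subgroup ↥crossStab))) ⟨fun a b h => ?_, fun g => ?_⟩).symm
  · exact rho_mono _ _
  · exact mem_pairMono.2 ⟨c.1, by rw [rho_mono], by rw [rho_mono]; exact pairPerm.one_mem, c.2⟩
  · exact Subtype.ext (congrArg Prod.snd (mono_injective (congrArg (fun z => ((z.1 : ↥crossStab) : Co0)) h)))
  · obtain ⟨c, hc, -, hc2⟩ := mem_pairMono.1 g.2.2
    refine ⟨⟨c, hc2⟩, Subtype.ext (Subtype.ext ?_)⟩
    rw [MonoidHom.mem_ker.1 g.2.1] at hc
    exact hc

theorem map_pairMono : pairMono.map rho = pairPerm := by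
  refine le_antisymm ?_ fun σ hσ => ?_
  · rintro _ ⟨g, hg, rfl⟩
    obtain ⟨c, -, h, -⟩ := mem_pairMono.1 hg
    exact h
  · exact ⟨⟨mono (σ, 0), mono_mem _⟩, mem_pairMono.2 ⟨0, by rw [rho_mono], by rw [rho_mono]; exact hσ,
      pairCode.zero_mem⟩, rho_mono _ _⟩

theorem card_pairMono : Nat.card pairMono = 2048 * 887040 := by
  have h := (rho.comp pairMono.subtype).ker.card_mul_index
  rw [Subgroup.index_ker, MonoidHom.range_comp, Subgroup.range_subtype, map_pairMono] at h
  have hk : Nat.card (rho.comp pairMono.subtype).ker = 2048 := by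
    rw [← card_pairMono_ker, ← Subgroup.card_map_of_injective pairMono.subtype_injective,
      ← MonoidHom.comap_ker, Subgroup.map_comap_eq, Subgroup.range_subtype, inf_comm]
  have hp := pairPerm.card_mul_index
  rw [index_pairPerm, card_M24] at hp
  rw [hk, Nat.eq_of_mul_eq_mul_right (by norm_num : 0 < 276)
    (hp.trans (by norm_num : (244823040 : ℕ) = 887040 * 276))] at h
  exact h.symm

/-- A normal two-subgroup lies in every subgroup of odd index. -/
theorem le_of_odd_index {G : Type*} [Group G] [Finite G] {N K H : Subgroup G} (hN : IsPGroup 2 N)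
    (hNH : N ≤ H) (hnorm : ∀ h ∈ H, ∀ n ∈ N, h * n * h⁻¹ ∈ N) (hKH : K ≤ H)
    (hodd : ¬ 2 ∣ K.relIndex H) : N ≤ K := by
  haveI : Fact (Nat.Prime 2) := ⟨Nat.prime_two⟩
  have hN' : IsPGroup 2 (N.subgroupOf H) := hN.of_equiv (Subgroup.subgroupOfEquivOfLe hNH).symm
  obtain ⟨x, hx⟩ := hN'.nonempty_fixed_point_of_prime_not_dvd_card (↥H ⧸ K.subgroupOf H)
    (by rwa [← Subgroup.index_eq_card])
  obtain ⟨h, rfl⟩ := QuotientGroup.mk_surjective x
  intro m hm
  have hn : (⟨(h : G) * m * (h : G)⁻¹, hNH (hnorm _ h.2 _ hm)⟩ : ↥H) ∈ N.subgroupOf H := hnorm _ h.2 _ hm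
  have e := MulAction.mem_fixedPoints.1 hx ⟨_, hn⟩
  have e' : (QuotientGroup.mk (⟨(h : G) * m * (h : G)⁻¹, hNH (hnorm _ h.2 _ hm)⟩ * h) : ↥H ⧸ K.subgroupOf H) =
      QuotientGroup.mk h := e
  rw [QuotientGroup.eq, Subgroup.mem_subgroupOf] at e'
  have e2 : ((h : G) * m * (h : G)⁻¹ * h)⁻¹ * h ∈ K := e'
  rw [show ((h : G) * m * (h : G)⁻¹ * h)⁻¹ * h = m⁻¹ by group] at e2
  exact K.inv_mem_iff.1 e2

/-- The swap of the pair is not a symmetry of the code. -/
theorem not_swap {σ : ↥M24} (h0 : (σ : Equiv.Perm GolayPt) none = some 0)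
    (hfix : ∀ p, p ∉ pairSet → (σ : Equiv.Perm GolayPt) p = p) : False := by
  obtain ⟨c, hc, hc0, hc1⟩ := exists_code_separating (i := (none : GolayPt)) (j := some 0) (by simp)
  have hpre := code_perm (inv_mem σ.2) hc
  set d := c + fun i => c ((σ : Equiv.Perm GolayPt)⁻¹.symm i)
  have hd : d ∈ golayCode := golayCode.add_mem hc hpre
  have e : ∑ i, d i * c i = 0 := self_orthogonal hd hc
  have h1 : (σ : Equiv.Perm GolayPt) (some 0) = none := by
    obtain ⟨p, hp⟩ := (σ : Equiv.Perm GolayPt).surjective none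
    by_cases hps : p ∈ pairSet
    · rcases mem_pairSet.1 hps with rfl | rfl
      · rw [h0] at hp; simp at hp
      · exact hp
    · rw [hfix p hps] at hp
      subst hp
      exact absurd (by simp [pairSet]) hps
  rw [Finset.sum_eq_single (some 0) (fun p _ hp => ?_) (by simp)] at e
  · simp [d, Equiv.Perm.inv_def, h1, hc0, hc1] at e
  · by_cases hps : p ∈ pairSet
    · rcases mem_pairSet.1 hps with rfl | rfl
      · simp [hc0]
      · exact absurd rfl hp
    · have : d p = 0 := by
        show c p + c _ = 0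
        rw [Equiv.Perm.inv_def, Equiv.symm_symm, hfix p hps]
        exact CharTwo.add_self_eq_zero _
      rw [this, zero_mul]

/-- A two-group of permutations fixing the pair and normalised by the pair stabiliser is trivial. -/
theorem pair_two_group {R : Subgroup ↥M24} (hR : IsPGroup 2 R) (hle : R ≤ pairPerm)
    (hnorm : ∀ σ ∈ pairPerm, ∀ r ∈ R, σ * r * σ⁻¹ ∈ R) : R = ⊥ := by
  classical
  haveI : Fact (Nat.Prime 2) := ⟨Nat.prime_two⟩
  rw [Subgroup.eq_bot_iff_forall]
  intro r hr
  have hfix : ∀ p, p ∉ pairSet → (r : Equiv.Perm GolayPt) p = p := by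
    intro p hp
    by_contra hne
    have hq : (r : Equiv.Perm GolayPt) p ∉ pairSet := fun h => hp ((hle hr p).1 h)
    have horb : MulAction.orbit R p = ↑(Finset.univ \ pairSet) := by
      ext x
      rw [Finset.coe_sdiff, Set.mem_sdiff, Finset.mem_coe, Finset.mem_coe]
      constructor
      · rintro ⟨t, rfl⟩
        exact ⟨Finset.mem_univ _, fun h => hp ((hle t.2 p).1 h)⟩
      · rintro ⟨-, hx⟩
        rcases eq_or_ne x p with rfl | hxp
        · exact MulAction.mem_orbit_self _
        rw [mem_pairSet, not_or] at hp hq hx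
        have hp' := And.intro (Ne.symm hp.1) (Ne.symm hp.2)
        have hq' := And.intro (Ne.symm hq.1) (Ne.symm hq.2)
        have hx' := And.intro (Ne.symm hx.1) (Ne.symm hx.2)
        have hne' := Ne.symm hne
        have hxp' := Ne.symm hxp
        obtain ⟨σ, hσ, hm⟩ := exists_M24_map' (k := 4) (x := ![none, some 0, p, (r : Equiv.Perm GolayPt) p])
          (y := ![none, some 0, p, x]) (by norm_num)
          (by intro a b h; fin_cases a <;> fin_cases b <;> simp_all)
          (by intro a b h; fin_cases a <;> fin_cases b <;> simp_all)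
        have e0 : σ none = none := hm 0
        have e1 : σ (some 0) = some 0 := hm 1
        have e2 : σ p = p := hm 2
        have e3 : σ ((r : Equiv.Perm GolayPt) p) = x := hm 3
        have hσP : (⟨σ, hσ⟩ : ↥M24) ∈ pairPerm := fun i => by
          show σ i ∈ pairSet ↔ _
          rw [mem_pairSet, mem_pairSet]
          exact or_congr ⟨fun h => σ.injective (h.trans e0.symm), fun h => by rw [h, e0]⟩
            ⟨fun h => σ.injective (h.trans e1.symm), fun h => by rw [h, e1]⟩
        refine ⟨⟨_, hnorm _ hσP _ hr⟩, ?_⟩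
        show σ ((r : Equiv.Perm GolayPt) (σ⁻¹ p)) = x
        rw [Equiv.Perm.inv_def, (σ.symm_apply_eq).2 e2.symm, e3]
    obtain ⟨n, hn⟩ := hR.card_orbit p
    rw [horb, Nat.card_coe_set_eq, Set.ncard_coe_finset] at hn
    have h22 : (Finset.univ \ pairSet).card = 22 := rfl
    rw [h22] at hn
    rcases n with _ | _ | _ | _ | _ | n <;> norm_num at hn
    have : 32 ≤ 2 ^ (n + 5) := Nat.pow_le_pow_right (n := 2) (i := 5) (by norm_num) (by omega)
    omega
  have h0 : (r : Equiv.Perm GolayPt) none ∈ pairSet := (hle hr none).2 (by simp [pairSet])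
  rcases mem_pairSet.1 h0 with h0 | h0
  · refine Subtype.ext (Equiv.ext fun p => ?_)
    show (r : Equiv.Perm GolayPt) p = p
    by_cases hp : p ∈ pairSet
    · rcases mem_pairSet.1 hp with rfl | rfl
      · exact h0
      · rcases mem_pairSet.1 ((hle hr (some 0)).2 hp) with h1 | h1
        · exact absurd ((r : Equiv.Perm GolayPt).injective (h1.trans h0.symm)) (by simp)
        · exact h1
    · exact hfix p hp
  · exact absurd (not_swap h0 hfix) id

theorem finite_Co0 : Finite ↥Co0 := Nat.finite_of_card_ne_zero (by rw [card_Co0]; norm_num)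

/-- Normal two-subgroups of the stabiliser of a pair class are small. -/
theorem two_group_pair {N : Subgroup Co0} (hN : IsPGroup 2 N) (hle : N ≤ classStab pairVec)
    (hnorm : ∀ h ∈ classStab pairVec, ∀ n ∈ N, h * n * h⁻¹ ∈ N) : Nat.card N ≤ 2048 := by
  haveI := finite_Co0
  have hK : N ≤ pairMono.map crossStab.subtype := by
    refine le_of_odd_index hN hle hnorm (by rintro _ ⟨g, hg, rfl⟩; exact hg) ?_
    have h := Subgroup.relIndex_mul_index (H := pairMono.map crossStab.subtype) (K := classStab pairVec)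
      (by rintro _ ⟨g, hg, rfl⟩; exact hg)
    have h1 := (pairMono.map crossStab.subtype).card_mul_index
    rw [Subgroup.card_map_of_injective crossStab.subtype_injective, card_pairMono] at h1
    have h2 := (classStab pairVec).card_mul_index
    have h3 := card_classStab_pair
    rw [card_Co0] at h1 h2 h3
    rintro ⟨k, hk⟩
    rw [hk] at h
    generalize (pairMono.map crossStab.subtype).index = i at *
    generalize (classStab pairVec).index = j at *
    generalize Nat.card (classStab pairVec) = n at *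
    have hn : n = 84610842624000 := by omega
    subst hn
    have hj : j = 98280 := by omega
    subst hj
    omega
  have hN' : IsPGroup 2 (N.subgroupOf crossStab) :=
    hN.of_equiv (Subgroup.subgroupOfEquivOfLe (hK.trans (Subgroup.map_subtype_le _))).symm
  have hR : (N.subgroupOf crossStab).map rho = ⊥ := by
    refine pair_two_group (hN'.map rho) ?_ ?_
    · rintro _ ⟨g, hg, rfl⟩
      rw [← map_pairMono]
      obtain ⟨g', hg', e⟩ := hK hg
      exact ⟨g', hg', congrArg rho (Subtype.ext e)⟩
    · rintro σ hσ _ ⟨g, hg, rfl⟩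
      rw [← map_pairMono] at hσ
      obtain ⟨t, ht, rfl⟩ := hσ
      exact ⟨t * g * t⁻¹, hnorm _ ht _ hg, by simp⟩
  have hle' : N ≤ (rho.ker ⊓ pairMono).map crossStab.subtype := by
    intro n hn
    obtain ⟨g, hg, rfl⟩ := hK hn
    refine ⟨g, ⟨?_, hg⟩, rfl⟩
    have : rho g ∈ (N.subgroupOf crossStab).map rho := ⟨g, hn, rfl⟩
    rw [hR] at this
    exact this
  have := Subgroup.card_le_of_le hle'
  rwa [Subgroup.card_map_of_injective crossStab.subtype_injective, card_pairMono_ker] at this

/-- Normal two-subgroups of the monomial group consist of sign changes. -/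
theorem two_group_cross {N : Subgroup Co0} (hN : IsPGroup 2 N) (hle : N ≤ crossStab)
    (hnorm : ∀ h ∈ crossStab, ∀ n ∈ N, h * n * h⁻¹ ∈ N) : N ≤ diag := by
  haveI := isSimpleGroup_M24
  have hN' : IsPGroup 2 (N.subgroupOf crossStab) := hN.of_equiv (Subgroup.subgroupOfEquivOfLe hle).symm
  haveI : ((N.subgroupOf crossStab).map rho).Normal := by
    refine ⟨fun r hr σ => ?_⟩
    obtain ⟨g, hg, rfl⟩ := hr
    obtain ⟨t, rfl⟩ := rho_surjective σ
    exact ⟨t * g * t⁻¹, hnorm _ t.2 _ hg, by simp⟩
  rcases Subgroup.Normal.eq_bot_or_eq_top (inferInstance : ((N.subgroupOf crossStab).map rho).Normal) with h | h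
  · intro n hn
    refine ⟨⟨n, hle hn⟩, ?_, rfl⟩
    have : rho ⟨n, hle hn⟩ ∈ (N.subgroupOf crossStab).map rho := ⟨⟨n, hle hn⟩, hn, rfl⟩
    rwa [h] at this
  · exfalso
    haveI : Fact (Nat.Prime 2) := ⟨Nat.prime_two⟩
    obtain ⟨n, hn⟩ := (hN'.map rho).exists_card_eq
    rw [h, Subgroup.card_top, card_M24] at hn
    have h3 : 3 ∣ 2 ^ n := by rw [← hn]; norm_num
    exact absurd (Nat.prime_three.dvd_of_dvd_pow h3) (by norm_num)

/-- A sign change moving a class orthogonal to the standard cross by more than that class. -/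
theorem exists_bad_sign : ∃ d ∈ diag, ∃ w : leechLattice, 2 ∣ ip (axis none) w ∧
    ¬ Cong (d • w) w ∧ ¬ Cong (d • w) (w + axis none) := by
  have hk := List.all_eq_true.1 LeechMod.pair_ok 0 (List.mem_range.2 (by norm_num))
  simp only [Bool.and_eq_true] at hk
  obtain ⟨⟨⟨⟨hc, -⟩, ha⟩, h1⟩, -⟩ := hk
  set a := (LeechMod.pairTab.getD 0 (0, 0, 0)).1
  set b := (LeechMod.pairTab.getD 0 (0, 0, 0)).2.1
  let d := mono (1, ⟨ofMask b, ofMask_mem_golayCode hc⟩)
  let w : leechLattice := ⟨LeechMod.octVec a, LeechMod.mem_of_inLB ha⟩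
  refine ⟨d, mem_diag.2 ⟨_, rfl⟩, w, ?_, ?_⟩
  · rw [ip_comm, ip_axis]
    show 2 ∣ LeechMod.octVec a none
    simp only [LeechMod.octVec]; split_ifs <;> norm_num
  let f : leechLattice := pairV none (pt (Fin.ofNat 24 0)) (by decide) 1 1 (Or.inl rfl) (Or.inl rfl)
  have hf : w - d • w = f := by
    refine Subtype.ext (funext fun i => ?_)
    have e : ((2 : ℤ) • LeechMod.restr b (LeechMod.octVec a)) i =
        (LeechMod.e4 none + LeechMod.e4 (pt (Fin.ofNat 24 0))) i :=
      beq_iff_eq.1 (List.all_eq_true.1 h1 i (LeechMod.mem_allPts i))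
    simp only [Pi.smul_apply, smul_eq_mul, LeechMod.restr, Pi.add_apply, LeechMod.e4] at e
    simp only [AddSubgroup.coe_sub, Pi.sub_apply, f, pairV_apply, mul_one, ← e, d, mono_smul, monoFun]
    show w.1 i - _ * w.1 i = _
    by_cases hb : b.testBit (idx i) <;> simp [sgn, ofMask, hb, w] <;> ring
  have hf4 : ip f f = 4 := ip_pairV_self
  constructor
  · intro hcong
    have : Cong f 0 := by
      obtain ⟨z, hz⟩ := cong_symm hcong
      exact ⟨z, by rw [sub_zero, ← hf, hz]⟩
    rcases LatticeMod2.cong_short rootless_ip (by omega)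
      (by rw [LatticeMod2.map_zero_left rootless_ip]; norm_num) this with e | e | ⟨e, -, -⟩
    · rw [← e, LatticeMod2.map_zero_left rootless_ip] at hf4; omega
    · rw [eq_comm, neg_eq_zero] at e
      rw [e, LatticeMod2.map_zero_left rootless_ip] at hf4; omega
    · omega
  · intro hcong
    have : Cong f (axis none) := by
      obtain ⟨z, hz⟩ := hcong
      refine ⟨-z - axis none, ?_⟩
      rw [smul_sub, smul_neg, ← hz, two_nsmul, ← hf]
      abel
    rcases LatticeMod2.cong_short rootless_ip (by omega) (ip_axis_self none).le this with e | e | ⟨e, -, -⟩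
    · rw [← e, ip_axis_self] at hf4; omega
    · rw [← neg_eq_iff_eq_neg.2 e, LatticeMod2.neg_left rootless_ip, ip_comm, LatticeMod2.neg_left rootless_ip,
        neg_neg, ip_axis_self] at hf4; omega
    · omega

end Cfsg.Agent.MonsterT
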