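/-
The stabiliser of a short vector: faithfulness on the orthogonal short vectors, no normal two-subgroup.
-/
import Cfsg.Agent.Lib.MonsterT.Stab
import Cfsg.Prelude.Def_Spor_Conway
set_option autoImplicit false

namespace Cfsg.Agent.MonsterT

open Cfsg Cfsg.Agent.Golay Cfsg.Agent.Leech
open Cfsg.Agent.LatticeMod2 (Rootless Cong)

theorem leechU_eq : Spor.leechU = pairVec := by
  refine Subtype.ext (funext fun i => ?_)
  rw [pairVec_eq]
  show (if i = none ∨ i = some 0 then (4 : ℤ) else 0) = _
  simp only [mem_pairSet]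

theorem pairVec_ne_neg : pairVec ≠ -pairVec :=
  (LatticeMod2.neg_ne_self rootless_ip (fun e => by
    have h1 : ip pairVec pairVec = 4 := ip_pairV_self
    rw [e, LatticeMod2.map_zero_left rootless_ip] at h1; omega)).symm

theorem exists_other (S : Finset GolayPt) (hS : S.card ≤ 4) : ∃ x, x ∉ S := by
  by_contra h
  push Not at h
  have := Finset.eq_univ_iff_forall.2 h
  rw [this] at hS
  exact absurd hS (by decide)

theorem pairV_split {k l : GolayPt} (hkl : k ≠ l) :
    pairV k l hkl 1 1 (Or.inl rfl) (Or.inl rfl) + pairV k l hkl 1 (-1) (Or.inl rfl) (Or.inr rfl) = axis k ∧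
      pairV k l hkl 1 1 (Or.inl rfl) (Or.inl rfl) - pairV k l hkl 1 (-1) (Or.inl rfl) (Or.inr rfl) = axis l := by
  constructor <;> refine Subtype.ext (funext fun i => ?_) <;>
    simp only [AddSubgroup.coe_add, AddSubgroup.coe_sub, Pi.add_apply, Pi.sub_apply, pairV_apply, coe_axis,
      Pi.single_apply]
  · split_ifs <;> omega
  · split_ifs <;> omega

theorem axis_image {g : Co0} {k l : GolayPt} (hkl : k ≠ l)
    (hP : g • pairV k l hkl 1 1 (Or.inl rfl) (Or.inl rfl) = pairV k l hkl 1 1 (Or.inl rfl) (Or.inl rfl) ∨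
      g • pairV k l hkl 1 1 (Or.inl rfl) (Or.inl rfl) = -pairV k l hkl 1 1 (Or.inl rfl) (Or.inl rfl))
    (hM : g • pairV k l hkl 1 (-1) (Or.inl rfl) (Or.inr rfl) = pairV k l hkl 1 (-1) (Or.inl rfl) (Or.inr rfl) ∨
      g • pairV k l hkl 1 (-1) (Or.inl rfl) (Or.inr rfl) = -pairV k l hkl 1 (-1) (Or.inl rfl) (Or.inr rfl)) :
    (∃ (i : GolayPt) (s : ℤ), (i = k ∨ i = l) ∧ (s = 1 ∨ s = -1) ∧ g • axis k = s • axis i) ∧
      ∃ (i : GolayPt) (s : ℤ), (i = k ∨ i = l) ∧ (s = 1 ∨ s = -1) ∧ g • axis l = s • axis i := by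
  obtain ⟨e1, e2⟩ := pairV_split hkl
  rw [← e1, ← e2, co0_add, co0_sub]
  rcases hP with hP | hP <;> rcases hM with hM | hM <;> rw [hP, hM]
  · exact ⟨⟨k, 1, Or.inl rfl, Or.inl rfl, by rw [one_smul, ← e1]⟩, ⟨l, 1, Or.inr rfl, Or.inl rfl, by rw [one_smul, ← e2]⟩⟩
  · exact ⟨⟨l, 1, Or.inr rfl, Or.inl rfl, by rw [one_smul, ← e2]; abel⟩,
      ⟨k, 1, Or.inl rfl, Or.inl rfl, by rw [one_smul, ← e1]; abel⟩⟩
  · exact ⟨⟨l, -1, Or.inr rfl, Or.inr rfl, by rw [neg_one_zsmul, ← e2]; abel⟩,
      ⟨k, -1, Or.inl rfl, Or.inr rfl, by rw [neg_one_zsmul, ← e1]; abel⟩⟩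
  · exact ⟨⟨k, -1, Or.inl rfl, Or.inr rfl, by rw [neg_one_zsmul, ← e1]; abel⟩,
      ⟨l, -1, Or.inr rfl, Or.inr rfl, by rw [neg_one_zsmul, ← e2]; abel⟩⟩

/-- An automorphism fixing all short vectors orthogonal to the pair vector up to sign is central. -/
theorem central_of_fix {g : Co0} (hv : g • pairVec = pairVec ∨ g • pairVec = -pairVec)
    (hu : ∀ u : leechLattice, ip u u = 4 → ip pairVec u = 0 → g • u = u ∨ g • u = -u) :
    g ∈ Subgroup.center Co0 := by
  have hdis : ∀ k l (hkl : k ≠ l) (s t : ℤ) (hs : s = 1 ∨ s = -1) (ht : t = 1 ∨ t = -1),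
      k ∉ pairSet → l ∉ pairSet →
        g • pairV k l hkl s t hs ht = pairV k l hkl s t hs ht ∨
          g • pairV k l hkl s t hs ht = -pairV k l hkl s t hs ht := by
    intro k l hkl s t hs ht hk hl
    rw [mem_pairSet, not_or] at hk hl
    exact hu _ ip_pairV_self (ip_pairV_disjoint (Ne.symm hk.1) (Ne.symm hl.1) (Ne.symm hk.2) (Ne.symm hl.2))
  have hout : ∀ k, k ∉ pairSet → ∃ s : ℤ, (s = 1 ∨ s = -1) ∧ g • axis k = s • axis k := by
    intro k hk
    obtain ⟨l, hl⟩ := exists_other (insert k pairSet) (by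
      rw [Finset.card_insert_of_notMem hk]; decide)
    rw [Finset.mem_insert, not_or] at hl
    obtain ⟨m, hm⟩ := exists_other (insert l (insert k pairSet)) (by
      rw [Finset.card_insert_of_notMem (by simp [hl.1, hl.2]), Finset.card_insert_of_notMem hk]; decide)
    rw [Finset.mem_insert, Finset.mem_insert, not_or, not_or] at hm
    obtain ⟨⟨i, s, hi, hs, e⟩, -⟩ := axis_image (Ne.symm hl.1) (hdis _ _ _ _ _ _ _ hk hl.2) (hdis _ _ _ _ _ _ _ hk hl.2)
    obtain ⟨⟨j, t, hj, ht, e'⟩, -⟩ :=
      axis_image (Ne.symm hm.2.1) (hdis _ _ _ _ _ _ _ hk hm.2.2) (hdis _ _ _ _ _ _ _ hk hm.2.2)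
    have hij := (sgn_axis_inj hs (e.symm.trans e')).1
    rcases hi with rfl | rfl
    · exact ⟨s, hs, e⟩
    · rcases hj with rfl | rfl
      · exact absurd hij hl.1
      · exact absurd hij.symm hm.1
  obtain ⟨hpa, hpb⟩ : (∃ (i : GolayPt) (s : ℤ), (i = none ∨ i = some 0) ∧ (s = 1 ∨ s = -1) ∧
      g • axis none = s • axis i) ∧ ∃ (i : GolayPt) (s : ℤ), (i = none ∨ i = some 0) ∧ (s = 1 ∨ s = -1) ∧
      g • axis (some 0) = s • axis i := by
    refine axis_image (by simp) hv (hu _ ip_pairV_self ?_)
    rw [ip_comm, pairVec]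
    refine ip_pairV _ ?_
    simp [pairV_apply]
  have hstd : g ∈ crossStab := by
    refine mem_crossStab.2 fun v hv' => ?_
    obtain ⟨i, s, hs, rfl⟩ := mem_stdCross_iff.1 hv'
    obtain ⟨j, t, ht, hj⟩ : ∃ (j : GolayPt) (t : ℤ), (t = 1 ∨ t = -1) ∧ g • axis i = t • axis j := by
      by_cases hi : i ∈ pairSet
      · rcases mem_pairSet.1 hi with rfl | rfl
        · obtain ⟨j, t, -, ht, e⟩ := hpa; exact ⟨j, t, ht, e⟩
        · obtain ⟨j, t, -, ht, e⟩ := hpb; exact ⟨j, t, ht, e⟩
      · obtain ⟨t, ht, e⟩ := hout i hi; exact ⟨i, t, ht, e⟩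
    refine mem_stdCross_iff.2 ⟨j, s * t, by rcases hs with rfl | rfl <;> rcases ht with rfl | rfl <;> simp, ?_⟩
    rw [← hom0_apply, map_zsmul, hom0_apply, hj, smul_smul]
  obtain ⟨c, hc⟩ := rho_spec ⟨g, hstd⟩
  set σ := rho ⟨g, hstd⟩
  change mono (σ, c) = g at hc
  have hax : ∀ i, g • axis i = sgn (c : GolayPt → ZMod 2) ((σ : Equiv.Perm GolayPt) i) • axis ((σ : Equiv.Perm GolayPt) i) := by
    intro i; rw [← hc, mono_axis]
  have hfix : ∀ p, p ∉ pairSet → (σ : Equiv.Perm GolayPt) p = p := fun p hp => by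
    obtain ⟨s, hs, e⟩ := hout p hp
    exact (sgn_axis_inj (sgn_cases _ _) ((hax p).symm.trans e)).1
  have hn : (σ : Equiv.Perm GolayPt) none = none ∨ (σ : Equiv.Perm GolayPt) none = some 0 := by
    obtain ⟨i, s, hi, hs, e⟩ := hpa
    rw [(sgn_axis_inj (sgn_cases _ _) ((hax none).symm.trans e)).1]
    exact hi
  rcases hn with hn | hn
  swap
  · exact absurd (not_swap hn hfix) id
  have hσ : σ = 1 := by
    refine Subtype.ext (Equiv.ext fun p => ?_)
    show (σ : Equiv.Perm GolayPt) p = p
    by_cases hp : p ∈ pairSet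
    · rcases mem_pairSet.1 hp with rfl | rfl
      · exact hn
      · obtain ⟨i, s, hi, hs, e⟩ := hpb
        have := (sgn_axis_inj (sgn_cases _ _) ((hax (some 0)).symm.trans e)).1
        rcases hi with rfl | rfl
        · exact absurd ((σ : Equiv.Perm GolayPt).injective (this.trans hn.symm)) (by simp)
        · exact this
    · exact hfix p hp
  have hconst : ∀ k l, k ∉ pairSet → l ∉ pairSet →
      (c : GolayPt → ZMod 2) k = (c : GolayPt → ZMod 2) l := by
    intro k l hk hl
    rcases eq_or_ne k l with rfl | hkl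
    · rfl
    refine sgn_inj' ?_
    rcases hdis k l hkl 1 1 (Or.inl rfl) (Or.inl rfl) hk hl with e | e <;>
      (rw [← hc, hσ] at e
       have e1 := congrFun (congrArg Subtype.val e) k
       have e2 := congrFun (congrArg Subtype.val e) l
       simp only [mono_smul, monoFun, OneMemClass.coe_one, Equiv.Perm.one_def, Equiv.refl_symm, Equiv.refl_apply,
         AddSubgroup.coe_neg, Pi.neg_apply, pairV_apply, hkl, hkl.symm, if_true, if_false] at e1 e2
       omega)
  obtain ⟨k₀, hk₀⟩ := exists_other pairSet (by decide)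
  set a := (c : GolayPt → ZMod 2) k₀
  set d : GolayPt → ZMod 2 := (c : GolayPt → ZMod 2) + a • 1 with hd
  have hdc : d ∈ Cfsg.golayCode := Cfsg.golayCode.add_mem c.2 (Cfsg.golayCode.smul_mem _ one_mem_code)
  have hd0 : ∀ p, p ∉ pairSet → d p = 0 := fun p hp => by
    simp only [hd, Pi.add_apply, Pi.smul_apply, Pi.one_apply, smul_eq_mul, mul_one, hconst p k₀ hp hk₀]
    exact CharTwo.add_self_eq_zero _
  have hzero : ∀ p, d p = 0 := by
    intro p
    by_cases hp : p ∈ pairSet
    · obtain ⟨o, ho⟩ : ∃ o ∈ pairSet, o ≠ p := by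
        rcases mem_pairSet.1 hp with rfl | rfl
        · exact ⟨some 0, by simp [pairSet]⟩
        · exact ⟨none, by simp [pairSet]⟩
      obtain ⟨e, he, he0, he1⟩ := exists_code_separating ho.2
      have h := self_orthogonal hdc he
      rw [Finset.sum_eq_single p (fun q _ hq => ?_) (by simp), he1, mul_one] at h
      · exact h
      · by_cases hqs : q ∈ pairSet
        · have : q = o := by
            rcases mem_pairSet.1 hqs with rfl | rfl <;> rcases mem_pairSet.1 ho.1 with rfl | rfl <;>
              rcases mem_pairSet.1 hp with rfl | rfl <;> first | rfl | exact absurd rfl hq | exact absurd rfl ho.2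
          rw [this, he0, mul_zero]
        · rw [hd0 q hqs, zero_mul]
    · exact hd0 p hp
  rw [mem_center_iff]
  have hca : ∀ p, (c : GolayPt → ZMod 2) p = a := fun p => by
    have := hzero p
    simp only [hd, Pi.add_apply, Pi.smul_apply, Pi.one_apply, smul_eq_mul, mul_one] at this
    rcases zmod2_cases ((c : GolayPt → ZMod 2) p) with q | q <;> rcases zmod2_cases a with r | r <;>
      rw [q, r] at this ⊢ <;> revert this <;> decide
  rcases zmod2_cases a with r | r
  · left
    refine co0_ext fun i => ?_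
    rw [hax, hσ, one_smul]
    simp [sgn, hca, r]
  · right
    refine co0_ext fun i => ?_
    rw [hax, hσ, negCo0_smul]
    simp [sgn, hca, r]
where
  sgn_inj' {c : GolayPt → ZMod 2} {k l : GolayPt} (h : sgn c k = sgn c l) : c k = c l := by
    revert h
    simp only [sgn]
    rcases zmod2_cases (c k) with a | a <;> rcases zmod2_cases (c l) with b | b <;> simp [a, b]

/-- The stabiliser of a short class has no normal two-subgroup outside the centre. -/
theorem two_group_pair_central {N : Subgroup Co0} (hN : IsPGroup 2 N) (hle : N ≤ classStab pairVec)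
    (hnorm : ∀ h ∈ classStab pairVec, ∀ n ∈ N, h * n * h⁻¹ ∈ N) : N ≤ Subgroup.center Co0 := by
  haveI := finite_Co0
  have hK : N ≤ crossStab ∧ ∀ n ∈ N, n ∈ diag := by
    have hK : N ≤ pairMono.map crossStab.subtype := by
      refine le_of_odd_index hN hle hnorm (by rintro _ ⟨g, hg, rfl⟩; exact hg) ?_
      exact odd_pairMono
    refine ⟨hK.trans (Subgroup.map_subtype_le _), ?_⟩
    have hN' : IsPGroup 2 (N.subgroupOf crossStab) :=
      hN.of_equiv (Subgroup.subgroupOfEquivOfLe (hK.trans (Subgroup.map_subtype_le _))).symm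
    have hR : (N.subgroupOf crossStab).map rho = ⊥ := by
      refine pair_two_group (hN'.map rho) ?_ ?_
      · rintro _ ⟨g, hg, rfl⟩
        rw [← map_pairMono]
        obtain ⟨g', hg', e⟩ := hK hg
        exact ⟨g', hg', congrArg rho (Subtype.ext e)⟩
      · rintro σ hσ _ ⟨g, hg, rfl⟩
        rw [← map_pairMono] at hσ
        obtain ⟨t, ht, rfl⟩ := hσ
        exact ⟨t * g * t⁻¹, hnorm _ ht _ hg, by simp⟩
    intro n hn
    have hcs : n ∈ crossStab := hK.trans (Subgroup.map_subtype_le _) hn
    refine ⟨⟨n, hcs⟩, ?_, rfl⟩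
    have : rho ⟨n, hcs⟩ ∈ (N.subgroupOf crossStab).map rho := ⟨⟨n, hcs⟩, hn, rfl⟩
    rwa [hR] at this
  intro n hn
  have hv := mem_classStab_pair.1 (hle hn)
  refine central_of_fix hv fun u hu4 hu0 => ?_
  have hab : (none : GolayPt) ≠ some 0 := by simp
  obtain ⟨h, h1, h2⟩ := exists_pair_frame' (v := pairVec) (w := u) ip_pairV_self hu4 hu0 hab
  obtain ⟨e1, e2⟩ := pairV_split hab
  have hfix : h • pairVec = pairVec := by
    refine Subtype.ext (funext fun i => ?_)
    have e : h • (pairVec + u) + h • (pairVec - u) = h • pairVec + h • pairVec := by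
      rw [co0_add, co0_sub]; abel
    rw [h1, h2] at e
    have := congrFun (congrArg Subtype.val e) i
    simp only [AddSubgroup.coe_add, Pi.add_apply, coe_axis, Pi.single_apply, pairVec_eq, mem_pairSet] at this
    rw [pairVec_eq]
    simp only [mem_pairSet]
    by_cases r : i = none
    · subst r
      simp at this ⊢
      omega
    by_cases r' : i = some 0
    · subst r'
      simp at this ⊢
      omega
    · simp [r, r'] at this ⊢
      omega
  have hd := hK.2 _ (hnorm h (mem_classStab_pair.2 (Or.inl hfix)) n hn)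
  obtain ⟨c, hc⟩ := mem_diag.1 hd
  have hsign : ∀ (x : leechLattice) (i : GolayPt), h • x = axis i → n • x = x ∨ n • x = -x := by
    intro x i hx
    have e : h • n • x = sgn (c : GolayPt → ZMod 2) i • axis i := by
      calc h • n • x = (h * n * h⁻¹) • h • x := by rw [← mul_smul, ← mul_smul]; congr 1; group
        _ = mono (1, c) • axis i := by rw [hc, hx]
        _ = _ := by rw [mono_axis]; simp
    rcases sgn_cases (c : GolayPt → ZMod 2) i with q | q <;> rw [q] at e
    · left
      rw [one_smul, ← hx] at e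
      exact smul_left_cancel _ e
    · right
      rw [neg_one_zsmul, ← hx, ← co0_neg] at e
      exact smul_left_cancel _ e
  have hp := hsign _ _ h1
  have hm := hsign _ _ h2
  rw [co0_add] at hp
  rw [co0_sub] at hm
  have h4 : ip pairVec pairVec = 4 := ip_pairV_self
  have hne1 : u ≠ pairVec := fun e => by rw [e] at hu0; omega
  have hne2 : u ≠ -pairVec := fun e => by
    rw [e, ip_comm, LatticeMod2.neg_left rootless_ip] at hu0; omega
  rcases hv with hv | hv <;> rw [hv] at hp hm <;> rcases hp with hp | hp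
  · left; exact add_left_cancel hp
  · exfalso
    rcases hm with hm | hm
    · have e : n • u = u := by linear_combination (norm := abel) -hm
      rw [e] at hp
      exact hne2 (double_inj (by linear_combination (norm := abel) hp))
    · have e : n • u = -u - (pairVec + pairVec) := by linear_combination (norm := abel) hp
      rw [e] at hm
      exact pairVec_ne_neg (double_inj (by linear_combination (norm := abel) hm))
  · exfalso
    rcases hm with hm | hm
    · have e : n • u = u + (pairVec + pairVec) := by linear_combination (norm := abel) hp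
      rw [e] at hm
      exact pairVec_ne_neg (double_inj (by linear_combination (norm := abel) -hm))
    · have e : n • u = -u := by linear_combination (norm := abel) -hm
      rw [e] at hp
      exact hne2 (double_inj (by linear_combination (norm := abel) -hp))
  · right; linear_combination (norm := abel) hp
where
  odd_pairMono : ¬ 2 ∣ (pairMono.map crossStab.subtype).relIndex (classStab pairVec) := by
    haveI := finite_Co0
    have hsub : pairMono.map crossStab.subtype ≤ classStab pairVec := by rintro _ ⟨g, hg, rfl⟩; exact hg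
    have h := Subgroup.relIndex_mul_index hsub
    have h1 := (pairMono.map crossStab.subtype).card_mul_index
    rw [Subgroup.card_map_of_injective crossStab.subtype_injective, card_pairMono] at h1
    have h2 := (classStab pairVec).card_mul_index
    have h3 := card_classStab_pair
    rw [card_Co0] at h1 h2 h3
    rintro ⟨k, hk⟩
    rw [hk] at h
    generalize (pairMono.map crossStab.subtype).index = i at *
    generalize (classStab pairVec).index = j at *
    generalize Nat.card (classStab pairVec) = n at *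
    have hn : n = 84610842624000 := by omega
    subst hn
    have hj : j = 98280 := by omega
    subst hj
    omega
  double_inj {x y : leechLattice} (h : x + x = y + y) : x = y := by
    refine Subtype.ext (funext fun i => ?_)
    have := congrFun (congrArg Subtype.val h) i
    simp only [AddSubgroup.coe_add, Pi.add_apply] at this
    omega

/-! ### The second Conway group -/

/-- The inclusion of the second Conway group. -/
def co2To0 : ↥Spor.Co2 →* ↥Co0 := Subgroup.inclusion inf_le_left

theorem co2To0_fix (g : ↥Spor.Co2) : co2To0 g • Spor.leechU = Spor.leechU := g.2.2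

theorem co2To0_injective : Function.Injective co2To0 := Subgroup.inclusion_injective _

theorem exists_co2_of_fix {g : ↥Co0} (h : g • Spor.leechU = Spor.leechU) : ∃ g' : ↥Spor.Co2, co2To0 g' = g :=
  ⟨⟨g.1, g.2, h⟩, rfl⟩

theorem co2_center_eq_one {g : ↥Spor.Co2} (h : co2To0 g ∈ Subgroup.center Co0) : g = 1 := by
  refine co2To0_injective ?_
  rcases mem_center_iff.1 h with h | h
  · rw [h, map_one]
  · have := co2To0_fix g
    rw [h, negCo0_smul, leechU_eq] at this
    exact absurd this.symm pairVec_ne_neg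

/-- The second Conway group has no non-trivial normal two-subgroup. -/
theorem co2_two_group {N : Subgroup ↥Spor.Co2} [N.Normal] (hN : IsPGroup 2 N) : N = ⊥ := by
  rw [Subgroup.eq_bot_iff_forall]
  have h := two_group_pair_central (N := N.map co2To0) (hN.map _) (by
    rintro _ ⟨g, -, rfl⟩
    refine mem_classStab_pair.2 (Or.inl ?_)
    rw [← leechU_eq]; exact co2To0_fix g) (by
    rintro x hx _ ⟨g, hg, rfl⟩
    rw [mem_classStab_pair, ← leechU_eq] at hx
    rcases hx with hx | hx
    · obtain ⟨y, rfl⟩ := exists_co2_of_fix hx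
      exact ⟨y * g * y⁻¹, (inferInstance : N.Normal).conj_mem g hg y, by simp⟩
    · obtain ⟨y, hy⟩ := exists_co2_of_fix (g := negCo0 * x) (by rw [mul_smul, hx, negCo0_smul, neg_neg])
      refine ⟨y * g * y⁻¹, (inferInstance : N.Normal).conj_mem g hg y, ?_⟩
      have hc : negCo0 ∈ Subgroup.center Co0 := mem_center_iff.2 (Or.inr rfl)
      rw [map_mul, map_mul, map_inv, hy, mul_inv_rev]
      calc negCo0 * x * co2To0 g * (x⁻¹ * negCo0⁻¹) = negCo0 * (x * co2To0 g * x⁻¹) * negCo0⁻¹ := by group
        _ = x * co2To0 g * x⁻¹ := by rw [← Subgroup.mem_center_iff.1 hc, mul_inv_cancel_right])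
  intro g hg
  exact co2_center_eq_one (h ⟨g, hg, rfl⟩)

/-- The twisted map to the first Conway group. -/
noncomputable def theta (k : ↥Co0) : ↥Spor.Co2 →* Spor.Co1 :=
  (QuotientGroup.mk' (Subgroup.center Co0)).comp ((MulAut.conj k⁻¹).toMonoidHom.comp co2To0)

theorem theta_apply (k : ↥Co0) (g : ↥Spor.Co2) : theta k g = QuotientGroup.mk (k⁻¹ * co2To0 g * k) := by
  show QuotientGroup.mk (k⁻¹ * co2To0 g * k⁻¹⁻¹) = _
  rw [inv_inv]

theorem theta_injective (k : ↥Co0) : Function.Injective (theta k) := by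
  rw [injective_iff_map_eq_one]
  intro g hg
  rw [theta_apply, QuotientGroup.eq_one_iff] at hg
  refine co2_center_eq_one ?_
  have e : co2To0 g = k * (k⁻¹ * co2To0 g * k) * k⁻¹ := by group
  rw [e, Subgroup.mem_center_iff.1 hg k, mul_inv_cancel_right]
  exact hg

theorem theta_mem {k : ↥Co0} {v : leechLattice} (hk : k • v = pairVec) (g : ↥Spor.Co2) :
    k⁻¹ * co2To0 g * k ∈ classStab v := by
  rw [← classStab_conj k hk]
  refine mem_classStab_pair.2 (Or.inl ?_)
  rw [← leechU_eq]
  exact co2To0_fix g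

theorem theta_surj {k : ↥Co0} {v : leechLattice} (hk : k • v = pairVec) {g₀ : ↥Co0} (hg : g₀ ∈ classStab v) :
    ∃ g, theta k g = QuotientGroup.mk g₀ := by
  have hc : k * g₀ * k⁻¹ ∈ classStab pairVec := by
    rw [classStab_conj k hk, show k⁻¹ * (k * g₀ * k⁻¹) * k = g₀ by group]; exact hg
  rw [mem_classStab_pair, ← leechU_eq] at hc
  rcases hc with hc | hc
  · obtain ⟨g, e⟩ := exists_co2_of_fix hc
    exact ⟨g, by rw [theta_apply, e]; congr 1; group⟩
  · obtain ⟨g, e⟩ := exists_co2_of_fix (g := negCo0 * (k * g₀ * k⁻¹)) (by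
      rw [mul_smul, hc, negCo0_smul, neg_neg])
    refine ⟨g, ?_⟩
    have hn : negCo0 ∈ Subgroup.center Co0 := mem_center_iff.2 (Or.inr rfl)
    rw [theta_apply, e, QuotientGroup.eq]
    have : (k⁻¹ * (negCo0 * (k * g₀ * k⁻¹)) * k)⁻¹ * g₀ = negCo0⁻¹ := by
      rw [show k⁻¹ * (negCo0 * (k * g₀ * k⁻¹)) * k = k⁻¹ * negCo0 * k * g₀ by group,
        Subgroup.mem_center_iff.1 hn k⁻¹, inv_mul_cancel_right]
      rw [mul_inv_rev, mul_assoc, ← Subgroup.mem_center_iff.1 (inv_mem hn) g₀, inv_mul_cancel_left]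
    rw [this]
    exact inv_mem hn

end Cfsg.Agent.MonsterT
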