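/-
Groups of Monster type: the classes of the involutions in the extraspecial subgroup.
-/
import Cfsg.Prelude.Def_MonsterType
import Cfsg.Agent.Lib.Components.FStar
import Cfsg.Agent.Lib.FGBasics.Extraspecial
import Cfsg.Agent.Lib.MonsterT.Stab
set_option autoImplicit false

namespace Cfsg.Agent.MonsterT

open Cfsg Cfsg.Agent.Golay Cfsg.Agent.Leech
open Cfsg.Agent.LatticeMod2 (Rootless Cong)

variable {G : Type*} [Group G] [Finite G] {z : G}
  {Q : Subgroup (Subgroup.centralizer ({z} : Set G))} [Q.Normal]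
  {e : (Subgroup.centralizer ({z} : Set G)) ⧸ Q ≃* Spor.Co1} {ψ : leechLattice → Q ⧸ Subgroup.center Q}

/-- The hypotheses. -/
structure MT (z : G) (Q : Subgroup (Subgroup.centralizer ({z} : Set G))) [Q.Normal]
    (e : (Subgroup.centralizer ({z} : Set G)) ⧸ Q ≃* Spor.Co1) (ψ : leechLattice → Q ⧸ Subgroup.center Q) :
    Prop where
  setting : IsExtraspecialCentralizerSetting z Q 12
  iso : IsLeechModTwoIso Q e ψ

/-- The element of the first Conway group of an element of the centralizer. -/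
def piHom (e : (Subgroup.centralizer ({z} : Set G)) ⧸ Q ≃* Spor.Co1) :
    Subgroup.centralizer ({z} : Set G) →* Spor.Co1 :=
  e.toMonoidHom.comp (QuotientGroup.mk' Q)

theorem piHom_surjective (e : (Subgroup.centralizer ({z} : Set G)) ⧸ Q ≃* Spor.Co1) :
    Function.Surjective (piHom e) :=
  e.surjective.comp (QuotientGroup.mk'_surjective Q)

theorem piHom_mem (e : (Subgroup.centralizer ({z} : Set G)) ⧸ Q ≃* Spor.Co1) {y : Subgroup.centralizer ({z} : Set G)}
    (hy : y ∈ Q) : piHom e y = 1 := by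
  show e (QuotientGroup.mk y) = 1
  rw [(QuotientGroup.eq_one_iff y).2 hy, map_one]

/-- Conjugation of the normal subgroup. -/
def cq (h : Subgroup.centralizer ({z} : Set G)) (q : Q) : Q :=
  ⟨h * q * h⁻¹, (inferInstance : Q.Normal).conj_mem (q : Subgroup.centralizer ({z} : Set G)) q.2 h⟩

/-- The element of G. -/
abbrev toG (q : Q) : G := ((q : Subgroup.centralizer ({z} : Set G)) : G)

theorem toG_inj {q r : Q} (h : toG q = toG r) : q = r := Subtype.ext (Subtype.ext h)

/-- The parity of a central element. -/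
noncomputable def chi (x : Q) : ZMod 2 := by classical exact if x = 1 then 0 else 1

theorem chi_eq_zero {x : Q} : chi x = 0 ↔ x = 1 := by
  classical
  unfold chi
  split_ifs with h <;> simp [h]

/-- The commutator pairing. -/
noncomputable def kap (x y : Q) : ZMod 2 := chi (y * x * y⁻¹ * x⁻¹)

theorem kap_eq_zero {x y : Q} : kap x y = 0 ↔ x * y = y * x := by
  rw [kap, chi_eq_zero, mul_inv_eq_one, mul_inv_eq_iff_eq_mul, eq_comm]

namespace MT

section

variable (H : MT z Q e ψ)
include H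

theorem psi_add (u v : leechLattice) : ψ (u + v) = ψ u * ψ v := H.iso.1 u v

theorem psi_surj (q : Q) : ∃ v, ψ v = QuotientGroup.mk q := H.iso.2.1 _

theorem psi_zero : ψ 0 = 1 := by
  have h := H.psi_add 0 0
  rw [add_zero, left_eq_mul] at h
  exact h

theorem psi_eq_iff {u v : leechLattice} : ψ u = ψ v ↔ Cong u v := by
  constructor
  · intro h
    have h1 : ψ (u - v) = 1 := by
      have := H.psi_add (u - v) v
      rw [sub_add_cancel, h, right_eq_mul] at this
      exact this
    obtain ⟨w, hw⟩ := (H.iso.2.2.1 _).1 h1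
    exact ⟨w, by rw [hw, two_nsmul]⟩
  · rintro ⟨w, hw⟩
    rw [show u = (w + w) + v by rw [← two_nsmul, ← hw, sub_add_cancel], H.psi_add,
      (H.iso.2.2.1 _).2 ⟨w, rfl⟩, one_mul]

theorem mem_center_of_eq {q : Q} (h : ψ 0 = QuotientGroup.mk q) : q ∈ Subgroup.center Q := by
  rw [H.psi_zero] at h
  exact (QuotientGroup.eq_one_iff q).1 h.symm

theorem z_mem : (⟨z, Subgroup.mem_centralizer_singleton_iff.2 rfl⟩ : Subgroup.centralizer ({z} : Set G)) ∈ Q := by
  have h := Components.centralizer_generalizedFitting_le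
    (G := Subgroup.centralizer ({z} : Set G))
  rw [H.setting.2.1] at h
  refine h (Subgroup.mem_centralizer_iff.2 fun c _ => Subtype.ext ?_)
  exact Subgroup.mem_centralizer_singleton_iff.1 c.2

theorem center_iff (x : Q) : x ∈ Subgroup.center Q ↔ toG x = 1 ∨ toG x = z := by
  have hz1 : z ≠ 1 := fun h => by
    have := H.setting.1
    rw [h, orderOf_one] at this
    omega
  let zq : Q := ⟨_, H.z_mem⟩
  have hzc : zq ∈ Subgroup.center Q := Subgroup.mem_center_iff.2 fun y =>
    toG_inj (Subgroup.mem_centralizer_singleton_iff.1 (y : Subgroup.centralizer ({z} : Set G)).2)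
  constructor
  · intro hx
    obtain ⟨a, b, -, hall⟩ := Nat.card_eq_two_iff.1 H.setting.2.2.1.2
    have mem : ∀ w : Subgroup.center Q, w = a ∨ w = b := fun w => by
      have : w ∈ ({a, b} : Set (Subgroup.center Q)) := hall ▸ Set.mem_univ w
      exact this
    by_contra hcon
    rw [not_or] at hcon
    have h1 : (⟨x, hx⟩ : Subgroup.center Q) ≠ 1 := fun h => hcon.1 (congrArg (fun w => toG w.1) h)
    have h2 : (⟨x, hx⟩ : Subgroup.center Q) ≠ ⟨zq, hzc⟩ := fun h => hcon.2 (congrArg (fun w => toG w.1) h)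
    have h3 : (⟨zq, hzc⟩ : Subgroup.center Q) ≠ 1 := fun h => hz1 (congrArg (fun w => toG w.1) h)
    rcases mem ⟨x, hx⟩ with e1 | e1 <;> rcases mem ⟨zq, hzc⟩ with e2 | e2 <;> rcases mem 1 with e3 | e3 <;>
      simp_all
  · rintro (h | h)
    · rw [show x = 1 from toG_inj h]; exact one_mem _
    · rw [show x = zq from toG_inj h]; exact hzc

theorem central_eq {a b : Q} (ha : a ∈ Subgroup.center Q) (hb : b ∈ Subgroup.center Q) (ha1 : a ≠ 1)
    (hb1 : b ≠ 1) : a = b := by
  rcases (H.center_iff a).1 ha with h | h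
  · exact absurd (toG_inj h) ha1
  rcases (H.center_iff b).1 hb with h' | h'
  · exact absurd (toG_inj h') hb1
  exact toG_inj (h.trans h'.symm)

theorem mk_comm (x y : Q) : (QuotientGroup.mk (x * y) : Q ⧸ Subgroup.center Q) = QuotientGroup.mk (y * x) := by
  obtain ⟨u, hu⟩ := H.psi_surj x
  obtain ⟨v, hv⟩ := H.psi_surj y
  rw [QuotientGroup.mk_mul, QuotientGroup.mk_mul, ← hu, ← hv, ← H.psi_add, ← H.psi_add, add_comm]

theorem comm_mem (x y : Q) : y * x * y⁻¹ * x⁻¹ ∈ Subgroup.center Q := by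
  rw [← QuotientGroup.eq_one_iff, QuotientGroup.mk_mul, QuotientGroup.mk_mul, H.mk_comm y x,
    ← QuotientGroup.mk_mul, ← QuotientGroup.mk_mul, show x * y * y⁻¹ * x⁻¹ = 1 by group]
  rfl

theorem sq_mem (x : Q) : x * x ∈ Subgroup.center Q := by
  obtain ⟨v, hv⟩ := H.psi_surj x
  rw [← QuotientGroup.eq_one_iff, QuotientGroup.mk_mul, ← hv, ← H.psi_add]
  exact (H.iso.2.2.1 _).2 ⟨v, rfl⟩

theorem center_sq {c : Q} (hc : c ∈ Subgroup.center Q) : c * c = 1 := by
  have h : (⟨c, hc⟩ : Subgroup.center Q) ^ Nat.card (Subgroup.center Q) = 1 := pow_card_eq_one'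
  rw [H.setting.2.2.1.2, pow_two] at h
  exact congrArg Subtype.val h

theorem chi_mul {a b : Q} (ha : a ∈ Subgroup.center Q) (hb : b ∈ Subgroup.center Q) :
    chi (a * b) = chi a + chi b := by
  classical
  by_cases h1 : a = 1
  · simp [chi, h1]
  by_cases h2 : b = 1
  · simp [chi, h2]
  rw [H.central_eq ha hb h1 h2]
  simp only [chi, H.center_sq hb, h2, if_true, if_false]
  rfl

theorem chi_inj {a b : Q} (ha : a ∈ Subgroup.center Q) (hb : b ∈ Subgroup.center Q) (h : chi a = chi b) :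
    a = b := by
  by_cases h1 : a = 1
  · subst h1
    rw [chi_eq_zero.2 rfl, eq_comm, chi_eq_zero] at h
    exact h.symm
  by_cases h2 : b = 1
  · subst h2
    exact absurd (chi_eq_zero.1 (h.trans (chi_eq_zero.2 rfl))) h1
  exact H.central_eq ha hb h1 h2

theorem chi_sq_mul (x y : Q) : chi (x * y * (x * y)) = kap x y + chi (x * x) + chi (y * y) := by
  rw [kap, ← H.chi_mul (H.comm_mem x y) (H.sq_mem x),
    ← H.chi_mul ((Subgroup.center Q).mul_mem (H.comm_mem x y) (H.sq_mem x)) (H.sq_mem y)]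
  congr 1
  have h := Subgroup.mem_center_iff.1 (H.comm_mem x y) x
  calc x * y * (x * y) = x * (y * x * y⁻¹ * x⁻¹) * (x * (y * y)) := by group
    _ = y * x * y⁻¹ * x⁻¹ * x * (x * (y * y)) := by rw [h]
    _ = y * x * y⁻¹ * x⁻¹ * (x * x) * (y * y) := by group

theorem kap_mul (x y w : Q) : kap (x * y) w = kap x w + kap y w := by
  rw [kap, kap, kap, ← H.chi_mul (H.comm_mem x w) (H.comm_mem y w)]
  congr 1
  have h := Subgroup.mem_center_iff.1 (H.comm_mem y w) x⁻¹
  calc w * (x * y) * w⁻¹ * (x * y)⁻¹ = w * x * w⁻¹ * (w * y * w⁻¹ * y⁻¹ * x⁻¹) := by group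
    _ = w * x * w⁻¹ * (x⁻¹ * (w * y * w⁻¹ * y⁻¹)) := by rw [h]
    _ = w * x * w⁻¹ * x⁻¹ * (w * y * w⁻¹ * y⁻¹) := by group

theorem kap_symm (x y : Q) : kap x y = kap y x := by
  by_cases h : x * y = y * x
  · rw [kap_eq_zero.2 h, kap_eq_zero.2 h.symm]
  · have h1 : kap x y ≠ 0 := fun h' => h (kap_eq_zero.1 h')
    have h2 : kap y x ≠ 0 := fun h' => h (kap_eq_zero.1 h').symm
    rcases zmod2_cases (kap x y) with a | a
    · exact absurd a h1
    rcases zmod2_cases (kap y x) with b | b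
    · exact absurd b h2
    rw [a, b]

theorem sq_form : ∀ (v : leechLattice) (q : Q), ψ v = QuotientGroup.mk q → chi (q * q) = LeechMod.q0 v := by
  let F : leechLattice → ZMod 2 := fun v => chi ((ψ v).out * (ψ v).out)
  have hF : ∀ v (q : Q), ψ v = QuotientGroup.mk q → F v = chi (q * q) := by
    intro v q h
    obtain ⟨c, hc, hq⟩ : ∃ c ∈ Subgroup.center Q, (ψ v).out = q * c := by
      refine ⟨q⁻¹ * (ψ v).out, QuotientGroup.eq.1 ?_, by group⟩
      rw [← h]
      exact (Quotient.out_eq _).symm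
    show chi _ = _
    rw [hq, H.chi_sq_mul, kap_eq_zero.2 (Subgroup.mem_center_iff.1 hc q), H.center_sq hc,
      chi_eq_zero.2 rfl, zero_add, add_zero]
  have hform : LeechMod.IsInvForm F := by
    refine ⟨fun u v w => ?_, fun g v => ?_⟩
    · obtain ⟨a, ha⟩ := H.psi_surj (ψ u).out
      obtain ⟨qa, hqa⟩ : ∃ q : Q, ψ u = QuotientGroup.mk q := ⟨_, (Quotient.out_eq _).symm⟩
      obtain ⟨qb, hqb⟩ : ∃ q : Q, ψ v = QuotientGroup.mk q := ⟨_, (Quotient.out_eq _).symm⟩
      obtain ⟨qc, hqc⟩ : ∃ q : Q, ψ w = QuotientGroup.mk q := ⟨_, (Quotient.out_eq _).symm⟩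
      rw [hF (u + v + w) (qa * qb * qc) (by rw [H.psi_add, H.psi_add, hqa, hqb, hqc]; rfl), hF u qa hqa,
        hF v qb hqb, hF w qc hqc, hF (u + v) (qa * qb) (by rw [H.psi_add, hqa, hqb]; rfl),
        hF (u + w) (qa * qc) (by rw [H.psi_add, hqa, hqc]; rfl),
        hF (v + w) (qb * qc) (by rw [H.psi_add, hqb, hqc]; rfl)]
      simp only [H.chi_sq_mul, H.kap_mul]
      ring
    · obtain ⟨q, hq⟩ : ∃ q : Q, ψ v = QuotientGroup.mk q := ⟨_, (Quotient.out_eq _).symm⟩
      obtain ⟨h, hh⟩ := piHom_surjective e (QuotientGroup.mk g)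
      rw [hF _ (cq h q) (H.iso.2.2.2 h g hh.symm v q hq), hF v q hq]
      by_cases h1 : q * q = 1
      · have : cq h q * cq h q = 1 := by
          refine Subtype.ext ?_
          have h1' := congrArg Subtype.val h1
          simp only [Subgroup.coe_mul, Subgroup.coe_one] at h1'
          show (h : Subgroup.centralizer ({z} : Set G)) * q * h⁻¹ * (h * q * h⁻¹) = 1
          calc h * (q : Subgroup.centralizer ({z} : Set G)) * h⁻¹ * (h * q * h⁻¹)
              = h * ((q : Subgroup.centralizer ({z} : Set G)) * q) * h⁻¹ := by group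
            _ = 1 := by rw [h1']; group
        rw [h1, this]
      · have h2 : cq h q * cq h q ≠ 1 := fun h2 => h1 (by
          refine Subtype.ext ?_
          have h2' : (h : Subgroup.centralizer ({z} : Set G)) * q * h⁻¹ * (h * q * h⁻¹) = 1 :=
            congrArg Subtype.val h2
          show (q : Subgroup.centralizer ({z} : Set G)) * q = 1
          calc (q : Subgroup.centralizer ({z} : Set G)) * q
              = h⁻¹ * (h * q * h⁻¹ * (h * q * h⁻¹)) * h := by group
            _ = 1 := by rw [h2']; group)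
        rw [H.central_eq (H.sq_mem _) (H.sq_mem q) h2 h1]
  obtain ⟨c, hc⟩ := LeechMod.form_eq hform
  rcases zmod2_cases c with rfl | rfl
  · exfalso
    have h0 : ∀ x : Q, x * x = 1 := fun x => by
      obtain ⟨v, hv⟩ := H.psi_surj x
      rw [← chi_eq_zero, ← hF v x hv, hc, zero_mul]
    have hcomm : ∀ x y : Q, x * y = y * x := fun x y => by
      have hx := inv_eq_of_mul_eq_one_left (h0 x)
      have hy := inv_eq_of_mul_eq_one_left (h0 y)
      calc x * y = (x * y)⁻¹ := eq_inv_of_mul_eq_one_left (h0 (x * y))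
        _ = y⁻¹ * x⁻¹ := mul_inv_rev _ _
        _ = y * x := by rw [hx, hy]
    have htop : Subgroup.center Q = ⊤ := eq_top_iff.2 fun x _ => Subgroup.mem_center_iff.2 fun y => hcomm y x
    have := H.setting.2.2.1.2
    rw [htop, Subgroup.card_top, H.setting.2.2.2.1] at this
    norm_num at this
  · intro v q h
    rw [← hF v q h, hc, one_mul]

theorem sq_eq_one_iff {v : leechLattice} {q : Q} (h : ψ v = QuotientGroup.mk q) :
    q * q = 1 ↔ (4 : ℤ) ∣ ip v v := by
  rw [← chi_eq_zero, H.sq_form v q h, LeechMod.q0, ZMod.intCast_zmod_eq_zero_iff_dvd]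
  have := eight_ip_self v
  have := sixteen_dvd_sqNorm v.2
  push_cast
  omega

theorem kap_form {u v : leechLattice} {q r : Q} (hu : ψ u = QuotientGroup.mk q) (hv : ψ v = QuotientGroup.mk r) :
    q * r = r * q ↔ (2 : ℤ) ∣ ip u v := by
  have h := H.sq_form (u + v) (q * r) (by rw [H.psi_add, hu, hv]; rfl)
  rw [H.chi_sq_mul, H.sq_form u q hu, H.sq_form v r hv, LeechMod.q0_add] at h
  rw [← kap_eq_zero, show kap q r = ((ip u v : ℤ) : ZMod 2) by linear_combination h,
    ZMod.intCast_zmod_eq_zero_iff_dvd]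
  rfl

theorem not_center {v : leechLattice} {q : Q} (h : ψ v = QuotientGroup.mk q) (hv : ip v v = 4 ∨ ip v v = 8) :
    q ∉ Subgroup.center Q := by
  intro hq
  have hc : Cong v 0 := by
    rw [← H.psi_eq_iff, H.psi_zero, h]
    exact (QuotientGroup.eq_one_iff q).2 hq
  have h0 : ip (0 : leechLattice) 0 = 0 := LatticeMod2.map_zero_left rootless_ip _
  rcases LatticeMod2.cong_short rootless_ip (by omega) (by omega) hc with r | r | ⟨-, r, -⟩
  · rw [← r] at hv; omega
  · rw [eq_comm, neg_eq_zero] at r; rw [r] at hv; omega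
  · omega

theorem exists_class {q : Q} (hq : q ∉ Subgroup.center Q) (h2 : q * q = 1) :
    ∃ v, ψ v = QuotientGroup.mk q ∧ (ip v v = 4 ∨ ip v v = 8) := by
  obtain ⟨u, hu⟩ := H.psi_surj q
  obtain ⟨v, hv8, hc⟩ := counting_leech.1 u
  have hv : ψ v = QuotientGroup.mk q := by rw [← hu]; exact H.psi_eq_iff.2 (cong_symm hc)
  refine ⟨v, hv, ?_⟩
  obtain ⟨k, hk⟩ := (H.sq_eq_one_iff hv).1 h2
  have hne : v ≠ 0 := fun h0 => hq (H.mem_center_of_eq (h0 ▸ hv))
  have := rootless_ip.pos v hne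
  omega

theorem exists_conj {v v' : leechLattice} {q q' : Q} (hq : ψ v = QuotientGroup.mk q)
    (hq' : ψ v' = QuotientGroup.mk q') (hnc : q ∉ Subgroup.center Q) {g : Co0} (hg : Cong (g • v) v') :
    ∃ h, piHom e h = QuotientGroup.mk g ∧ cq h q = q' := by
  obtain ⟨h, hh⟩ := piHom_surjective e (QuotientGroup.mk g)
  have h1 := H.iso.2.2.2 h g hh.symm v q hq
  rw [H.psi_eq_iff.2 hg, hq'] at h1
  obtain ⟨c, hc, hqc⟩ : ∃ c ∈ Subgroup.center Q, q' = cq h q * c :=
    ⟨(cq h q)⁻¹ * q', QuotientGroup.eq.1 h1.symm, by group⟩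
  by_cases hc1 : c = 1
  · exact ⟨h, hh, by rw [hqc, hc1, mul_one]⟩
  have hnc' : cq h q ∉ Subgroup.center Q := fun hmem => by
    have h2 : ψ (g • v) = 1 := by
      rw [H.iso.2.2.2 h g hh.symm v q hq]; exact (QuotientGroup.eq_one_iff _).2 hmem
    have : Cong (g • v) 0 := H.psi_eq_iff.1 (h2.trans H.psi_zero.symm)
    have h3 := co0_cong (g := g⁻¹) this
    rw [inv_smul_smul, show g⁻¹ • (0 : leechLattice) = 0 from map_zero (hom0 g⁻¹)] at h3
    have h4 := H.psi_eq_iff.2 h3
    rw [hq] at h4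
    exact hnc (H.mem_center_of_eq h4.symm)
  obtain ⟨y, hy⟩ : ∃ y : Q, y * cq h q ≠ cq h q * y := by
    by_contra hcon
    push Not at hcon
    exact hnc' (Subgroup.mem_center_iff.2 hcon)
  have hmem := H.comm_mem (cq h q) y
  have hne : y * cq h q * y⁻¹ * (cq h q)⁻¹ ≠ 1 := fun h1 => hy (by
    rwa [mul_inv_eq_one, mul_inv_eq_iff_eq_mul] at h1)
  refine ⟨(y : Subgroup.centralizer ({z} : Set G)) * h, by rw [map_mul, piHom_mem e y.2, one_mul, hh], ?_⟩
  have e1 : cq ((y : Subgroup.centralizer ({z} : Set G)) * h) q = y * cq h q * y⁻¹ := by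
    refine Subtype.ext ?_
    show (y : Subgroup.centralizer ({z} : Set G)) * h * q * ((y : Subgroup.centralizer ({z} : Set G)) * h)⁻¹ =
      y * (h * q * h⁻¹) * (y : Subgroup.centralizer ({z} : Set G))⁻¹
    group
  rw [e1, hqc, Subgroup.mem_center_iff.1 hc (cq h q), ← H.central_eq hmem hc hne hc1]
  group

theorem cong_of_comm {v : leechLattice} {q : Q} (hq : ψ v = QuotientGroup.mk q)
    {h : Subgroup.centralizer ({z} : Set G)} (hcomm : cq h q = q) {g : Co0}
    (hg : piHom e h = QuotientGroup.mk g) : g ∈ classStab v := by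
  have h1 := H.iso.2.2.2 h g hg.symm v q hq
  rw [mem_classStab, ← H.psi_eq_iff, hq]
  exact h1.trans (congrArg QuotientGroup.mk hcomm)

end

end MT

/-! ### A conjugate of the central involution inside the subgroup -/

/-- The intersection of the conjugate subgroup with the centralizer. -/
def conjInt (Q : Subgroup (Subgroup.centralizer ({z} : Set G))) (g : G) :
    Subgroup (Subgroup.centralizer ({z} : Set G)) :=
  ((Q.map (Subgroup.centralizer ({z} : Set G)).subtype).map (MulAut.conj g).toMonoidHom).subgroupOf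
    (Subgroup.centralizer ({z} : Set G))

omit [Finite G] [Q.Normal] in
theorem mem_conjInt {g : G} {x : Subgroup.centralizer ({z} : Set G)} :
    x ∈ conjInt Q g ↔ ∃ q : Q, (x : G) = g * toG q * g⁻¹ := by
  rw [conjInt, Subgroup.mem_subgroupOf]
  constructor
  · rintro ⟨_, ⟨a, ha, rfl⟩, hx⟩
    exact ⟨⟨a, ha⟩, hx.symm⟩
  · rintro ⟨q, hx⟩
    exact ⟨_, ⟨q, q.2, rfl⟩, hx.symm⟩

omit [Finite G] in
/-- Centralizing the conjugate of `z` normalises the intersection. -/
theorem conjInt_normal {g : G} {s : G} (hs : g * z * g⁻¹ = s) {h : Subgroup.centralizer ({z} : Set G)}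
    (hcomm : (h : G) * s = s * h) {x : Subgroup.centralizer ({z} : Set G)} (hx : x ∈ conjInt Q g) :
    h * x * h⁻¹ ∈ conjInt Q g := by
  obtain ⟨q, hq⟩ := mem_conjInt.1 hx
  have hy : g⁻¹ * (h : G) * g ∈ Subgroup.centralizer ({z} : Set G) := by
    rw [Subgroup.mem_centralizer_singleton_iff]
    calc g⁻¹ * (h : G) * g * z = g⁻¹ * ((h : G) * (g * z * g⁻¹)) * g := by group
      _ = g⁻¹ * ((g * z * g⁻¹) * h) * g := by rw [hs, hcomm]
      _ = z * (g⁻¹ * (h : G) * g) := by group
  refine mem_conjInt.2 ⟨cq ⟨_, hy⟩ q, ?_⟩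
  show (h : G) * x * (h : G)⁻¹ = g * (g⁻¹ * (h : G) * g * toG q * (g⁻¹ * (h : G) * g)⁻¹) * g⁻¹
  rw [hq]
  group

namespace MT

section

variable (H : MT z Q e ψ) {g : G} {q₀ : Q} (hs : toG q₀ = g * z * g⁻¹)
include H hs

theorem sq_q₀ : q₀ * q₀ = 1 := by
  refine toG_inj ?_
  show toG q₀ * toG q₀ = 1
  rw [hs]
  have := pow_orderOf_eq_one z
  rw [H.setting.1, pow_two] at this
  calc g * z * g⁻¹ * (g * z * g⁻¹) = g * (z * z) * g⁻¹ := by group
    _ = 1 := by rw [this]; group

theorem q₀_not_center (hne : toG q₀ ≠ z) : q₀ ∉ Subgroup.center Q := by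
  intro h
  rcases (H.center_iff q₀).1 h with h1 | h1
  · rw [hs, mul_inv_eq_one, mul_eq_left] at h1
    have := H.setting.1
    rw [h1, orderOf_one] at this
    omega
  · exact hne h1

theorem conjInt_comm {x : Subgroup.centralizer ({z} : Set G)} (hx : x ∈ conjInt Q g) : cq x q₀ = q₀ := by
  obtain ⟨q, hq⟩ := mem_conjInt.1 hx
  refine toG_inj ?_
  show (x : G) * toG q₀ * (x : G)⁻¹ = toG q₀
  have hz : toG q * z = z * toG q := Subgroup.mem_centralizer_singleton_iff.1 q.1.2
  rw [hq, hs]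
  calc g * toG q * g⁻¹ * (g * z * g⁻¹) * (g * toG q * g⁻¹)⁻¹
      = g * (toG q * z) * (toG q)⁻¹ * g⁻¹ := by group
    _ = g * z * g⁻¹ := by rw [hz]; group

theorem conj_inv_mem : g⁻¹ * z * g ∈ Subgroup.centralizer ({z} : Set G) := by
  have h := Subgroup.mem_centralizer_singleton_iff.1 q₀.1.2
  change toG q₀ * z = z * toG q₀ at h
  rw [hs] at h
  rw [Subgroup.mem_centralizer_singleton_iff]
  calc g⁻¹ * z * g * z = g⁻¹ * (z * (g * z * g⁻¹)) * g := by group
    _ = g⁻¹ * ((g * z * g⁻¹) * z) * g := by rw [h]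
    _ = z * (g⁻¹ * z * g) := by group

theorem card_conjInt :
    Nat.card {q : Q // cq ⟨_, H.conj_inv_mem hs⟩ q = q} = Nat.card (conjInt Q g) := by
  have key : ∀ q : Q, cq ⟨_, H.conj_inv_mem hs⟩ q = q ↔
      g * toG q * g⁻¹ ∈ Subgroup.centralizer ({z} : Set G) := by
    intro q
    rw [Subgroup.mem_centralizer_singleton_iff]
    constructor
    · intro h
      have h' : g⁻¹ * z * g * toG q * (g⁻¹ * z * g)⁻¹ = toG q := congrArg toG h
      rw [mul_inv_eq_iff_eq_mul] at h'
      calc g * toG q * g⁻¹ * z = g * (toG q * (g⁻¹ * z * g)) * g⁻¹ := by group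
        _ = g * (g⁻¹ * z * g * toG q) * g⁻¹ := by rw [h']
        _ = z * (g * toG q * g⁻¹) := by group
    · intro h
      refine toG_inj ?_
      show g⁻¹ * z * g * toG q * (g⁻¹ * z * g)⁻¹ = toG q
      rw [mul_inv_eq_iff_eq_mul]
      calc g⁻¹ * z * g * toG q = g⁻¹ * (z * (g * toG q * g⁻¹)) * g := by group
        _ = g⁻¹ * ((g * toG q * g⁻¹) * z) * g := by rw [h]
        _ = toG q * (g⁻¹ * z * g) := by group
  refine Nat.card_eq_of_bijective (fun q => ⟨⟨g * toG q.1 * g⁻¹, (key q.1).1 q.2⟩,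
    mem_conjInt.2 ⟨q.1, rfl⟩⟩) ⟨fun a b h => ?_, fun x => ?_⟩
  · have h' := congrArg (fun w : conjInt Q g => ((w.1 : Subgroup.centralizer ({z} : Set G)) : G)) h
    simp only [mul_left_inj, mul_right_inj] at h'
    exact Subtype.ext (toG_inj h')
  · obtain ⟨q, hq⟩ := mem_conjInt.1 x.2
    exact ⟨⟨q, (key q).2 (hq ▸ x.1.2)⟩, Subtype.ext (Subtype.ext hq.symm)⟩

theorem card_fixed_ge : 2 ^ 12 ≤ Nat.card (conjInt Q g) := by
  rw [← H.card_conjInt hs]
  set t : Subgroup.centralizer ({z} : Set G) := ⟨_, H.conj_inv_mem hs⟩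
  have ht2 : t * t = 1 := by
    refine Subtype.ext ?_
    show g⁻¹ * z * g * (g⁻¹ * z * g) = 1
    have := pow_orderOf_eq_one z
    rw [H.setting.1, pow_two] at this
    calc g⁻¹ * z * g * (g⁻¹ * z * g) = g⁻¹ * (z * z) * g := by group
      _ = 1 := by rw [this]; group
  have hτ : ∀ a b : Q, cq t (a * b) = cq t a * cq t b := fun a b => Subtype.ext (by
    show t * ((a : Subgroup.centralizer ({z} : Set G)) * b) * t⁻¹ = t * a * t⁻¹ * (t * b * t⁻¹)
    group)
  have hττ : ∀ a : Q, cq t (cq t a) = a := fun a => Subtype.ext (by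
    show t * (t * (a : Subgroup.centralizer ({z} : Set G)) * t⁻¹) * t⁻¹ = a
    rw [inv_eq_of_mul_eq_one_left ht2]
    calc t * (t * (a : Subgroup.centralizer ({z} : Set G)) * t) * t = t * t * a * (t * t) := by group
      _ = a := by rw [ht2]; group)
  have hcm : ∀ a b : Q ⧸ Subgroup.center Q, a * b = b * a := by
    intro a b
    obtain ⟨x, rfl⟩ := QuotientGroup.mk_surjective a
    obtain ⟨y, rfl⟩ := QuotientGroup.mk_surjective b
    exact H.mk_comm x y
  let δ : Q →* Q ⧸ Subgroup.center Q := MonoidHom.mk'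
    (fun x => QuotientGroup.mk x * QuotientGroup.mk (cq t x)) fun a b => by
      simp only [hτ, QuotientGroup.mk_mul]
      calc (QuotientGroup.mk a * QuotientGroup.mk b) * (QuotientGroup.mk (cq t a) * QuotientGroup.mk (cq t b))
          = QuotientGroup.mk a * (QuotientGroup.mk b * QuotientGroup.mk (cq t a)) * QuotientGroup.mk (cq t b) := by
            simp only [mul_assoc]
        _ = QuotientGroup.mk a * (QuotientGroup.mk (cq t a) * QuotientGroup.mk b) * QuotientGroup.mk (cq t b) := by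
            rw [hcm (QuotientGroup.mk b) (QuotientGroup.mk (cq t a))]
        _ = _ := by simp only [mul_assoc]
  have hZW : Subgroup.center Q ≤ δ.ker := fun c hc => by
    show (QuotientGroup.mk c : Q ⧸ Subgroup.center Q) * QuotientGroup.mk (cq t c) = 1
    rw [← QuotientGroup.mk_mul, QuotientGroup.eq_one_iff]
    refine (Subgroup.center Q).mul_mem hc ?_
    refine Subgroup.mem_center_iff.2 fun y => ?_
    rw [← hττ y, ← hτ, ← hτ, Subgroup.mem_center_iff.1 hc]
  have hrange : δ.range ≤ δ.ker.map (QuotientGroup.mk' (Subgroup.center Q)) := by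
    rintro _ ⟨x, rfl⟩
    refine ⟨x * cq t x, ?_, rfl⟩
    show (QuotientGroup.mk (x * cq t x) : Q ⧸ Subgroup.center Q) * QuotientGroup.mk (cq t (x * cq t x)) = 1
    rw [← QuotientGroup.mk_mul, QuotientGroup.eq_one_iff, hτ, hττ]
    have hc : (x * cq t x)⁻¹ * (cq t x * x) ∈ Subgroup.center Q := QuotientGroup.eq.1 (H.mk_comm x (cq t x))
    have := (Subgroup.center Q).mul_mem (H.sq_mem (x * cq t x)) hc
    rwa [show x * cq t x * (x * cq t x) * ((x * cq t x)⁻¹ * (cq t x * x)) = x * cq t x * (cq t x * x) by group]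
      at this
  have hW : 2 * Nat.card δ.range ≤ Nat.card δ.ker := by
    refine le_trans (Nat.mul_le_mul_left 2 (Subgroup.card_le_of_le hrange)) ?_
    have h := ((QuotientGroup.mk' (Subgroup.center Q)).comp δ.ker.subtype).ker.card_mul_index
    rw [Subgroup.index_ker, MonoidHom.range_comp, Subgroup.range_subtype] at h
    have hk : Nat.card ((QuotientGroup.mk' (Subgroup.center Q)).comp δ.ker.subtype).ker = 2 := by
      rw [← MonoidHom.comap_ker, QuotientGroup.ker_mk', ← H.setting.2.2.1.2]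
      exact Nat.card_congr (Subgroup.subgroupOfEquivOfLe hZW).toEquiv
    rw [hk] at h
    exact h.le
  have hQ := δ.ker.card_mul_index
  rw [Subgroup.index_ker, H.setting.2.2.2.1] at hQ
  have h13 : 2 ^ 13 ≤ Nat.card δ.ker := by
    generalize Nat.card δ.ker = w at *
    generalize Nat.card δ.range = r at *
    by_contra hlt
    have h1 : w * (2 * r) ≤ w * w := Nat.mul_le_mul_left w hW
    have h2 : w * w < 2 ^ 13 * 2 ^ 13 := by
      have : w < 2 ^ 13 := by omega
      exact Nat.mul_lt_mul'' this this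
    rw [mul_left_comm, hQ] at h1
    norm_num at h1 h2
    omega
  -- restrict to the elements fixed exactly
  have hcen : ∀ x ∈ δ.ker, x⁻¹ * cq t x ∈ Subgroup.center Q := fun x hx => by
    have hx' : (QuotientGroup.mk x : Q ⧸ Subgroup.center Q) * QuotientGroup.mk (cq t x) = 1 := hx
    rw [← QuotientGroup.mk_mul, QuotientGroup.eq_one_iff] at hx'
    have := (Subgroup.center Q).mul_mem ((Subgroup.center Q).inv_mem (H.sq_mem x)) hx'
    rwa [show (x * x)⁻¹ * (x * cq t x) = x⁻¹ * cq t x by group] at this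
  let ε : δ.ker →* Subgroup.center Q := MonoidHom.mk' (fun x => ⟨_, hcen x.1 x.2⟩) fun a b => Subtype.ext (by
    show (a.1 * b.1)⁻¹ * cq t (a.1 * b.1) = a.1⁻¹ * cq t a.1 * (b.1⁻¹ * cq t b.1)
    rw [hτ]
    calc (a.1 * b.1)⁻¹ * (cq t a.1 * cq t b.1) = b.1⁻¹ * (a.1⁻¹ * cq t a.1) * cq t b.1 := by group
      _ = a.1⁻¹ * cq t a.1 * b.1⁻¹ * cq t b.1 := by rw [Subgroup.mem_center_iff.1 (hcen a.1 a.2) b.1⁻¹]
      _ = _ := by group)
  have hε := ε.ker.card_mul_index
  rw [Subgroup.index_ker] at hε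
  have hεr : Nat.card ε.range ≤ 2 := by
    rw [← H.setting.2.2.1.2]; exact Subgroup.card_le_card_group _
  have hεk : Nat.card ε.ker ≤ Nat.card {q : Q // cq t q = q} := by
    refine Nat.card_le_card_of_injective (fun x => ⟨x.1.1, ?_⟩) fun a b h => ?_
    · have := congrArg Subtype.val (MonoidHom.mem_ker.1 x.2)
      exact (inv_mul_eq_one.1 this).symm
    · exact Subtype.ext (Subtype.ext (congrArg (fun w : {q : Q // cq t q = q} => w.1) h))
  have := Nat.mul_le_mul hεk hεr
  rw [hε] at this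
  omega

theorem card_conjInt_ge (hin : (⟨_, H.conj_inv_mem hs⟩ : Subgroup.centralizer ({z} : Set G)) ∈ Q) :
    2 ^ 24 ≤ Nat.card (conjInt Q g) := by
  rw [← H.card_conjInt hs]
  haveI : Fact (Nat.Prime 2) := ⟨Nat.prime_two⟩
  set t : Q := ⟨_, hin⟩
  have hi := FGBasics.XS.centralizer_index_le H.setting.2.2.1 t
  have hc := (Subgroup.centralizer ({t} : Set Q)).card_mul_index
  rw [H.setting.2.2.2.1] at hc
  have hle : Nat.card (Subgroup.centralizer ({t} : Set Q)) ≤
      Nat.card {q : Q // cq ⟨_, H.conj_inv_mem hs⟩ q = q} := by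
    refine Nat.card_le_card_of_injective (fun x => ⟨x.1, ?_⟩) fun a b h => Subtype.ext (congrArg (fun w => w.1) h)
    refine Subtype.ext ?_
    show (t : Subgroup.centralizer ({z} : Set G)) * x.1 * (t : Subgroup.centralizer ({z} : Set G))⁻¹ = x.1
    rw [mul_inv_eq_iff_eq_mul]
    exact congrArg Subtype.val (Subgroup.mem_centralizer_singleton_iff.1 x.2).symm
  have := Nat.mul_le_mul hle hi
  rw [hc] at this
  omega

theorem int_abelian (hne : toG q₀ ≠ z) {x y : Q} (hx : (x : Subgroup.centralizer ({z} : Set G)) ∈ conjInt Q g)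
    (hy : (y : Subgroup.centralizer ({z} : Set G)) ∈ conjInt Q g) : x * y = y * x := by
  obtain ⟨a, ha⟩ := mem_conjInt.1 hx
  obtain ⟨b, hb⟩ := mem_conjInt.1 hy
  have hc := (H.center_iff _).1 (H.comm_mem x y)
  have hc' := (H.center_iff _).1 (H.comm_mem a b)
  have e : toG (y * x * y⁻¹ * x⁻¹) = g * toG (b * a * b⁻¹ * a⁻¹) * g⁻¹ := by
    show toG y * toG x * (toG y)⁻¹ * (toG x)⁻¹ = g * (toG b * toG a * (toG b)⁻¹ * (toG a)⁻¹) * g⁻¹
    rw [show toG x = g * toG a * g⁻¹ from ha, show toG y = g * toG b * g⁻¹ from hb]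
    group
  rcases hc with h | h
  · exact kap_eq_zero.1 (chi_eq_zero.2 (toG_inj h))
  · rcases hc' with h' | h'
    · rw [h, h'] at e
      have := H.setting.1
      rw [e, mul_one, mul_inv_cancel, orderOf_one] at this
      omega
    · rw [h, h', ← hs] at e
      exact absurd e.symm hne

theorem card_int_le (hne : toG q₀ ≠ z) : Nat.card ((conjInt Q g).subgroupOf Q) ≤ 2 ^ 13 := by
  haveI : Fact (Nat.Prime 2) := ⟨Nat.prime_two⟩
  have h := FGBasics.XS.card_abelian_sq_le H.setting.2.2.1 ((conjInt Q g).subgroupOf Q)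
    ⟨⟨fun a b => Subtype.ext (H.int_abelian hs hne a.2 b.2)⟩⟩
  rw [H.setting.2.2.2.1] at h
  by_contra hlt
  have h2 : 2 ^ 13 * 2 ^ 13 < Nat.card ((conjInt Q g).subgroupOf Q) * Nat.card ((conjInt Q g).subgroupOf Q) :=
    Nat.mul_lt_mul'' (by omega) (by omega)
  norm_num at h h2
  omega

theorem int_small (hne : toG q₀ ≠ z)
    (hout : (⟨_, H.conj_inv_mem hs⟩ : Subgroup.centralizer ({z} : Set G)) ∉ Q) {a : Q}
    (ha : (a : Subgroup.centralizer ({z} : Set G)) ∈ conjInt Q g) : a = 1 ∨ a = q₀ := by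
  have hz : ∀ x : Subgroup.centralizer ({z} : Set G), x ∈ conjInt Q g → (x : G) ≠ z := by
    intro x hx hxz
    obtain ⟨q, hq⟩ := mem_conjInt.1 hx
    refine hout ?_
    rw [show (⟨_, H.conj_inv_mem hs⟩ : Subgroup.centralizer ({z} : Set G)) = q from Subtype.ext (by
      show g⁻¹ * z * g = toG q
      exact (congrArg (fun a => g⁻¹ * a * g) (hxz.symm.trans hq)).trans (by group))]
    exact q.2
  have hR : ∀ r : Q, r * q₀ = q₀ * r → a * r = r * a := by
    intro r hr
    refine kap_eq_zero.1 (chi_eq_zero.2 ?_)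
    rcases (H.center_iff _).1 (H.comm_mem a r) with h | h
    · exact toG_inj h
    · exfalso
      have h1 := conjInt_normal (Q := Q) (g := g) rfl (h := (r : Subgroup.centralizer ({z} : Set G)))
        (by rw [← hs]; exact congrArg toG hr) ha
      exact hz _ ((conjInt Q g).mul_mem h1 ((conjInt Q g).inv_mem ha)) h
  have hcases : a ∈ Subgroup.center Q ∨ a * q₀ ∈ Subgroup.center Q := by
    by_contra hcon
    rw [not_or] at hcon
    obtain ⟨y₁, h1⟩ : ∃ y, kap a y ≠ 0 := by
      by_contra hall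
      push Not at hall
      exact hcon.1 (Subgroup.mem_center_iff.2 fun y => (kap_eq_zero.1 (hall y)).symm)
    obtain ⟨y₂, h2⟩ : ∃ y, kap (a * q₀) y ≠ 0 := by
      by_contra hall
      push Not at hall
      exact hcon.2 (Subgroup.mem_center_iff.2 fun y => (kap_eq_zero.1 (hall y)).symm)
    have hR' : ∀ y, kap q₀ y = 0 → kap a y = 0 := fun y hy => kap_eq_zero.2 (hR y (kap_eq_zero.1 hy).symm)
    have k1 : kap q₀ y₁ = 1 := (zmod2_cases _).resolve_left fun h0 => h1 (hR' _ h0)
    rw [H.kap_mul] at h2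
    have h3 := hR' (y₁ * y₂)
    rw [H.kap_symm q₀, H.kap_mul, H.kap_symm y₁, H.kap_symm y₂, H.kap_symm a, H.kap_mul, H.kap_symm y₁,
      H.kap_symm y₂] at h3
    have k2 : kap a y₁ = 1 := (zmod2_cases _).resolve_left h1
    rcases zmod2_cases (kap q₀ y₂) with k3 | k3
    · rw [k3, hR' _ k3, add_zero] at h2
      exact h2 rfl
    · rw [k1, k2, k3] at h3
      rcases zmod2_cases (kap a y₂) with k4 | k4 <;> rw [k4] at h2 h3
      · exact absurd (h3 (by decide)) (by decide)
      · rw [k3] at h2; exact h2 (by decide)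
  rcases hcases with h | h
  · rcases (H.center_iff a).1 h with h' | h'
    · exact Or.inl (toG_inj h')
    · exact absurd h' (hz _ ha)
  · rcases (H.center_iff _).1 h with h' | h'
    · right
      rw [← inv_eq_of_mul_eq_one_left (H.sq_q₀ hs)]
      exact eq_inv_of_mul_eq_one_left (toG_inj h')
    · exfalso
      refine hz _ ((conjInt Q g).mul_mem ha (y := (q₀ : Subgroup.centralizer ({z} : Set G))) ?_) h'
      exact mem_conjInt.2 ⟨⟨_, H.z_mem⟩, hs⟩

end

end MT

/-- The preimage in the isometry group of the image of the intersection. -/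
def liftInt (e : (Subgroup.centralizer ({z} : Set G)) ⧸ Q ≃* Spor.Co1) (g : G) : Subgroup Co0 :=
  ((conjInt Q g).map (piHom e)).comap (QuotientGroup.mk' (Subgroup.center Co0))

theorem card_liftInt (e : (Subgroup.centralizer ({z} : Set G)) ⧸ Q ≃* Spor.Co1) (g : G) :
    Nat.card (liftInt e g) * Nat.card ((conjInt Q g).subgroupOf Q) = 2 * Nat.card (conjInt Q g) := by
  haveI := finite_Co0
  have hidx : (liftInt e g).index = ((conjInt Q g).map (piHom e)).index :=
    Subgroup.index_comap_of_surjective _ (QuotientGroup.mk'_surjective _)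
  have h1 := (liftInt e g).card_mul_index
  rw [hidx] at h1
  have h2 := ((conjInt Q g).map (piHom e)).card_mul_index
  have h3 := Subgroup.card_eq_card_quotient_mul_card_subgroup (Subgroup.center Co0)
  rw [card_center] at h3
  have hpos : 0 < ((conjInt Q g).map (piHom e)).index := by
    rw [← hidx]; exact Nat.pos_of_ne_zero Subgroup.index_ne_zero_of_finite
  have h5 : Nat.card (liftInt e g) = 2 * Nat.card ((conjInt Q g).map (piHom e)) := by
    refine Nat.eq_of_mul_eq_mul_right hpos ?_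
    rw [h1, mul_assoc, h2, h3]
    exact mul_comm _ _
  have h4 := ((piHom e).comp (conjInt Q g).subtype).ker.card_mul_index
  rw [Subgroup.index_ker, MonoidHom.range_comp, Subgroup.range_subtype] at h4
  have hker : Nat.card ((piHom e).comp (conjInt Q g).subtype).ker = Nat.card ((conjInt Q g).subgroupOf Q) := by
    refine Nat.card_eq_of_bijective
      (fun x => ⟨⟨(x.1 : Subgroup.centralizer ({z} : Set G)), ?_⟩, x.1.2⟩) ⟨fun a b h => ?_, fun x => ?_⟩
    · have := MonoidHom.mem_ker.1 x.2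
      have h' : e (QuotientGroup.mk (x.1 : Subgroup.centralizer ({z} : Set G))) = 1 := this
      rw [← QuotientGroup.eq_one_iff]
      exact e.injective (h'.trans (map_one e).symm)
    · exact Subtype.ext (Subtype.ext (congrArg (fun w => ((w.1 : Q) : Subgroup.centralizer ({z} : Set G))) h))
    · exact ⟨⟨⟨_, x.2⟩, MonoidHom.mem_ker.2 (piHom_mem e x.1.2)⟩, rfl⟩
  rw [h5, ← h4, hker]
  ring

omit [Finite G] in
theorem isPGroup_conjInt (hQ : IsPGroup 2 Q) (g : G) : IsPGroup 2 (conjInt Q g) :=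
  (((hQ.map (Subgroup.centralizer ({z} : Set G)).subtype).map (MulAut.conj g).toMonoidHom)).comap_subtype

/-- The subgroup moved by an element. -/
abbrev moved (N : Subgroup Co0) (k : Co0) : Subgroup Co0 := N.map (MulAut.conj k).toMonoidHom

theorem card_moved (N : Subgroup Co0) (k : Co0) : Nat.card (moved N k) = Nat.card N :=
  Subgroup.card_map_of_injective (MulAut.conj k).injective

namespace MT

section

variable (H : MT z Q e ψ) {g : G} {q₀ : Q} (hs : toG q₀ = g * z * g⁻¹)
include H hs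

theorem moved_props {v w : leechLattice} (hv : ψ v = QuotientGroup.mk q₀) (hnc : q₀ ∉ Subgroup.center Q)
    {k : Co0} (hk : k • v = w) :
    IsPGroup 2 (moved (liftInt e g) k) ∧ moved (liftInt e g) k ≤ classStab w ∧
      ∀ h ∈ classStab w, ∀ n ∈ moved (liftInt e g) k, h * n * h⁻¹ ∈ moved (liftInt e g) k := by
  have hle : liftInt e g ≤ classStab v := by
    intro n hn
    obtain ⟨x, hx, hxn⟩ := hn
    exact H.cong_of_comm hv (H.conjInt_comm hs hx) hxn
  refine ⟨?_, ?_, ?_⟩
  · have hker : IsPGroup 2 (QuotientGroup.mk' (Subgroup.center Co0)).ker := by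
      rw [QuotientGroup.ker_mk']
      exact IsPGroup.of_card (n := 1) (by rw [card_center]; norm_num)
    exact ((((isPGroup_conjInt H.setting.2.2.1.1.1 g).map (piHom e)).comap_of_ker_isPGroup _ hker)).map _
  · rintro _ ⟨n, hn, rfl⟩
    rw [classStab_conj k hk]
    show k⁻¹ * (k * n * k⁻¹) * k ∈ classStab v
    rw [show k⁻¹ * (k * n * k⁻¹) * k = n by group]
    exact hle hn
  · rintro h hh _ ⟨n, hn, rfl⟩
    rw [classStab_conj k hk] at hh
    obtain ⟨x, hx, hxn⟩ := hn
    obtain ⟨u, hu, hucq⟩ := H.exists_conj hv hv hnc (g := k⁻¹ * h * k) hh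
    have hcomm : (u : G) * toG q₀ = toG q₀ * u := by
      have h' : (u : G) * toG q₀ * (u : G)⁻¹ = toG q₀ := congrArg toG hucq
      exact mul_inv_eq_iff_eq_mul.1 h'
    refine ⟨k⁻¹ * h * k * n * (k⁻¹ * h * k)⁻¹,
      ⟨u * x * u⁻¹, conjInt_normal hs.symm hcomm hx, ?_⟩, ?_⟩
    · show piHom e (u * x * u⁻¹) = QuotientGroup.mk' _ _
      rw [map_mul, map_mul, map_inv, map_mul, map_mul, map_inv, hu, hxn]
      rfl
    · show k * (k⁻¹ * h * k * n * (k⁻¹ * h * k)⁻¹) * k⁻¹ = h * (k * n * k⁻¹) * h⁻¹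
      group

theorem liftInt_ge (hne : toG q₀ ≠ z) : 4096 ≤ Nat.card (liftInt e g) := by
  have hc := card_liftInt e g
  by_cases hin : (⟨_, H.conj_inv_mem hs⟩ : Subgroup.centralizer ({z} : Set G)) ∈ Q
  · have h1 := H.card_conjInt_ge hs hin
    have h2 := H.card_int_le hs hne
    by_contra hlt
    have : Nat.card (liftInt e g) * Nat.card ((conjInt Q g).subgroupOf Q) ≤ 4095 * 2 ^ 13 :=
      Nat.mul_le_mul (by omega) h2
    omega
  · have h1 := H.card_fixed_ge hs
    have h2 : Nat.card ((conjInt Q g).subgroupOf Q) ≤ 2 := by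
      classical
      have hq1 : q₀ ≠ 1 := fun h1 => H.q₀_not_center hs hne (h1 ▸ one_mem _)
      refine le_trans (Nat.card_le_card_of_injective (fun a => decide (a.1 = 1)) fun a b h => ?_)
        (show Nat.card Bool ≤ 2 by simp)
      apply Subtype.ext
      rcases H.int_small hs hne hin a.2 with ea | ea <;> rcases H.int_small hs hne hin b.2 with eb | eb
      all_goals first
        | exact ea.trans eb.symm
        | (exfalso; simp [ea, eb, hq1] at h)
    by_contra hlt
    have : Nat.card (liftInt e g) * Nat.card ((conjInt Q g).subgroupOf Q) ≤ 4095 * 2 :=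
      Nat.mul_le_mul (by omega) h2
    omega

/-- **The class of a conjugate of the central involution, and the image of the conjugate subgroup.** -/
theorem main (hne : toG q₀ ≠ z) : ∃ v : leechLattice, ∃ k : Co0, ip v v = 8 ∧ ψ v = QuotientGroup.mk q₀ ∧
    k • v = axis none ∧ moved (liftInt e g) k = diag ∧
      (⟨_, H.conj_inv_mem hs⟩ : Subgroup.centralizer ({z} : Set G)) ∈ Q := by
  haveI := finite_Co0
  have hnc := H.q₀_not_center hs hne
  obtain ⟨v, hv, hv48⟩ := H.exists_class hnc (H.sq_q₀ hs)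
  have hge := H.liftInt_ge hs hne
  rcases hv48 with h4 | h8
  · exfalso
    obtain ⟨k, hk⟩ := transitive4 h4 (w := pairVec) ip_pairV_self
    obtain ⟨p1, p2, p3⟩ := H.moved_props hs hv hnc hk
    have := two_group_pair p1 p2 p3
    rw [card_moved] at this
    omega
  obtain ⟨k, hk⟩ := exists_to_axis h8 none
  obtain ⟨p1, p2, p3⟩ := H.moved_props hs hv hnc hk
  rw [classStab_axis] at p2 p3
  have hN := two_group_cross p1 p2 p3
  have heq : moved (liftInt e g) k = diag := by
    refine Subgroup.eq_of_le_of_card_ge hN ?_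
    rw [card_moved, card_diag]
    exact hge
  refine ⟨v, k, h8, hv, hk, heq, ?_⟩
  by_contra hout
  obtain ⟨d, hd, w, hw, hb1, hb2⟩ := exists_bad_sign
  rw [← heq] at hd
  obtain ⟨n, ⟨x, hx, hxn⟩, rfl⟩ := hd
  obtain ⟨r, hr⟩ : ∃ r : Q, ψ (k⁻¹ • w) = QuotientGroup.mk r := ⟨_, (Quotient.out_eq _).symm⟩
  have hrs : r * q₀ = q₀ * r := by
    rw [H.kap_form hr hv, ← co0_ip k, smul_inv_smul, hk, ip_comm]
    exact hw
  have hmem : ((cq x r * r⁻¹ : Q) : Subgroup.centralizer ({z} : Set G)) ∈ conjInt Q g := by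
    show x * r * x⁻¹ * (r : Subgroup.centralizer ({z} : Set G))⁻¹ ∈ conjInt Q g
    have h1 := conjInt_normal hs.symm (h := (r : Subgroup.centralizer ({z} : Set G)))
      (congrArg toG hrs) ((conjInt Q g).inv_mem hx)
    have h2 := (conjInt Q g).mul_mem hx h1
    rwa [show x * ((r : Subgroup.centralizer ({z} : Set G)) * x⁻¹ * (r : Subgroup.centralizer ({z} : Set G))⁻¹) =
      x * r * x⁻¹ * (r : Subgroup.centralizer ({z} : Set G))⁻¹ by group] at h2
  have hψ := H.iso.2.2.2 x n hxn.symm (k⁻¹ • w) r hr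
  change ψ (n • k⁻¹ • w) = QuotientGroup.mk (cq x r) at hψ
  have hkn : (MulAut.conj k).toMonoidHom n • w = k • n • k⁻¹ • w := by
    show (k * n * k⁻¹) • w = _
    rw [mul_smul, mul_smul]
  rcases H.int_small hs hne hout hmem with h1 | h1
  · apply hb1
    rw [hkn]
    rw [mul_inv_eq_one] at h1
    rw [h1, ← hr, H.psi_eq_iff] at hψ
    have := co0_cong (g := k) hψ
    rwa [smul_inv_smul] at this
  · apply hb2
    rw [hkn]
    rw [mul_inv_eq_iff_eq_mul] at h1
    rw [h1, QuotientGroup.mk_mul, ← hr, ← hv, ← H.psi_add, H.psi_eq_iff] at hψ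
    have := co0_cong (g := k) hψ
    rwa [co0_add, smul_inv_smul, hk, add_comm] at this

end

end MT

end Cfsg.Agent.MonsterT
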