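/-
Groups of Monster type: fusion of involutions and the structure of the intersection of two conjugates.
-/
import Cfsg.Agent.Lib.MonsterT.Basic
set_option autoImplicit false

namespace Cfsg.Agent.MonsterT

open Cfsg Cfsg.Agent.Golay Cfsg.Agent.Leech
open Cfsg.Agent.LatticeMod2 (Rootless Cong)

variable {G : Type*} [Group G] [Finite G] {z : G}
  {Q : Subgroup (Subgroup.centralizer ({z} : Set G))} [Q.Normal]
  {e : (Subgroup.centralizer ({z} : Set G)) ⧸ Q ≃* Spor.Co1} {ψ : leechLattice → Q ⧸ Subgroup.center Q}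

namespace MT

variable (H : MT z Q e ψ)
include H

theorem sq_eq_one {q : Q} (h : IsConj z (toG q)) : q * q = 1 := by
  obtain ⟨g, hg⟩ := isConj_iff.1 h
  exact H.sq_q₀ (g := g) hg.symm

theorem eight_of_conj {q : Q} (h : IsConj z (toG q)) (hne : toG q ≠ z) :
    ∃ v : leechLattice, ip v v = 8 ∧ ψ v = QuotientGroup.mk q := by
  obtain ⟨g, hg⟩ := isConj_iff.1 h
  obtain ⟨v, k, h8, hv, -⟩ := H.main (g := g) hg.symm hne
  exact ⟨v, h8, hv⟩

theorem exists_trans {v v' : leechLattice} {q q' : Q} (hq : ψ v = QuotientGroup.mk q)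
    (hq' : ψ v' = QuotientGroup.mk q') (heq : ip v v = ip v' v') (h48 : ip v v = 4 ∨ ip v v = 8) :
    ∃ h : Subgroup.centralizer ({z} : Set G), (h : G) * toG q * (h : G)⁻¹ = toG q' := by
  obtain ⟨g, hg⟩ : ∃ g : Co0, g • v = v' := by
    rcases h48 with h4 | h8
    · exact transitive4 h4 (heq ▸ h4)
    · obtain ⟨a, ha⟩ := exists_to_axis h8 none
      obtain ⟨b, hb⟩ := exists_to_axis (heq ▸ h8) none
      exact ⟨b⁻¹ * a, by rw [mul_smul, ha, ← hb, inv_smul_smul]⟩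
  obtain ⟨h, -, hh⟩ := H.exists_conj hq hq' (H.not_center hq h48) (g := g) ⟨0, by simp [hg]⟩
  exact ⟨h, congrArg toG hh⟩

theorem conj_of_eight {v : leechLattice} {q : Q} (hv : ψ v = QuotientGroup.mk q) (h8 : ip v v = 8) :
    IsConj z (toG q) ∧ toG q ≠ z := by
  obtain ⟨g, ⟨hgC, hgQ⟩, hne⟩ := H.setting.2.2.2.2
  let q₁ : Q := ⟨_, hgQ⟩
  have hconj : IsConj z (toG q₁) := isConj_iff.2 ⟨g, rfl⟩
  obtain ⟨v₁, h1, hv1⟩ := H.eight_of_conj hconj hne
  obtain ⟨h, hh⟩ := H.exists_trans hv1 hv (h1.trans h8.symm) (Or.inr h1)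
  exact ⟨hconj.trans (isConj_iff.2 ⟨h, hh⟩),
    fun hz => H.not_center hv (Or.inr h8) ((H.center_iff q).2 (Or.inr hz))⟩

theorem four_of_not_conj {q : Q} (ho : orderOf (toG q) = 2) (h : ¬ IsConj z (toG q)) :
    ∃ v : leechLattice, ip v v = 4 ∧ ψ v = QuotientGroup.mk q := by
  have h2 : q * q = 1 := toG_inj (by
    show toG q * toG q = 1
    have := pow_orderOf_eq_one (toG q)
    rwa [ho, pow_two] at this)
  have hnc : q ∉ Subgroup.center Q := fun hc => by
    rcases (H.center_iff q).1 hc with h1 | h1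
    · rw [h1, orderOf_one] at ho; omega
    · exact h (isConj_iff.2 ⟨1, by simpa using h1.symm⟩)
  obtain ⟨v, hv, h4 | h8⟩ := H.exists_class hnc h2
  · exact ⟨v, h4, hv⟩
  · exact absurd (H.conj_of_eight hv h8).1 h

theorem card_inter {g : G} {q₀ : Q} (hs : toG q₀ = g * z * g⁻¹) (hne : toG q₀ ≠ z) :
    Nat.card ((conjInt Q g).subgroupOf Q) = 2 ^ 13 := by
  obtain ⟨v, k, -, -, -, heq, hin⟩ := H.main hs hne
  have h1 := H.card_int_le hs hne
  have h2 := H.card_conjInt_ge hs hin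
  have hc := card_liftInt e g
  rw [← card_moved _ k, heq, card_diag] at hc
  omega

end MT

/-- The section of the permutation map. -/
noncomputable def secHom : ↥M24 →* ↥crossStab :=
  MonoidHom.mk' (fun σ => ⟨mono (σ, 0), mono_mem _⟩) fun a b => Subtype.ext (co0_ext fun i => by
    show mono (a * b, 0) • axis i = (mono (a, 0) * mono (b, 0)) • axis i
    rw [mul_smul, mono_axis, mono_axis, ← hom0_apply, map_zsmul, hom0_apply, mono_axis]
    simp [sgn])

theorem rho_secHom (σ : ↥M24) : rho (secHom σ) = σ := rho_mono _ _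

theorem diag_sq {d : ↥crossStab} (hd : d ∈ rho.ker) : d * d = 1 := by
  obtain ⟨c, hc⟩ := rho_spec d
  rw [MonoidHom.mem_ker.1 hd] at hc
  refine Subtype.ext (co0_ext fun i => ?_)
  show ((d : Co0) * d) • axis i = (1 : Co0) • axis i
  rw [← hc, mul_smul, one_smul, mono_axis, ← hom0_apply, map_zsmul, hom0_apply, mono_axis, smul_smul]
  simp [sgn_mul_self]

theorem center_le_diag {c : Co0} (hc : c ∈ Subgroup.center Co0) : c ∈ diag := by
  rcases mem_center_iff.1 hc with rfl | rfl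
  · exact one_mem _
  · exact mem_diag.2 ⟨_, rfl⟩

/-- The map from the monomial group onto the stabiliser of a class in the quotient. -/
noncomputable def phi (e : (Subgroup.centralizer ({z} : Set G)) ⧸ Q ≃* Spor.Co1) (k : Co0) :
    ↥crossStab →* (Subgroup.centralizer ({z} : Set G)) ⧸ Q :=
  e.symm.toMonoidHom.comp ((QuotientGroup.mk' (Subgroup.center Co0)).comp
    ((MulAut.conj k⁻¹).toMonoidHom.comp crossStab.subtype))

omit [Finite G] in
theorem phi_spec (k : Co0) (t : ↥crossStab) {x : Subgroup.centralizer ({z} : Set G)} :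
    phi e k t = QuotientGroup.mk x ↔ piHom e x = QuotientGroup.mk (k⁻¹ * t * k) := by
  show e.symm (QuotientGroup.mk (k⁻¹ * (t : Co0) * k⁻¹⁻¹)) = QuotientGroup.mk x ↔ _
  rw [inv_inv, MulEquiv.symm_apply_eq]
  exact eq_comm

omit [Finite G] in
theorem phi_eq_one {k : Co0} {t : ↥crossStab} : phi e k t = 1 ↔ (t : Co0) ∈ Subgroup.center Co0 := by
  show e.symm (QuotientGroup.mk (k⁻¹ * (t : Co0) * k⁻¹⁻¹)) = 1 ↔ _
  rw [MulEquiv.symm_apply_eq, map_one, QuotientGroup.eq_one_iff, inv_inv]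
  constructor
  · intro h
    have := Subgroup.mem_center_iff.1 h k
    have e1 : (t : Co0) = k * (k⁻¹ * t * k) * k⁻¹ := by group
    rw [e1, this, mul_inv_cancel_right]
    exact h
  · intro h
    rw [mul_assoc, ← Subgroup.mem_center_iff.1 h k, inv_mul_cancel_left]
    exact h

theorem card_phi_ker (k : Co0) : Nat.card ((rho.ker).map (phi e k)) = 2 ^ 11 := by
  haveI := finite_Co0
  have h := ((phi e k).comp rho.ker.subtype).ker.card_mul_index
  rw [Subgroup.index_ker, MonoidHom.range_comp, Subgroup.range_subtype, card_rho_ker] at h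
  have hk : Nat.card ((phi e k).comp rho.ker.subtype).ker = 2 := by
    rw [← card_center]
    refine Nat.card_eq_of_bijective (fun x => ⟨((x.1 : ↥crossStab) : Co0), phi_eq_one.1 x.2⟩) ⟨fun a b h => ?_,
      fun c => ?_⟩
    · exact Subtype.ext (Subtype.ext (Subtype.ext (congrArg (fun w : Subgroup.center Co0 => (w : Co0)) h)))
    · obtain ⟨t, ht, htc⟩ := center_le_diag c.2
      exact ⟨⟨⟨t, ht⟩, phi_eq_one.2 (by show crossStab.subtype t ∈ _; rw [htc]; exact c.2)⟩, Subtype.ext htc⟩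
  rw [hk] at h
  omega

namespace MT

variable (H : MT z Q e ψ)
include H

theorem structure_quotient {g : G} {q₀ : Q} (hs : toG q₀ = g * z * g⁻¹) (hne : toG q₀ ≠ z)
    (X E : Subgroup ((Subgroup.centralizer ({z} : Set G)) ⧸ Q))
    (hX : X = ((Subgroup.centralizer ({z} : Set G) ⊓ Subgroup.centralizer ({toG q₀} : Set G)).subgroupOf
      (Subgroup.centralizer ({z} : Set G))).map (QuotientGroup.mk' Q))
    (hE : E = (conjInt Q g).map (QuotientGroup.mk' Q)) :
    E ≤ X ∧ (∀ x ∈ X, ∀ y ∈ E, x * y * x⁻¹ ∈ E) ∧ IsElementaryAbelian 2 E ∧ Nat.card E = 2 ^ 11 ∧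
      ∃ K : Subgroup ((Subgroup.centralizer ({z} : Set G)) ⧸ Q), K ≤ X ∧ E ⊓ K = ⊥ ∧ E ⊔ K = X ∧
        Nonempty (K ≃* M24) := by
  obtain ⟨v, k, h8, hv, hk, heq, -⟩ := H.main hs hne
  have hnc := H.q₀_not_center hs hne
  have hX' : X = (phi e k).range := by
    rw [hX]
    ext x
    constructor
    · rintro ⟨u, hu, rfl⟩
      obtain ⟨g₀, hg₀⟩ := QuotientGroup.mk_surjective (piHom e u)
      have hu' : cq u q₀ = q₀ := toG_inj (by
        show (u : G) * toG q₀ * (u : G)⁻¹ = toG q₀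
        rw [mul_inv_eq_iff_eq_mul]
        exact Subgroup.mem_centralizer_singleton_iff.1 hu.2)
      have hmem := H.cong_of_comm hv hu' hg₀.symm
      have hc : k * g₀ * k⁻¹ ∈ crossStab := by
        rw [← classStab_axis, classStab_conj k hk]
        rwa [show k⁻¹ * (k * g₀ * k⁻¹) * k = g₀ by group]
      refine ⟨⟨_, hc⟩, (phi_spec k _).2 ?_⟩
      rw [← hg₀]
      show _ = QuotientGroup.mk (k⁻¹ * (k * g₀ * k⁻¹) * k)
      rw [show k⁻¹ * (k * g₀ * k⁻¹) * k = g₀ by group]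
    · rintro ⟨t, rfl⟩
      have ht : k⁻¹ * (t : Co0) * k ∈ classStab v := by
        rw [← classStab_conj k hk, classStab_axis]; exact t.2
      obtain ⟨u, hu, hcu⟩ := H.exists_conj hv hv hnc ht
      refine ⟨u, ⟨u.2, ?_⟩, ((phi_spec k t).2 hu).symm⟩
      show (u : G) ∈ Subgroup.centralizer ({toG q₀} : Set G)
      rw [Subgroup.mem_centralizer_singleton_iff]
      exact mul_inv_eq_iff_eq_mul.1 (congrArg toG hcu : (u : G) * toG q₀ * (u : G)⁻¹ = toG q₀)
  have hE' : E = rho.ker.map (phi e k) := by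
    rw [hE]
    ext x
    constructor
    · rintro ⟨u, hu, rfl⟩
      obtain ⟨g₀, hg₀⟩ := QuotientGroup.mk_surjective (piHom e u)
      have hd : k * g₀ * k⁻¹ ∈ diag := by
        rw [← heq]; exact ⟨g₀, ⟨u, hu, hg₀.symm⟩, rfl⟩
      obtain ⟨t, ht, htd⟩ := hd
      refine ⟨t, ht, (phi_spec k t).2 ?_⟩
      rw [show (t : Co0) = k * g₀ * k⁻¹ from htd, ← hg₀, show k⁻¹ * (k * g₀ * k⁻¹) * k = g₀ by group]
    · rintro ⟨t, ht, rfl⟩
      have hd : (t : Co0) ∈ diag := ⟨t, ht, rfl⟩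
      rw [← heq] at hd
      obtain ⟨g₀, ⟨u, hu, hu'⟩, hg₀⟩ := hd
      refine ⟨u, hu, ((phi_spec k t).2 ?_).symm⟩
      rw [hu', ← hg₀]
      show QuotientGroup.mk g₀ = QuotientGroup.mk (k⁻¹ * (k * g₀ * k⁻¹) * k)
      rw [show k⁻¹ * (k * g₀ * k⁻¹) * k = g₀ by group]
  subst hX' hE'
  refine ⟨Subgroup.map_le_range _ _, ?_, ⟨⟨⟨?_⟩⟩, ?_⟩, card_phi_ker k, ((phi e k).comp secHom).range, ?_, ?_, ?_, ?_⟩
  · rintro _ ⟨a, rfl⟩ _ ⟨b, hb, rfl⟩
    refine ⟨a * b * a⁻¹, (MonoidHom.normal_ker rho).conj_mem b hb a, by simp⟩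
  · rintro ⟨_, a, ha, rfl⟩ ⟨_, b, hb, rfl⟩
    refine Subtype.ext ?_
    show phi e k a * phi e k b = phi e k b * phi e k a
    rw [← map_mul, ← map_mul]
    congr 1
    have h1 := diag_sq (rho.ker.mul_mem ha hb)
    calc a * b = (a * b)⁻¹ := eq_inv_of_mul_eq_one_left h1
      _ = b⁻¹ * a⁻¹ := mul_inv_rev _ _
      _ = b * a := by rw [inv_eq_of_mul_eq_one_left (diag_sq ha), inv_eq_of_mul_eq_one_left (diag_sq hb)]
  · rintro _ ⟨a, ha, rfl⟩
    rw [pow_two, ← map_mul, diag_sq ha, map_one]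
  · rintro _ ⟨σ, rfl⟩
    exact ⟨_, rfl⟩
  · rw [eq_bot_iff]
    rintro _ ⟨⟨d, hd, rfl⟩, σ, hσ⟩
    have h1 : phi e k (d⁻¹ * secHom σ) = 1 := by
      rw [map_mul, map_inv, inv_mul_eq_one]; exact hσ.symm
    obtain ⟨t, ht, htd⟩ := center_le_diag (phi_eq_one.1 h1)
    have h2 : rho (d⁻¹ * secHom σ) = 1 := by
      rw [← Subtype.ext htd]; exact ht
    rw [map_mul, map_inv, rho_secHom, MonoidHom.mem_ker.1 hd, inv_one, one_mul] at h2
    rw [Subgroup.mem_bot, ← hσ, h2, map_one]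
  · refine le_antisymm (sup_le (Subgroup.map_le_range _ _)
      (by rintro _ ⟨σ, rfl⟩; exact ⟨_, rfl⟩)) ?_
    rintro _ ⟨t, rfl⟩
    rw [show t = (t * (secHom (rho t))⁻¹) * secHom (rho t) by group, map_mul]
    refine Subgroup.mul_mem_sup ⟨_, ?_, rfl⟩ ⟨rho t, rfl⟩
    rw [SetLike.mem_coe, MonoidHom.mem_ker, map_mul, map_inv, rho_secHom, mul_inv_cancel]
  · refine ⟨(MonoidHom.ofInjective ?_).symm⟩
    rw [injective_iff_map_eq_one]
    intro σ hσ
    obtain ⟨t, ht, htd⟩ := center_le_diag (phi_eq_one.1 (hσ : phi e k (secHom σ) = 1))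
    rw [← rho_secHom σ, ← Subtype.ext htd]
    exact ht

end MT

end Cfsg.Agent.MonsterT
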