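/-
The centralizer of an involution of the second class in a group of Monster type is of Baby Monster type.
-/
import Cfsg.Agent.Lib.MonsterT.Consequences
import Cfsg.Agent.Lib.MonsterT.BabyStab
import Cfsg.Agent.Lib.Components.Local
import Cfsg.Agent.Lib.Solvable.NilpotentFrattini
import Cfsg.Agent.Lib.LocalEven.Frattini
set_option autoImplicit false

namespace Cfsg.Agent.MonsterT

open Cfsg Cfsg.Agent.Golay Cfsg.Agent.Leech
open Cfsg.Agent.LatticeMod2 (Rootless Cong)
open scoped commutatorElement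

variable {G : Type*} [Group G] [Finite G] {z : G}
  {Q : Subgroup (Subgroup.centralizer ({z} : Set G))} [Q.Normal]
  {e : (Subgroup.centralizer ({z} : Set G)) ⧸ Q ≃* Spor.Co1} {ψ : leechLattice → Q ⧸ Subgroup.center Q}

/-- A sign change moving a vector by a vector of norm four. -/
theorem exists_sign_four : ∃ d ∈ diag, ∃ w : leechLattice, 2 ∣ ip (axis none) w ∧
    ip (d • w - w) (d • w - w) = 4 := by
  have hk := List.all_eq_true.1 LeechMod.pair_ok 0 (List.mem_range.2 (by norm_num))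
  simp only [Bool.and_eq_true] at hk
  obtain ⟨⟨⟨⟨hc, -⟩, ha⟩, h1⟩, -⟩ := hk
  set a := (LeechMod.pairTab.getD 0 (0, 0, 0)).1
  set b := (LeechMod.pairTab.getD 0 (0, 0, 0)).2.1
  let d := mono (1, ⟨ofMask b, ofMask_mem_golayCode hc⟩)
  let w : leechLattice := ⟨LeechMod.octVec a, LeechMod.mem_of_inLB ha⟩
  refine ⟨d, mem_diag.2 ⟨_, rfl⟩, w, ?_, ?_⟩
  · rw [ip_comm, ip_axis]
    show 2 ∣ LeechMod.octVec a none
    simp only [LeechMod.octVec]; split_ifs <;> norm_num
  let f : leechLattice := pairV none (pt (Fin.ofNat 24 0)) (by decide) 1 1 (Or.inl rfl) (Or.inl rfl)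
  have hf : d • w - w = -f := by
    refine Subtype.ext (funext fun i => ?_)
    have e : ((2 : ℤ) • LeechMod.restr b (LeechMod.octVec a)) i =
        (LeechMod.e4 none + LeechMod.e4 (pt (Fin.ofNat 24 0))) i :=
      beq_iff_eq.1 (List.all_eq_true.1 h1 i (LeechMod.mem_allPts i))
    simp only [Pi.smul_apply, smul_eq_mul, LeechMod.restr, Pi.add_apply, LeechMod.e4] at e
    simp only [AddSubgroup.coe_sub, Pi.sub_apply, AddSubgroup.coe_neg, Pi.neg_apply, f, pairV_apply, mul_one,
      ← e, d, mono_smul, monoFun]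
    show _ * w.1 i - w.1 i = _
    by_cases hb : b.testBit (idx i) <;> simp [sgn, ofMask, hb, w] <;> ring
  rw [hf, LatticeMod2.neg_left rootless_ip, ip_comm, LatticeMod2.neg_left rootless_ip, neg_neg]
  exact ip_pairV_self

/-- An automorphism acting trivially on the classes orthogonal to a short class modulo it is central. -/
theorem central_of_class_fix {v : leechLattice} {k : Co0} (hk : k • v = pairVec) {g : Co0}
    (hg : g ∈ classStab v)
    (h : ∀ x : leechLattice, 2 ∣ ip v x → Cong (g • x) x ∨ Cong (g • x) (x + v)) :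
    g ∈ Subgroup.center Co0 := by
  have hc : k * g * k⁻¹ ∈ classStab pairVec := by
    rw [classStab_conj k hk, show k⁻¹ * (k * g * k⁻¹) * k = g by group]; exact hg
  have hcen : k * g * k⁻¹ ∈ Subgroup.center Co0 := by
    refine central_of_fix (mem_classStab_pair.1 hc) fun u hu4 hu0 => ?_
    have hip : ip v (k⁻¹ • u) = 0 := by rw [← co0_ip k, smul_inv_smul, hk, hu0]
    have h4 : ip ((k * g * k⁻¹) • u) ((k * g * k⁻¹) • u) = 4 := by rw [co0_ip, hu4]
    rcases h (k⁻¹ • u) (by rw [hip]; exact dvd_zero 2) with hh | hh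
    · have := co0_cong (g := k) hh
      rw [smul_inv_smul, ← mul_smul, ← mul_smul] at this
      rcases LatticeMod2.cong_short rootless_ip (by omega) (by omega) this with r | r | ⟨r, -, -⟩
      · exact Or.inl r.symm
      · exact Or.inr (neg_eq_iff_eq_neg.2 r).symm
      · omega
    · exfalso
      have := co0_cong (g := k) hh
      rw [co0_add, smul_inv_smul, hk, ← mul_smul, ← mul_smul] at this
      have h8 : ip (u + pairVec) (u + pairVec) = 8 := by
        rw [LatticeMod2.norm_add rootless_ip, hu4, ip_comm, hu0]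
        have h4' : ip pairVec pairVec = 4 := ip_pairV_self
        omega
      rcases LatticeMod2.cong_short rootless_ip (by omega) h8.le this with r | r | ⟨r, -, -⟩
      · rw [r] at h8; omega
      · rw [r, LatticeMod2.neg_left rootless_ip, ip_comm, LatticeMod2.neg_left rootless_ip, neg_neg] at h8
        omega
      · omega
  have e : g = k⁻¹ * (k * g * k⁻¹) * k := by group
  rw [e, Subgroup.mem_center_iff.1 hcen k⁻¹, inv_mul_cancel_right]
  exact hcen

namespace MT

variable (H : MT z Q e ψ)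
include H

theorem not_conj_of_four {q : Q} {v : leechLattice} (hv : ψ v = QuotientGroup.mk q) (h4 : ip v v = 4) :
    ¬ IsConj z (toG q) ∧ orderOf (toG q) = 2 := by
  have hnc := H.not_center hv (Or.inl h4)
  constructor
  · intro h
    obtain ⟨w, h8, hw⟩ := H.eight_of_conj h (fun e => hnc ((H.center_iff q).2 (Or.inr e)))
    have hc : Cong v w := H.psi_eq_iff.1 (hv.trans hw.symm)
    rcases LatticeMod2.cong_short rootless_ip (by omega) h8.le hc with r | r | ⟨r, -, -⟩
    · rw [r] at h8; omega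
    · rw [r, LatticeMod2.neg_left rootless_ip, ip_comm, LatticeMod2.neg_left rootless_ip, neg_neg] at h8; omega
    · omega
  · refine orderOf_eq_prime ?_ fun h1 => hnc ((H.center_iff q).2 (Or.inl h1))
    rw [pow_two]
    exact congrArg toG ((H.sq_eq_one_iff hv).2 ⟨1, by rw [h4]; norm_num⟩)

/-- The fusion inside the centralizer of an involution of the second class. -/
theorem exists_fused {qt : Q} (ho : orderOf (toG qt) = 2) (hn : ¬ IsConj z (toG qt)) :
    ∃ (y : G) (r : Q), y * toG qt = toG qt * y ∧ toG r = y * z * y⁻¹ ∧ toG r ≠ z ∧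
      toG r ≠ z * toG qt ∧ r * qt = qt * r := by
  obtain ⟨g, ⟨hgC, hgQ⟩, hne⟩ := H.setting.2.2.2.2
  let q₀ : Q := ⟨_, hgQ⟩
  have hs : toG q₀ = g * z * g⁻¹ := rfl
  have hne' : toG q₀ ≠ z := hne
  obtain ⟨v₀, k, -, hv₀, hk, heq, hin⟩ := H.main hs hne'
  obtain ⟨d, hd, w, hw, hf⟩ := exists_sign_four
  rw [← heq] at hd
  obtain ⟨n, ⟨x, hx, hxn⟩, rfl⟩ := hd
  obtain ⟨r, hr⟩ : ∃ r : Q, ψ (k⁻¹ • w) = QuotientGroup.mk r := ⟨_, (Quotient.out_eq _).symm⟩
  have hrs : r * q₀ = q₀ * r := by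
    rw [H.kap_form hr hv₀, ← co0_ip k, smul_inv_smul, hk, ip_comm]
    exact hw
  set a : Q := cq x r * r⁻¹
  have hmem : (a : Subgroup.centralizer ({z} : Set G)) ∈ conjInt Q g := by
    show x * r * x⁻¹ * (r : Subgroup.centralizer ({z} : Set G))⁻¹ ∈ conjInt Q g
    have h1 := conjInt_normal hs.symm (h := (r : Subgroup.centralizer ({z} : Set G)))
      (congrArg toG hrs) ((conjInt Q g).inv_mem hx)
    have h2 := (conjInt Q g).mul_mem hx h1
    rwa [show x * ((r : Subgroup.centralizer ({z} : Set G)) * x⁻¹ * (r : Subgroup.centralizer ({z} : Set G))⁻¹) =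
      x * r * x⁻¹ * (r : Subgroup.centralizer ({z} : Set G))⁻¹ by group] at h2
  have hψ := H.iso.2.2.2 x n hxn.symm (k⁻¹ • w) r hr
  change ψ (n • k⁻¹ • w) = QuotientGroup.mk (cq x r) at hψ
  have hu : ψ (n • k⁻¹ • w - k⁻¹ • w) = QuotientGroup.mk a := by
    have := H.psi_add (n • k⁻¹ • w - k⁻¹ • w) (k⁻¹ • w)
    rw [sub_add_cancel, hψ, hr] at this
    rw [show a = cq x r * r⁻¹ from rfl, QuotientGroup.mk_mul, QuotientGroup.mk_inv, this, mul_inv_cancel_right]
  have hu4 : ip (n • k⁻¹ • w - k⁻¹ • w) (n • k⁻¹ • w - k⁻¹ • w) = 4 := by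
    rw [← co0_ip k, co0_sub, smul_inv_smul]
    have : (MulAut.conj k).toMonoidHom n • w = k • n • k⁻¹ • w := by
      show (k * n * k⁻¹) • w = _
      rw [mul_smul, mul_smul]
    rwa [← this]
  obtain ⟨hanc, hao⟩ := H.not_conj_of_four hu hu4
  obtain ⟨v, hv4, hv⟩ := H.four_of_not_conj ho hn
  obtain ⟨h, hh⟩ := H.exists_trans hu hv (hu4.trans hv4.symm) (Or.inl hu4)
  obtain ⟨b, hb⟩ := mem_conjInt.1 hmem
  have hb' : toG qt = (h : G) * g * toG b * ((h : G) * g)⁻¹ := by
    rw [← hh, show toG a = g * toG b * g⁻¹ from hb]; group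
  have hconj : IsConj (toG b) (toG qt) := isConj_iff.2 ⟨(h : G) * g, hb'.symm⟩
  have hbo : orderOf (toG b) = 2 := by
    have e : toG qt = MulAut.conj ((h : G) * g) (toG b) := by rw [MulAut.conj_apply]; exact hb'
    rw [← ho, e]
    exact (orderOf_injective (MulAut.conj ((h : G) * g)).toMonoidHom
      (MulAut.conj ((h : G) * g)).injective (toG b)).symm
  obtain ⟨vb, hvb4, hvb⟩ := H.four_of_not_conj hbo (fun hh' => hn (hh'.trans hconj))
  obtain ⟨h', hh'⟩ := H.exists_trans hvb hv (hvb4.trans hv4.symm) (Or.inl hvb4)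
  have hz : ∀ u : Subgroup.centralizer ({z} : Set G), (u : G) * z * (u : G)⁻¹ = z := fun u => by
    rw [Subgroup.mem_centralizer_singleton_iff.1 u.2, mul_inv_cancel_right]
  have hzh : (h' : G)⁻¹ * z * (h' : G) = z := by
    have := hz h'⁻¹
    rwa [InvMemClass.coe_inv, inv_inv] at this
  set y := (h : G) * g * (h' : G)⁻¹ with hy
  have hyt : y * toG qt = toG qt * y := by
    have : y * toG qt * y⁻¹ = toG qt := by
      rw [hy]
      calc (h : G) * g * (h' : G)⁻¹ * toG qt * ((h : G) * g * (h' : G)⁻¹)⁻¹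
          = (h : G) * g * ((h' : G)⁻¹ * toG qt * (h' : G)) * ((h : G) * g)⁻¹ := by group
        _ = toG qt := by
          rw [show (h' : G)⁻¹ * toG qt * (h' : G) = toG b by rw [← hh']; group]
          exact hb'.symm
    exact mul_inv_eq_iff_eq_mul.1 this
  have hr1 : toG (cq h q₀) = y * z * y⁻¹ := by
    show (h : G) * toG q₀ * (h : G)⁻¹ = _
    rw [hy, hs]
    calc (h : G) * (g * z * g⁻¹) * (h : G)⁻¹ = (h : G) * g * z * ((h : G) * g)⁻¹ := by group
      _ = (h : G) * g * ((h' : G)⁻¹ * z * (h' : G)) * ((h : G) * g)⁻¹ := by rw [hzh]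
      _ = _ := by group
  refine ⟨y, cq h q₀, hyt, hr1, fun e1 => hne' ?_, fun e1 => ?_, ?_⟩
  · have h1 : (h : G) * toG q₀ * (h : G)⁻¹ = z := e1
    have h2 := hz h⁻¹
    rw [InvMemClass.coe_inv, inv_inv] at h2
    have e0 : toG q₀ = (h : G)⁻¹ * ((h : G) * toG q₀ * (h : G)⁻¹) * (h : G) := by group
    exact e0.trans ((congrArg (fun p => (h : G)⁻¹ * p * (h : G)) h1).trans h2)
  · let zq : Q := ⟨_, H.z_mem⟩
    have hzq : ψ v = QuotientGroup.mk (zq * qt) := by
      rw [hv, QuotientGroup.mk_mul, (QuotientGroup.eq_one_iff zq).2 ((H.center_iff zq).2 (Or.inr rfl)), one_mul]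
    refine (H.not_conj_of_four hzq hv4).1 ?_
    show IsConj z (z * toG qt)
    exact isConj_iff.2 ⟨y, hr1.symm.trans e1⟩
  · refine toG_inj ?_
    show toG (cq h q₀) * toG qt = toG qt * toG (cq h q₀)
    rw [hr1]
    have hzt : z * toG qt = toG qt * z := (Subgroup.mem_centralizer_singleton_iff.1 qt.1.2).symm
    have hyi : y⁻¹ * toG qt = toG qt * y⁻¹ := ((show Commute y (toG qt) from hyt).inv_left).eq
    rw [mul_assoc, hyi, ← mul_assoc, mul_assoc y z, hzt, ← mul_assoc y, hyt]
    group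

set_option maxHeartbeats 1000000 in
/-- **The centralizer modulo the involution is of Baby Monster type.** -/
theorem baby {qt : Q} (ho : orderOf (toG qt) = 2) (hn : ¬ IsConj z (toG qt))
    [hN : ((Subgroup.zpowers (toG qt)).subgroupOf (Subgroup.centralizer ({toG qt} : Set G))).Normal] :
    IsOfBabyMonsterType (↥(Subgroup.centralizer ({toG qt} : Set G)) ⧸
      (Subgroup.zpowers (toG qt)).subgroupOf (Subgroup.centralizer ({toG qt} : Set G))) := by
  classical
  haveI : Fact (Nat.Prime 2) := ⟨Nat.prime_two⟩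
  set CT := Subgroup.centralizer ({toG qt} : Set G) with hCT
  set N := (Subgroup.zpowers (toG qt)).subgroupOf CT with hNdef
  obtain ⟨v, hv4, hv⟩ := H.four_of_not_conj ho hn
  obtain ⟨k, hk⟩ := transitive4 hv4 (w := pairVec) ip_pairV_self
  have hz1 : z ≠ 1 := fun h => by
    have := H.setting.1
    rw [h, orderOf_one] at this
    omega
  have ht2 : toG qt * toG qt = 1 := by
    have := pow_orderOf_eq_one (toG qt)
    rwa [ho, pow_two] at this
  have hq2 : qt * qt = 1 := toG_inj ht2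
  have hztne : z ≠ toG qt := fun h => hn (isConj_iff.2 ⟨1, by simpa using h⟩)
  have hzt : z * toG qt = toG qt * z := (Subgroup.mem_centralizer_singleton_iff.1 qt.1.2).symm
  have hNmem : ∀ x : CT, x ∈ N ↔ (x : G) = 1 ∨ (x : G) = toG qt := by
    intro x
    rw [hNdef, Subgroup.mem_subgroupOf]
    constructor
    · intro hx
      obtain ⟨i, hi⟩ := Subgroup.mem_zpowers_iff.1 hx
      rcases Int.even_or_odd' i with ⟨m, rfl | rfl⟩
      · left; rw [← hi, zpow_mul, zpow_two, ht2, one_zpow]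
      · right; rw [← hi, zpow_add, zpow_mul, zpow_one, zpow_two, ht2, one_zpow, one_mul]
    · rintro (h | h) <;> rw [h]
      · exact one_mem _
      · exact Subgroup.mem_zpowers _
  have hzCT : z ∈ CT := Subgroup.mem_centralizer_singleton_iff.2 hzt
  set zb : ↥CT ⧸ N := QuotientGroup.mk (⟨z, hzCT⟩ : CT) with hzb
  set D := Subgroup.centralizer ({zb} : Set (↥CT ⧸ N)) with hDdef
  let D1 : Subgroup ↥CT := (Subgroup.centralizer ({z} : Set G)).subgroupOf CT
  have hconjzt : ¬ IsConj z (z * toG qt) := by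
    let zq : Q := ⟨_, H.z_mem⟩
    have hzq : ψ v = QuotientGroup.mk (zq * qt) := by
      rw [hv, QuotientGroup.mk_mul, (QuotientGroup.eq_one_iff zq).2 ((H.center_iff zq).2 (Or.inr rfl)), one_mul]
    exact (H.not_conj_of_four hzq hv4).1
  have hD : ∀ x : CT, (QuotientGroup.mk x : ↥CT ⧸ N) ∈ D ↔ x ∈ D1 := by
    intro x
    rw [hDdef, Subgroup.mem_centralizer_singleton_iff, Subgroup.mem_subgroupOf,
      Subgroup.mem_centralizer_singleton_iff, hzb, ← QuotientGroup.mk_mul, ← QuotientGroup.mk_mul,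
      QuotientGroup.eq, hNmem]
    constructor
    · intro h
      rcases h with h | h
      · exact inv_mul_eq_one.1 h
      · exfalso
        apply hconjzt
        refine isConj_iff.2 ⟨(x : G)⁻¹, ?_⟩
        have e : z * (x : G) = (x : G) * z * toG qt := by
          have := congrArg (fun p => ((x : G) * z) * p) h
          simp only [Subgroup.coe_mul, InvMemClass.coe_inv] at this
          rwa [mul_inv_cancel_left] at this
        calc (x : G)⁻¹ * z * ((x : G)⁻¹)⁻¹ = (x : G)⁻¹ * (z * (x : G)) := by group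
          _ = z * toG qt := by rw [e]; group
    · intro h
      left
      show ((x : G) * z)⁻¹ * (z * (x : G)) = 1
      rw [h, inv_mul_cancel]
  let j : ↥D1 →* ↥D := ((QuotientGroup.mk' N).comp D1.subtype).codRestrict D fun x => (hD x.1).2 x.2
  have hj : Function.Surjective j := by
    intro x
    obtain ⟨y, hy⟩ := QuotientGroup.mk_surjective x.1
    exact ⟨⟨y, (hD y).1 (hy ▸ x.2)⟩, Subtype.ext hy⟩
  have hjker : ∀ d : D1, j d = 1 ↔ ((d : CT) : G) = 1 ∨ ((d : CT) : G) = toG qt := fun d => by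
    rw [← hNmem, ← QuotientGroup.eq_one_iff]
    exact ⟨fun h => congrArg Subtype.val h, fun h => Subtype.ext h⟩
  let Cq : Subgroup Q := Subgroup.centralizer ({qt} : Set Q)
  have hCqG : ∀ r : Cq, toG r.1 ∈ CT := fun r =>
    Subgroup.mem_centralizer_singleton_iff.2 (congrArg toG (Subgroup.mem_centralizer_singleton_iff.1 r.2))
  let jQ : ↥Cq →* ↥D1 := MonoidHom.mk' (fun r => ⟨⟨toG r.1, hCqG r⟩, r.1.1.2⟩) fun a b => rfl
  let jR : ↥Cq →* ↥D := j.comp jQ
  have hjR : ∀ r : Cq, jR r = 1 ↔ r.1 = 1 ∨ r.1 = qt := fun r => by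
    show j (jQ r) = 1 ↔ _
    rw [hjker]
    exact or_congr ⟨fun h => toG_inj h, fun h => congrArg toG h⟩ ⟨fun h => toG_inj h, fun h => congrArg toG h⟩
  let iota : ↥D1 →* ↥(Subgroup.centralizer ({z} : Set G)) :=
    MonoidHom.mk' (fun d => ⟨((d : CT) : G), d.2⟩) fun a b => rfl
  have hiota : ∀ d : D1, cq (iota d) qt = qt := fun d => toG_inj (by
    show ((d : CT) : G) * toG qt * (((d : CT) : G))⁻¹ = toG qt
    rw [mul_inv_eq_iff_eq_mul]
    exact Subgroup.mem_centralizer_singleton_iff.1 d.1.2)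
  have hrange : ∀ d : D1, piHom e (iota d) ∈ (theta k).range := fun d => by
    obtain ⟨g₀, hg₀⟩ := QuotientGroup.mk_surjective (piHom e (iota d))
    obtain ⟨g, hg⟩ := theta_surj hk (H.cong_of_comm hv (hiota d) hg₀.symm)
    exact ⟨g, hg.trans hg₀⟩
  let f : ↥D1 →* ↥Spor.Co2 := ((MonoidHom.ofInjective (theta_injective k)).symm.toMonoidHom).comp
    (((piHom e).comp iota).codRestrict (theta k).range hrange)
  have hf : ∀ d : D1, theta k (f d) = piHom e (iota d) := fun d =>
    congrArg Subtype.val ((MonoidHom.ofInjective (theta_injective k)).apply_symm_apply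
      ⟨piHom e (iota d), hrange d⟩)
  have hnc : qt ∉ Subgroup.center Q := H.not_center hv (Or.inl hv4)
  have hfs : Function.Surjective f := by
    intro g
    obtain ⟨h, hh, hh'⟩ := H.exists_conj hv hv hnc (g := k⁻¹ * co2To0 g * k) (theta_mem hk g)
    have hmem : (h : G) ∈ CT := Subgroup.mem_centralizer_singleton_iff.2
      (mul_inv_eq_iff_eq_mul.1 (congrArg toG hh' : (h : G) * toG qt * (h : G)⁻¹ = toG qt))
    refine ⟨⟨⟨(h : G), hmem⟩, h.2⟩, theta_injective k ?_⟩
    rw [hf, theta_apply]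
    exact hh
  have hfker : ∀ d : D1, f d = 1 → ∃ r : Cq, jQ r = d := by
    intro d hd
    have h1 : piHom e (iota d) = 1 := by rw [← hf, hd, map_one]
    have h2 : iota d ∈ Q := by
      rw [← QuotientGroup.eq_one_iff]
      exact e.injective ((show e (QuotientGroup.mk (iota d)) = 1 from h1).trans (map_one e).symm)
    exact ⟨⟨⟨iota d, h2⟩, Subgroup.mem_centralizer_singleton_iff.2
      (toG_inj (Subgroup.mem_centralizer_singleton_iff.1 d.1.2))⟩, rfl⟩
  have hfQ : ∀ r : Cq, f (jQ r) = 1 := fun r => theta_injective k (by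
    rw [hf, map_one]; exact piHom_mem e r.1.2)
  have hle : j.ker ≤ f.ker := fun d hd => by
    rcases (hjker d).1 hd with h | h
    · rw [MonoidHom.mem_ker, show d = 1 from Subtype.ext (Subtype.ext h), map_one]
    · have hmem : qt ∈ Cq := Subgroup.mem_centralizer_singleton_iff.2 rfl
      rw [MonoidHom.mem_ker, show d = jQ ⟨qt, hmem⟩ from Subtype.ext (Subtype.ext h)]
      exact hfQ _
  let φ : ↥D →* ↥Spor.Co2 := (MonoidHom.liftOfSurjective j hj) ⟨f, hle⟩
  have hφ : ∀ d, φ (j d) = f d := fun d =>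
    MonoidHom.liftOfRightInverse_comp_apply j _ (Function.rightInverse_surjInv hj) ⟨f, hle⟩ d
  have hφs : Function.Surjective φ := fun g => by
    obtain ⟨d, hd⟩ := hfs g
    exact ⟨j d, (hφ d).trans hd⟩
  have hRker : jR.range = φ.ker := by
    ext x
    constructor
    · rintro ⟨r, rfl⟩
      show φ (j (jQ r)) = 1
      rw [hφ, hfQ]
    · intro hx
      obtain ⟨d, rfl⟩ := hj x
      rw [MonoidHom.mem_ker, hφ] at hx
      obtain ⟨r, rfl⟩ := hfker d hx
      exact ⟨r, rfl⟩
  haveI hRn : jR.range.Normal := hRker ▸ (inferInstance : φ.ker.Normal)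
  let e₂ : ↥D ⧸ jR.range ≃* ↥Spor.Co2 :=
    (QuotientGroup.quotientMulEquivOfEq hRker).trans (QuotientGroup.quotientKerEquivOfSurjective φ hφs)
  have he₂ : ∀ x : D, e₂ (QuotientGroup.mk x) = φ x := fun x => rfl
  -- the group R
  have hCqcard : Nat.card Cq = 2 ^ 24 := by
    have hi := FGBasics.XS.centralizer_index_le H.setting.2.2.1 qt
    have hc := Cq.card_mul_index
    rw [H.setting.2.2.2.1] at hc
    have hne1 : Cq.index ≠ 1 := fun h1 => hnc (Subgroup.mem_center_iff.2 fun x =>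
      Subgroup.mem_centralizer_singleton_iff.1 (show x ∈ Cq by rw [Subgroup.index_eq_one.1 h1]; trivial))
    have hne0 : Cq.index ≠ 0 := Subgroup.index_ne_zero_of_finite
    have : Cq.index = 2 := by
      change Cq.index ≤ 2 at hi
      omega
    rw [this] at hc
    omega
  have hqmem : qt ∈ Cq := Subgroup.mem_centralizer_singleton_iff.2 rfl
  have hqt1 : qt ≠ 1 := fun h1 => hnc (h1 ▸ one_mem _)
  have hkercard : Nat.card jR.rangeRestrict.ker = 2 := by
    rw [Nat.card_eq_two_iff]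
    have hmem : (⟨qt, hqmem⟩ : Cq) ∈ jR.rangeRestrict.ker := by
      rw [MonoidHom.ker_rangeRestrict, MonoidHom.mem_ker, hjR]; exact Or.inr rfl
    refine ⟨1, ⟨⟨qt, hqmem⟩, hmem⟩, fun h => hqt1 (congrArg (fun p => (p.1 : Cq).1) h).symm, ?_⟩
    refine Set.eq_univ_of_forall fun p => ?_
    have h' : jR p.1 = 1 := congrArg Subtype.val (MonoidHom.mem_ker.1 p.2)
    rcases (hjR _).1 h' with h | h
    · exact Or.inl (Subtype.ext (Subtype.ext h))
    · exact Or.inr (Subtype.ext (Subtype.ext h))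
  have hRcard : Nat.card jR.range = 2 ^ 23 := by
    have h := jR.rangeRestrict.ker.card_mul_index
    rw [Subgroup.index_ker, MonoidHom.range_eq_top.2 jR.rangeRestrict_surjective, Subgroup.card_top,
      hkercard, hCqcard] at h
    omega
  let zq : Q := ⟨_, H.z_mem⟩
  have hzqc : zq ∈ Subgroup.center Q := (H.center_iff zq).2 (Or.inr rfl)
  have hzqC : zq ∈ Cq :=
    Subgroup.mem_centralizer_singleton_iff.2 (Subgroup.mem_center_iff.1 hzqc qt).symm
  -- commuting in R is commuting in Q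
  have hcomm : ∀ a b : Cq, jR a * jR b = jR b * jR a ↔ a.1 * b.1 = b.1 * a.1 := by
    intro a b
    constructor
    · intro h
      have h1 : jR (b * a * b⁻¹ * a⁻¹) = 1 := by rw [map_mul, map_mul, map_mul, map_inv, map_inv, ← h]; group
      rcases (hjR _).1 h1 with r | r
      · exact kap_eq_zero.1 (chi_eq_zero.2 r)
      · exfalso
        have hc := H.comm_mem a.1 b.1
        change b.1 * a.1 * b.1⁻¹ * a.1⁻¹ = qt at r
        rw [r] at hc
        exact hnc hc
    · intro h
      rw [← map_mul, ← map_mul]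
      exact congrArg jR (Subtype.ext h)
  have hcentre : ∀ a : Cq, (∀ b : Cq, a.1 * b.1 = b.1 * a.1) →
      a.1 ∈ Subgroup.center Q ∨ a.1 * qt ∈ Subgroup.center Q := by
    intro a ha
    by_contra hcon
    rw [not_or] at hcon
    have hR' : ∀ y, kap qt y = 0 → kap a.1 y = 0 := fun y hy =>
      kap_eq_zero.2 (ha ⟨y, Subgroup.mem_centralizer_singleton_iff.2 (kap_eq_zero.1 hy).symm⟩)
    obtain ⟨y₁, h1⟩ : ∃ y, kap a.1 y ≠ 0 := by
      by_contra hall
      push Not at hall
      exact hcon.1 (Subgroup.mem_center_iff.2 fun y => (kap_eq_zero.1 (hall y)).symm)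
    obtain ⟨y₂, h2⟩ : ∃ y, kap (a.1 * qt) y ≠ 0 := by
      by_contra hall
      push Not at hall
      exact hcon.2 (Subgroup.mem_center_iff.2 fun y => (kap_eq_zero.1 (hall y)).symm)
    rw [H.kap_mul] at h2
    have k1 : kap qt y₁ = 1 := (zmod2_cases _).resolve_left fun h0 => h1 (hR' _ h0)
    have k2 : kap a.1 y₁ = 1 := (zmod2_cases _).resolve_left h1
    have h3 := hR' (y₁ * y₂)
    rw [H.kap_symm qt, H.kap_mul, H.kap_symm y₁, H.kap_symm y₂, H.kap_symm a.1, H.kap_mul, H.kap_symm y₁,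
      H.kap_symm y₂] at h3
    rcases zmod2_cases (kap qt y₂) with k3 | k3
    · rw [k3, hR' _ k3, add_zero] at h2
      exact h2 rfl
    · rw [k1, k2, k3] at h3
      rcases zmod2_cases (kap a.1 y₂) with k4 | k4 <;> rw [k4] at h2 h3
      · exact absurd (h3 (CharTwo.add_self_eq_zero (1 : ZMod 2))) (by simp)
      · rw [k3] at h2; exact h2 (CharTwo.add_self_eq_zero _)
  let zr : jR.range := ⟨jR ⟨zq, hzqC⟩, _, rfl⟩
  have hsurj : ∀ x : jR.range, ∃ a : Cq, (⟨jR a, a, rfl⟩ : jR.range) = x := fun x => by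
    obtain ⟨a, ha⟩ := x.2
    exact ⟨a, Subtype.ext ha⟩
  have hzc : ∀ a : Cq, a.1 ∈ Subgroup.center Q → (⟨jR a, a, rfl⟩ : jR.range) ∈ Subgroup.center jR.range := by
    intro a ha
    refine Subgroup.mem_center_iff.2 fun x => ?_
    obtain ⟨b, rfl⟩ := hsurj x
    exact Subtype.ext ((hcomm b a).2 (Subgroup.mem_center_iff.1 ha b.1))
  have hZ : (Subgroup.center jR.range : Set jR.range) = {1, zr} := by
    ext x
    rw [Set.mem_insert_iff, Set.mem_singleton_iff, SetLike.mem_coe]
    constructor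
    · intro hx
      obtain ⟨a, rfl⟩ := hsurj x
      have ha : ∀ b : Cq, a.1 * b.1 = b.1 * a.1 := fun b =>
        ((hcomm b a).1 (congrArg Subtype.val (Subgroup.mem_center_iff.1 hx ⟨jR b, b, rfl⟩))).symm
      have key : ∀ c : Cq, c.1 ∈ Subgroup.center Q →
          (⟨jR c, c, rfl⟩ : jR.range) = 1 ∨ (⟨jR c, c, rfl⟩ : jR.range) = zr := by
        intro c hc
        rcases (H.center_iff c.1).1 hc with r | r
        · left; exact Subtype.ext ((hjR c).2 (Or.inl (toG_inj r)))
        · right; exact Subtype.ext (congrArg jR (Subtype.ext (toG_inj r)))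
      rcases hcentre a ha with hc | hc
      · exact key a hc
      · have e1 : (⟨jR a, a, rfl⟩ : jR.range) = ⟨jR (a * ⟨qt, hqmem⟩), _, rfl⟩ := by
          refine Subtype.ext ?_
          show jR a = jR (a * ⟨qt, hqmem⟩)
          rw [map_mul, (hjR ⟨qt, hqmem⟩).2 (Or.inr rfl), mul_one]
        rw [e1]
        exact key (a * ⟨qt, hqmem⟩) hc
    · rintro (rfl | rfl)
      · exact one_mem _
      · exact hzc _ hzqc
  have hzr1 : zr ≠ 1 := fun h => by
    rcases (hjR ⟨zq, hzqC⟩).1 (congrArg Subtype.val h) with r | r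
    · exact hz1 (congrArg toG r)
    · exact hztne (congrArg toG r)
  have hZcard : Nat.card (Subgroup.center jR.range) = 2 := by
    show Nat.card ((Subgroup.center jR.range : Set jR.range)) = 2
    rw [Nat.card_coe_set_eq, hZ, Set.ncard_pair hzr1.symm]
  have hRp : IsPGroup 2 jR.range := IsPGroup.of_card hRcard
  have hcm : ∀ x y : jR.range, ⁅x, y⁆ ∈ Subgroup.center jR.range := by
    intro x y
    obtain ⟨a, rfl⟩ := hsurj x
    obtain ⟨b, rfl⟩ := hsurj y
    have e1 : ⁅(⟨jR a, a, rfl⟩ : jR.range), ⟨jR b, b, rfl⟩⁆ = (⟨jR (a * b * a⁻¹ * b⁻¹), _, rfl⟩ : jR.range) := by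
      refine Subtype.ext ?_
      simp only [commutatorElement_def, Subgroup.coe_mul, InvMemClass.coe_inv, map_mul, map_inv]
    rw [e1]
    exact hzc _ (H.comm_mem b.1 a.1)
  have hsq : ∀ x : jR.range, x ^ 2 ∈ Subgroup.center jR.range := by
    intro x
    obtain ⟨a, rfl⟩ := hsurj x
    have e1 : (⟨jR a, a, rfl⟩ : jR.range) ^ 2 = ⟨jR (a * a), _, rfl⟩ := by
      refine Subtype.ext ?_
      rw [SubgroupClass.coe_pow, pow_two]
      exact (map_mul jR a a).symm
    rw [e1]
    exact hzc _ (H.sq_mem a.1)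
  have hcomeq : commutator jR.range = Subgroup.center jR.range := by
    refine Subgroup.eq_of_le_of_card_ge
      (by rw [commutator_def]; exact Subgroup.commutator_le.2 fun x _ y _ => hcm x y) ?_
    by_contra hlt
    rw [hZcard, not_le] at hlt
    have h1 : commutator jR.range = ⊥ := Subgroup.eq_bot_of_card_le _ (by omega)
    rw [_root_.commutator_eq_bot_iff_center_eq_top] at h1
    rw [h1, Subgroup.card_top, hRcard] at hZcard
    norm_num at hZcard
  have hspecial : IsExtraspecial 2 jR.range := by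
    haveI : Group.IsNilpotent jR.range := hRp.isNilpotent
    refine ⟨⟨hRp, le_antisymm (LEFrattini.frattini_le hcm hsq) ?_, hcomeq⟩, hZcard⟩
    rw [← hcomeq]
    exact SolvStruct.commutator_le_frattini _
  -- the generalized Fitting subgroup
  have hcentral : Subgroup.centralizer (jR.range : Set D) ≤ jR.range := by
    intro x hx
    obtain ⟨d, rfl⟩ := hj x
    obtain ⟨g₀, hg₀⟩ := QuotientGroup.mk_surjective (piHom e (iota d))
    have hg : g₀ ∈ Subgroup.center Co0 := by
      refine central_of_class_fix hk (H.cong_of_comm hv (hiota d) hg₀.symm) fun x hx2 => ?_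
      obtain ⟨r, hr⟩ : ∃ r : Q, ψ x = QuotientGroup.mk r := ⟨_, (Quotient.out_eq _).symm⟩
      have hrC : r ∈ Cq := Subgroup.mem_centralizer_singleton_iff.2
        ((H.kap_form hr hv).2 (by rwa [ip_comm]))
      have hψ := H.iso.2.2.2 (iota d) g₀ hg₀ x r hr
      change ψ (g₀ • x) = QuotientGroup.mk (cq (iota d) r) at hψ
      have hc := Subgroup.mem_centralizer_iff.1 hx (jR ⟨r, hrC⟩) ⟨_, rfl⟩
      have h1 : j (d * jQ ⟨r, hrC⟩ * d⁻¹ * (jQ ⟨r, hrC⟩)⁻¹) = 1 := by
        rw [map_mul, map_mul, map_mul, map_inv, map_inv]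
        show j d * jR ⟨r, hrC⟩ * (j d)⁻¹ * (jR ⟨r, hrC⟩)⁻¹ = 1
        rw [← hc]; group
      rcases (hjker _).1 h1 with q | q
      · left
        have : cq (iota d) r = r := toG_inj (mul_inv_eq_one.1 q)
        rw [this, ← hr, H.psi_eq_iff] at hψ
        exact hψ
      · right
        have : cq (iota d) r = qt * r := toG_inj (mul_inv_eq_iff_eq_mul.1 q)
        rw [this, QuotientGroup.mk_mul, ← hv, ← hr, ← H.psi_add, H.psi_eq_iff, add_comm] at hψ
        exact hψ
    have h1 : f d = 1 := theta_injective k (by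
      rw [hf, map_one, ← hg₀]; exact (QuotientGroup.eq_one_iff g₀).2 hg)
    obtain ⟨r, rfl⟩ := hfker d h1
    exact ⟨r, rfl⟩
  have hcore : pCore 2 D = jR.range := by
    refine le_antisymm ?_ (PBasic.le_pCore hRn hRp)
    haveI : (pCore 2 D).Normal := FittingCores.pCore_normal 2
    haveI : ((pCore 2 D).map φ).Normal := Subgroup.Normal.map inferInstance φ hφs
    have h1 := co2_two_group (N := (pCore 2 D).map φ) ((PBasic.pCore_isPGroup 2 D).map φ)
    intro x hx
    rw [hRker, MonoidHom.mem_ker]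
    have : φ x ∈ (pCore 2 D).map φ := ⟨x, hx, rfl⟩
    rwa [h1] at this
  have hFit : generalizedFittingSubgroup D = jR.range := by
    rw [← hcore]
    exact Components.generalizedFitting_eq_pCore_iff.2 (by rw [hcore]; exact hcentral)
  -- fusion
  obtain ⟨y, r, hy, hr, hrz, hrzt, hrq⟩ := H.exists_fused ho hn
  have hrC : r ∈ Cq := Subgroup.mem_centralizer_singleton_iff.2 hrq
  have hyc : y ∈ CT := Subgroup.mem_centralizer_singleton_iff.2 hy
  have hfused : ∃ g : ↥CT ⧸ N, (∃ hq : g * zb * g⁻¹ ∈ D, (⟨g * zb * g⁻¹, hq⟩ : D) ∈ jR.range) ∧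
      g * zb * g⁻¹ ≠ zb := by
    refine ⟨QuotientGroup.mk (⟨y, hyc⟩ : CT), ?_, ?_⟩
    · have heq : (QuotientGroup.mk (⟨y, hyc⟩ : CT) : ↥CT ⧸ N) * zb * (QuotientGroup.mk (⟨y, hyc⟩ : CT))⁻¹ =
          ((jR ⟨r, hrC⟩ : D) : ↥CT ⧸ N) := by
        rw [hzb, ← QuotientGroup.mk_mul, ← QuotientGroup.mk_inv, ← QuotientGroup.mk_mul]
        exact congrArg QuotientGroup.mk (Subtype.ext hr.symm)
      rw [heq]
      exact ⟨(jR ⟨r, hrC⟩).2, ⟨r, hrC⟩, rfl⟩
    · intro h
      rw [hzb, ← QuotientGroup.mk_mul, ← QuotientGroup.mk_inv, ← QuotientGroup.mk_mul, QuotientGroup.eq,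
        hNmem] at h
      simp only [Subgroup.coe_mul, InvMemClass.coe_inv] at h
      rw [← hr] at h
      rcases h with h | h
      · exact hrz (inv_mul_eq_one.1 h)
      · refine hrzt ?_
        have e1 : toG r = z * (toG qt)⁻¹ := by rw [← h]; group
        rw [e1, inv_eq_of_mul_eq_one_left ht2]
  have hzord : orderOf zb = 2 := by
    refine orderOf_eq_prime ?_ fun h1 => ?_
    · rw [hzb, pow_two, ← QuotientGroup.mk_mul]
      have : (⟨z, hzCT⟩ : CT) * ⟨z, hzCT⟩ = 1 := Subtype.ext (by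
        have := pow_orderOf_eq_one z
        rwa [H.setting.1, pow_two] at this)
      rw [this]; rfl
    · rw [hzb, QuotientGroup.eq_one_iff, hNmem] at h1
      rcases h1 with h1 | h1
      · exact hz1 h1
      · exact hztne h1
  -- the module
  have hkey : ∀ x : leechPerpU, ∀ r : Q, ψ (k⁻¹ • (x : leechLattice)) = QuotientGroup.mk r → r ∈ Cq := by
    intro x r hr'
    refine Subgroup.mem_centralizer_singleton_iff.2 ((H.kap_form hr' hv).2 ?_)
    rw [← co0_ip k, smul_inv_smul, hk, ← leechU_eq]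
    have h8 := eight_ip (x : leechLattice) Spor.leechU
    obtain ⟨m, hm⟩ := (show (16 : ℤ) ∣ dotInt ((x : leechLattice) : GolayPt → ℤ) Spor.vecU from x.2)
    change 8 * ip (x : leechLattice) Spor.leechU = dotInt ((x : leechLattice) : GolayPt → ℤ) Spor.vecU at h8
    exact ⟨m, by omega⟩
  let ψ₂ : leechPerpU → jR.range ⧸ Subgroup.center jR.range := fun x =>
    QuotientGroup.mk ⟨jR ⟨_, hkey x (ψ (k⁻¹ • (x : leechLattice))).out (Quotient.out_eq _).symm⟩, _, rfl⟩
  have hψ₂ : ∀ (x : leechPerpU) (a : Cq), ψ (k⁻¹ • (x : leechLattice)) = QuotientGroup.mk a.1 →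
      ψ₂ x = QuotientGroup.mk ⟨jR a, a, rfl⟩ := by
    intro x a ha
    show QuotientGroup.mk _ = QuotientGroup.mk _
    rw [QuotientGroup.eq]
    set b : Cq := ⟨_, hkey x (ψ (k⁻¹ • (x : leechLattice))).out (Quotient.out_eq _).symm⟩
    have e1 : (⟨jR b, b, rfl⟩ : jR.range)⁻¹ * ⟨jR a, a, rfl⟩ = ⟨jR (b⁻¹ * a), _, rfl⟩ :=
      Subtype.ext (by simp only [Subgroup.coe_mul, InvMemClass.coe_inv, map_mul, map_inv])
    rw [e1]
    refine hzc _ ?_
    show b.1⁻¹ * a.1 ∈ _
    rw [← QuotientGroup.eq, ← ha]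
    exact Quotient.out_eq _
  have hiso : IsLeechPerpModTwoIso jR.range e₂ ψ₂ := by
    refine ⟨fun x y => ?_, fun p => ?_, fun x => ?_, ?_⟩
    · obtain ⟨a, ha⟩ : ∃ a : Q, ψ (k⁻¹ • (x : leechLattice)) = QuotientGroup.mk a := ⟨_, (Quotient.out_eq _).symm⟩
      obtain ⟨b, hb⟩ : ∃ b : Q, ψ (k⁻¹ • (y : leechLattice)) = QuotientGroup.mk b := ⟨_, (Quotient.out_eq _).symm⟩
      have hab : ψ (k⁻¹ • ((x + y : leechPerpU) : leechLattice)) = QuotientGroup.mk (a * b) := by
        rw [AddSubgroup.coe_add, co0_add, H.psi_add, ha, hb]; rfl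
      rw [hψ₂ (x + y) ⟨a * b, Cq.mul_mem (hkey x a ha) (hkey y b hb)⟩ hab,
        hψ₂ x ⟨a, hkey x a ha⟩ ha, hψ₂ y ⟨b, hkey y b hb⟩ hb, ← QuotientGroup.mk_mul]
      refine congrArg QuotientGroup.mk (Subtype.ext ?_)
      rw [Subgroup.coe_mul, ← map_mul]
      rfl
    · obtain ⟨p', rfl⟩ := QuotientGroup.mk_surjective p
      obtain ⟨a, rfl⟩ := hsurj p'
      obtain ⟨w, hw⟩ := H.psi_surj a.1
      have h2 : (2 : ℤ) ∣ ip w v := (H.kap_form hw hv).1 (Subgroup.mem_centralizer_singleton_iff.1 a.2)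
      rw [← co0_ip k, hk, ← leechU_eq] at h2
      refine ⟨⟨k • w, ?_⟩, hψ₂ _ a ?_⟩
      · show (16 : ℤ) ∣ dotInt ((k • w : leechLattice) : GolayPt → ℤ) Spor.vecU
        have h8 := eight_ip (k • w) Spor.leechU
        change 8 * ip (k • w) Spor.leechU = dotInt ((k • w : leechLattice) : GolayPt → ℤ) Spor.vecU at h8
        obtain ⟨m, hm⟩ := h2
        exact ⟨m, by omega⟩
      · show ψ (k⁻¹ • k • w) = _
        rw [inv_smul_smul]; exact hw
    · obtain ⟨a, ha⟩ : ∃ a : Q, ψ (k⁻¹ • (x : leechLattice)) = QuotientGroup.mk a := ⟨_, (Quotient.out_eq _).symm⟩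
      rw [hψ₂ x ⟨a, hkey x a ha⟩ ha, QuotientGroup.eq_one_iff, ← SetLike.mem_coe, hZ, Set.mem_insert_iff,
        Set.mem_singleton_iff]
      refine Iff.trans (or_congr (c := jR ⟨a, hkey x a ha⟩ = 1) (d := jR ⟨a, hkey x a ha⟩ = jR ⟨zq, hzqC⟩)
        ⟨fun h => congrArg Subtype.val h, fun h => Subtype.ext h⟩
        ⟨fun h => congrArg Subtype.val h, fun h => Subtype.ext h⟩) ?_
      have hiff : (jR ⟨a, hkey x a ha⟩ = 1 ∨ jR ⟨a, hkey x a ha⟩ = jR ⟨zq, hzqC⟩) ↔
          (a ∈ Subgroup.center Q ∨ a * qt ∈ Subgroup.center Q) := by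
        constructor
        · rintro (h | h)
          · rcases (hjR _).1 h with r | r
            · left; change a = 1 at r; rw [r]; exact one_mem _
            · right; change a = qt at r; rw [r, hq2]; exact one_mem _
          · have h' : jR ((⟨zq, hzqC⟩ : Cq)⁻¹ * ⟨a, hkey x a ha⟩) = 1 := by
              rw [map_mul, map_inv, ← h, inv_mul_cancel]
            rcases (hjR _).1 h' with r | r
            · left; change zq⁻¹ * a = 1 at r; rw [← inv_mul_eq_one.1 r]; exact hzqc
            · right; change zq⁻¹ * a = qt at r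
              rw [inv_mul_eq_iff_eq_mul.1 r, mul_assoc, hq2, mul_one]; exact hzqc
        · intro h
          have h' : (⟨jR ⟨a, hkey x a ha⟩, _, rfl⟩ : jR.range) ∈ Subgroup.center jR.range := by
            rcases h with h | h
            · exact hzc _ h
            · have e1 : jR ⟨a, hkey x a ha⟩ = jR (⟨a, hkey x a ha⟩ * ⟨qt, hqmem⟩) := by
                rw [map_mul, (hjR ⟨qt, hqmem⟩).2 (Or.inr rfl), mul_one]
              have e2 : (⟨jR ⟨a, hkey x a ha⟩, _, rfl⟩ : jR.range) =
                  ⟨jR (⟨a, hkey x a ha⟩ * ⟨qt, hqmem⟩), _, rfl⟩ := Subtype.ext e1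
              rw [e2]
              exact hzc _ h
          rw [← SetLike.mem_coe, hZ, Set.mem_insert_iff, Set.mem_singleton_iff] at h'
          exact h'.imp (fun h'' => congrArg Subtype.val h'') (fun h'' => congrArg Subtype.val h'')
      rw [hiff, ← QuotientGroup.eq_one_iff, ← QuotientGroup.eq_one_iff, QuotientGroup.mk_mul, ← hv, ← ha,
        ← H.psi_add, ← H.psi_zero, H.psi_eq_iff, H.psi_eq_iff]
      have hkz : k • (0 : leechLattice) = 0 := map_zero (hom0 k)
      constructor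
      · rintro (h | h)
        · have h' := co0_cong (g := k) h
          rw [smul_inv_smul, hkz] at h'
          obtain ⟨m, hm⟩ := h'
          exact Or.inl ⟨m, by rw [sub_zero] at hm; rw [hm, two_nsmul]⟩
        · have h' := co0_cong (g := k) h
          rw [co0_add, smul_inv_smul, hk, hkz, ← leechU_eq] at h'
          obtain ⟨m, hm⟩ := h'
          refine Or.inr ⟨m - Spor.leechU, ?_⟩
          rw [sub_zero, two_nsmul] at hm
          rw [eq_sub_of_add_eq hm]
          abel
      · rintro (⟨m, hm⟩ | ⟨m, hm⟩)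
        · left
          refine ⟨k⁻¹ • m, ?_⟩
          rw [sub_zero, hm, co0_add, two_nsmul]
        · right
          refine ⟨v + k⁻¹ • m, ?_⟩
          have hkv : k⁻¹ • Spor.leechU = v := by rw [leechU_eq, ← hk, inv_smul_smul]
          rw [sub_zero, hm, co0_add, co0_add, hkv, two_nsmul]
          abel
    · intro h g hg x y hxy q hq
      obtain ⟨d, rfl⟩ := hj h
      rw [he₂, hφ] at hg
      obtain ⟨a, rfl⟩ := hsurj q
      obtain ⟨r', hr'⟩ : ∃ r' : Q, ψ (k⁻¹ • (x : leechLattice)) = QuotientGroup.mk r' := ⟨_, (Quotient.out_eq _).symm⟩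
      have hq' : QuotientGroup.mk (⟨jR ⟨r', hkey x r' hr'⟩, _, rfl⟩ : jR.range) =
          (QuotientGroup.mk ⟨jR a, a, rfl⟩ : jR.range ⧸ Subgroup.center jR.range) := by
        rw [← hψ₂ x ⟨r', hkey x r' hr'⟩ hr', hq]
      have hψ := H.iso.2.2.2 (iota d) (k⁻¹ * co2To0 g * k) (by
        show _ = piHom e (iota d)
        rw [← hf, hg, theta_apply]) (k⁻¹ • (x : leechLattice)) r' hr'
      change ψ _ = QuotientGroup.mk (cq (iota d) r') at hψ
      rw [← mul_smul, mul_inv_cancel_right, mul_smul,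
        show co2To0 g • (x : leechLattice) = (y : leechLattice) from hxy] at hψ
      rw [hψ₂ y ⟨cq (iota d) r', hkey y _ hψ⟩ hψ]
      have hd : jR ⟨cq (iota d) r', hkey y _ hψ⟩ = j d * jR ⟨r', hkey x r' hr'⟩ * (j d)⁻¹ := by
        show j (jQ _) = j d * j (jQ _) * (j d)⁻¹
        rw [← map_inv, ← map_mul, ← map_mul]
        exact congrArg j (Subtype.ext (Subtype.ext rfl))
      rw [QuotientGroup.eq] at hq' ⊢
      have hmem : ∀ c : jR.range, c ∈ Subgroup.center jR.range →
          j d * (c : D) * (j d)⁻¹ = (c : D) := by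
        intro c hc
        rw [← SetLike.mem_coe, hZ, Set.mem_insert_iff, Set.mem_singleton_iff] at hc
        rcases hc with rfl | rfl
        · simp
        · show j d * jR ⟨zq, hzqC⟩ * (j d)⁻¹ = jR ⟨zq, hzqC⟩
          show j d * j (jQ _) * (j d)⁻¹ = j (jQ _)
          rw [← map_inv, ← map_mul, ← map_mul]
          refine congrArg j (Subtype.ext (Subtype.ext ?_))
          show ((d : CT) : G) * z * (((d : CT) : G))⁻¹ = z
          rw [Subgroup.mem_centralizer_singleton_iff.1
            (show ((d : CT) : G) ∈ Subgroup.centralizer ({z} : Set G) from d.2), mul_inv_cancel_right]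
      refine Set.mem_of_eq_of_mem ?_ hq'
      refine Subtype.ext ?_
      have := hmem _ hq'
      simp only [Subgroup.coe_mul, InvMemClass.coe_inv] at this ⊢
      rw [hd]
      refine Eq.trans ?_ this
      group
  exact ⟨zb, jR.range, hRn, ⟨hzord, hFit, hspecial, hRcard, hfused⟩, e₂, ψ₂, hiso⟩

end MT

end Cfsg.Agent.MonsterT
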