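/-
Classes modulo two of the Leech lattice fixed by an automorphism of odd order.
-/
import Cfsg.Agent.Lib.MonsterT.Basic
set_option autoImplicit false

namespace Cfsg.Agent.MonsterT

open Cfsg Cfsg.Agent.Golay Cfsg.Agent.Leech
open Cfsg.Agent.LatticeMod2 (Rootless Cong)

/-- The class of a vector is fixed. -/
def Fixed (b : Co0) (x : leechLattice) : Prop := Cong (b • x) x

/-- Representatives of the fixed classes. -/
structure FixModel (b : Co0) (r : ℕ) where
  R : Fin (2 ^ r) → leechLattice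
  fixed : ∀ a, Fixed b (R a)
  cover : ∀ x, Fixed b x → ∃ a, Cong x (R a)
  inj : ∀ a a', Cong (R a) (R a') → a = a'
  short : ∀ a, ip (R a) (R a) ≤ 8

theorem cong_rfl (x : leechLattice) : Cong x x := ⟨0, by simp⟩

theorem cong_add {a b c d : leechLattice} (h : Cong a b) (h' : Cong c d) : Cong (a + c) (b + d) := by
  obtain ⟨u, hu⟩ := h
  obtain ⟨v, hv⟩ := h'
  exact ⟨u + v, by rw [smul_add, ← hu, ← hv]; abel⟩

theorem cong_parity {x y w : leechLattice} (h : Cong x y) : (2 : ℤ) ∣ ip x w ↔ (2 : ℤ) ∣ ip y w := by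
  obtain ⟨u, hu⟩ := h
  have e : x = y + (u + u) := by rw [← two_nsmul, ← hu]; abel
  rw [e, rootless_ip.add, rootless_ip.add]
  omega

theorem ip_sum_left {ι : Type*} (s : Finset ι) (f : ι → leechLattice) (w : leechLattice) :
    ip (∑ i ∈ s, f i) w = ∑ i ∈ s, ip (f i) w := by
  classical
  induction s using Finset.induction_on with
  | empty => simp [LatticeMod2.map_zero_left rootless_ip]
  | insert a s ha ih => rw [Finset.sum_insert ha, Finset.sum_insert ha, rootless_ip.add, ih]

theorem fixed_pow {b : Co0} {x : leechLattice} (h : Fixed b x) : ∀ n : ℕ, Cong (b ^ n • x) x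
  | 0 => by rw [pow_zero, one_smul]; exact cong_rfl x
  | n + 1 => by
    rw [pow_succ', mul_smul]
    exact cong_trans (co0_cong (fixed_pow h n)) h

/-- The sum over an orbit is fixed. -/
theorem fixed_orbit_sum {b : Co0} {p : ℕ} (hp : b ^ p = 1) (x : leechLattice) :
    b • (∑ i ∈ Finset.range p, b ^ i • x) = ∑ i ∈ Finset.range p, b ^ i • x := by
  rw [← hom0_apply, map_sum]
  simp only [hom0_apply, ← mul_smul, ← pow_succ']
  have h1 := Finset.sum_range_succ' (fun i => b ^ i • x) p
  have h2 := Finset.sum_range_succ (fun i => b ^ i • x) p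
  rw [h2, hp, pow_zero] at h1
  exact add_right_cancel h1.symm

/-- A fixed class is congruent to the sum over its orbit. -/
theorem fixed_eq_sum {b : Co0} {p : ℕ} (hp : p % 2 = 1) {x : leechLattice} (h : Fixed b x) :
    Cong x (∑ i ∈ Finset.range p, b ^ i • x) := by
  have key : ∀ n : ℕ, Cong (∑ i ∈ Finset.range n, b ^ i • x) (n • x) := by
    intro n
    induction n with
    | zero => simp [cong_rfl]
    | succ n ih => rw [Finset.sum_range_succ, succ_nsmul]; exact cong_add ih (fixed_pow h n)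
  refine cong_trans ⟨-((p / 2) • x), ?_⟩ (cong_symm (key p))
  conv_lhs => rw [← Nat.div_add_mod p 2, hp, succ_nsmul, mul_nsmul']
  rw [smul_neg]
  abel

/-- The pairing is non-degenerate on the fixed classes. -/
theorem even_of_fixed {b : Co0} {p : ℕ} (hb : b ^ p = 1) (hp : p % 2 = 1) {u : leechLattice}
    (hu : Fixed b u) (h : ∀ y, Fixed b y → (2 : ℤ) ∣ ip u y) (x : leechLattice) : (2 : ℤ) ∣ ip u x := by
  have hS := h _ (show Fixed b _ by unfold Fixed; rw [fixed_orbit_sum hb x]; exact cong_rfl _)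
  rw [ip_comm, ip_sum_left] at hS
  have hterm : ∀ i, ((ip (b ^ i • x) u : ℤ) : ZMod 2) = ((ip x u : ℤ) : ZMod 2) := by
    intro i
    have h1 := cong_parity (w := b ^ i • x) (fixed_pow hu i)
    rw [co0_ip, ip_comm, ip_comm u (b ^ i • x)] at h1
    rw [show ((2 : ℤ)) = ((2 : ℕ) : ℤ) from rfl, ← ZMod.intCast_zmod_eq_zero_iff_dvd,
      ← ZMod.intCast_zmod_eq_zero_iff_dvd] at h1
    rcases zmod2_cases ((ip (b ^ i • x) u : ℤ) : ZMod 2) with e | e <;>
      rcases zmod2_cases ((ip x u : ℤ) : ZMod 2) with e' | e'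
    · rw [e, e']
    · exfalso; rw [e, e'] at h1; exact absurd h1 (by decide)
    · exfalso; rw [e, e'] at h1; exact absurd h1 (by decide)
    · rw [e, e']
  rw [show ((2 : ℤ)) = ((2 : ℕ) : ℤ) from rfl, ← ZMod.intCast_zmod_eq_zero_iff_dvd, Int.cast_sum,
    Finset.sum_congr rfl (fun i _ => hterm i), Finset.sum_const, Finset.card_range, nsmul_eq_mul,
    show ((p : ℕ) : ZMod 2) = 1 by rw [← ZMod.natCast_mod, hp]; rfl, one_mul] at hS
  rw [ip_comm, show ((2 : ℤ)) = ((2 : ℕ) : ℤ) from rfl, ← ZMod.intCast_zmod_eq_zero_iff_dvd]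
  exact hS

namespace FixModel

variable {b : Co0} {r : ℕ} (M : FixModel b r)

theorem norm_eight {a : Fin (2 ^ r)} {v : leechLattice} (h8 : ip v v = 8) (h : Cong v (M.R a)) :
    ip (M.R a) (M.R a) = 8 := by
  rcases LatticeMod2.cong_short rootless_ip h8.le (M.short a) h with e | e | ⟨-, e, -⟩
  · rw [e]; exact h8
  · rw [e, LatticeMod2.neg_left rootless_ip, ip_comm, LatticeMod2.neg_left rootless_ip, neg_neg]; exact h8
  · exact e

/-- The index of a fixed class. -/
noncomputable def index (x : leechLattice) (hx : Fixed b x) : Fin (2 ^ r) := (M.cover x hx).choose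

theorem index_spec (x : leechLattice) (hx : Fixed b x) : Cong x (M.R (M.index x hx)) :=
  (M.cover x hx).choose_spec

theorem index_eq {x : leechLattice} {hx : Fixed b x} {a : Fin (2 ^ r)} (h : Cong x (M.R a)) : M.index x hx = a :=
  M.inj _ _ (cong_trans (cong_symm (M.index_spec x hx)) h)

end FixModel

end Cfsg.Agent.MonsterT
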