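/-
Groups of Monster type: change of coordinates, fusion of four-groups and Sylow subgroups of prime order.
-/
import Cfsg.Agent.Lib.MonsterT.Consequences
import Mathlib.GroupTheory.Sylow
set_option autoImplicit false

namespace Cfsg.Agent.MonsterT

open Cfsg Cfsg.Agent.Golay Cfsg.Agent.Leech
open Cfsg.Agent.LatticeMod2 (Rootless Cong)

variable {G : Type*} [Group G] [Finite G] {z : G}
  {Q : Subgroup (Subgroup.centralizer ({z} : Set G))} [Q.Normal]
  {e : (Subgroup.centralizer ({z} : Set G)) ⧸ Q ≃* Spor.Co1} {ψ : leechLattice → Q ⧸ Subgroup.center Q}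

theorem mk_eq_mk {g g' : Co0} (h : (QuotientGroup.mk g : Spor.Co1) = QuotientGroup.mk g') :
    g' = g ∨ g' = negCo0 * g := by
  have hc := QuotientGroup.eq.1 h
  rcases mem_center_iff.1 hc with e | e
  · left; exact (inv_mul_eq_one.1 e).symm
  · right
    have h2 : g' = g * negCo0 := by rw [← e]; group
    rw [h2]
    exact Subgroup.mem_center_iff.1 (mem_center_iff.2 (Or.inr rfl)) g

theorem negCo0_mem_center : negCo0 ∈ Subgroup.center Co0 := mem_center_iff.2 (Or.inr rfl)

theorem negCo0_sq : negCo0 * negCo0 = 1 := co0_ext fun i => by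
  rw [mul_smul, negCo0_smul, negCo0_smul, neg_neg, one_smul]

theorem mk_neg : (QuotientGroup.mk negCo0 : Spor.Co1) = 1 := (QuotientGroup.eq_one_iff _).2 negCo0_mem_center

theorem smul_cong_neg (x : leechLattice) : Cong (negCo0 • x) x := ⟨-x, by rw [negCo0_smul, two_nsmul]; abel⟩

theorem neg_pow_odd {p : ℕ} (hp : p % 2 = 1) : negCo0 ^ p = negCo0 := by
  rw [← Nat.div_add_mod p 2, hp, pow_succ, pow_mul, pow_two, negCo0_sq, one_pow, one_mul]

/-- Two lifts of odd order of the same element coincide. -/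
theorem odd_lift_unique {p : ℕ} (hp : p % 2 = 1) {g g' : Co0} (hg : g ^ p = 1) (hg' : g' ^ p = 1)
    (h : (QuotientGroup.mk g : Spor.Co1) = QuotientGroup.mk g') : g' = g := by
  rcases mk_eq_mk h with rfl | rfl
  · rfl
  · exfalso
    rw [((show Commute negCo0 g from (Subgroup.mem_center_iff.1 negCo0_mem_center g).symm)).mul_pow, hg,
      mul_one, neg_pow_odd hp] at hg'
    exact negCo0_ne_one hg'

/-- Subgroups of prime order are conjugate when the square of the prime does not divide the order. -/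
theorem exists_conj_prime {K : Type*} [Group K] [Finite K] {p : ℕ} (hp : p.Prime)
    (hK : ¬ p ^ 2 ∣ Nat.card K) {b c : K} (hb : orderOf b = p) (hc : orderOf c = p) :
    ∃ k : K, ∃ a : ℕ, k * c * k⁻¹ = b ^ a := by
  haveI : Fact p.Prime := ⟨hp⟩
  have hf : (Nat.card K).factorization p = 1 := by
    refine le_antisymm ?_ ((hp.dvd_iff_one_le_factorization Nat.card_pos.ne').1 (hb ▸ orderOf_dvd_natCard b))
    by_contra h
    exact hK ((hp.pow_dvd_iff_le_factorization Nat.card_pos.ne').2 (by omega))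
  have hcard : ∀ x : K, orderOf x = p → Nat.card (Subgroup.zpowers x) = p ^ (Nat.card K).factorization p :=
    fun x hx => by rw [hf, pow_one, Nat.card_zpowers, hx]
  let B : Sylow p K := Sylow.ofCard _ (hcard b hb)
  let C : Sylow p K := Sylow.ofCard _ (hcard c hc)
  obtain ⟨k, hk⟩ := MulAction.exists_smul_eq K C B
  have hmem : k * c * k⁻¹ ∈ (B : Subgroup K) := by
    rw [← hk]; exact ⟨c, Subgroup.mem_zpowers c, rfl⟩
  obtain ⟨a, ha⟩ := mem_powers_iff_mem_zpowers.2 (show k * c * k⁻¹ ∈ Subgroup.zpowers b from hmem)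
  exact ⟨k, a, ha.symm⟩

namespace MT

variable (H : MT z Q e ψ)
include H

/-- Change of coordinates by an automorphism of the lattice. -/
theorem twist (k : Co0) :
    MT z Q (e.trans (MulAut.conj (QuotientGroup.mk k : Spor.Co1))) (fun v => ψ (k⁻¹ • v)) := by
  refine ⟨H.setting, fun v w => ?_, fun q => ?_, fun v => ?_, ?_⟩
  · show ψ _ = ψ _ * ψ _
    rw [co0_add]; exact H.psi_add _ _
  · obtain ⟨v, hv⟩ := H.iso.2.1 q
    exact ⟨k • v, by show ψ _ = _; rw [inv_smul_smul]; exact hv⟩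
  · refine (H.iso.2.2.1 _).trans ⟨?_, ?_⟩
    · rintro ⟨w, hw⟩
      exact ⟨k • w, by rw [← co0_add, ← hw, smul_inv_smul]⟩
    · rintro ⟨w, hw⟩
      exact ⟨k⁻¹ • w, by rw [← co0_add, ← hw]⟩
  · intro h g hg v q hq
    change ψ (k⁻¹ • v) = _ at hq
    show ψ (k⁻¹ • g • v) = _
    have hg' : (QuotientGroup.mk (k⁻¹ * g * k) : Spor.Co1) = e (QuotientGroup.mk h) := by
      rw [QuotientGroup.mk_mul, QuotientGroup.mk_mul, QuotientGroup.mk_inv]
      have : (QuotientGroup.mk g : Spor.Co1) =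
          QuotientGroup.mk k * e (QuotientGroup.mk h) * (QuotientGroup.mk k)⁻¹ := hg
      rw [this]; group
    have h1 := H.iso.2.2.2 h (k⁻¹ * g * k) hg' (k⁻¹ • v) q hq
    rwa [← mul_smul, mul_inv_cancel_right, mul_smul] at h1

theorem z_sq : z * z = 1 := by
  have := pow_orderOf_eq_one z
  rwa [H.setting.1, pow_two] at this

theorem z_ne_one : z ≠ 1 := fun h => by
  have := H.setting.1
  rw [h, orderOf_one] at this
  omega

/-- A conjugate of the central involution in the subgroup lies in a four-group with an automorphism of order three. -/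
theorem exists_cycle {q : Q} (hq : IsConj z (toG q)) (hne : toG q ≠ z) :
    ∃ h : G, h * z * h⁻¹ = toG q ∧ h * toG q * h⁻¹ = z * toG q := by
  obtain ⟨g, hg⟩ := isConj_iff.1 hq
  obtain ⟨v, k, h8, hv, -, -, hin⟩ := H.main (g := g) hg.symm hne
  let t : Q := ⟨_, hin⟩
  have ht : IsConj z (toG t) := isConj_iff.2 ⟨g⁻¹, by show _ = g⁻¹ * z * g; group⟩
  have htne : toG t ≠ z := fun h => hne (by
    have h' : g⁻¹ * z * g = z := h
    rw [← hg]
    conv_lhs => rw [← h']
    group)
  obtain ⟨w, hw8, hw⟩ := H.eight_of_conj ht htne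
  obtain ⟨h1, hh1⟩ := H.exists_trans hv hw (h8.trans hw8.symm) (Or.inr h8)
  obtain ⟨y, hy⟩ : ∃ y : Q, y * q ≠ q * y := by
    by_contra hcon
    push Not at hcon
    exact H.q₀_not_center (g := g) hg.symm hne (Subgroup.mem_center_iff.2 hcon)
  have hy' : toG y * toG q * (toG y)⁻¹ = z * toG q := by
    rcases (H.center_iff _).1 (H.comm_mem q y) with h | h
    · refine absurd ?_ hy
      refine toG_inj ?_
      show toG y * toG q = toG q * toG y
      have h' : toG y * toG q * (toG y)⁻¹ * (toG q)⁻¹ = 1 := h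
      rwa [mul_inv_eq_one, mul_inv_eq_iff_eq_mul] at h'
    · have h' : toG y * toG q * (toG y)⁻¹ * (toG q)⁻¹ = z := h
      exact mul_inv_eq_iff_eq_mul.1 h'
  have hz : ∀ u : Subgroup.centralizer ({z} : Set G), (u : G) * z * (u : G)⁻¹ = z := fun u => by
    rw [Subgroup.mem_centralizer_singleton_iff.1 u.2, mul_inv_cancel_right]
  have hzq : toG q * z = z * toG q := Subgroup.mem_centralizer_singleton_iff.1 q.1.2
  have e1 : g * (h1 : G) * z * (g * (h1 : G))⁻¹ = toG q := by
    rw [show g * (h1 : G) * z * (g * (h1 : G))⁻¹ = g * ((h1 : G) * z * (h1 : G)⁻¹) * g⁻¹ by group, hz h1]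
    exact hg
  have e2 : g * (h1 : G) * toG q * (g * (h1 : G))⁻¹ = z := by
    rw [show g * (h1 : G) * toG q * (g * (h1 : G))⁻¹ = g * ((h1 : G) * toG q * (h1 : G)⁻¹) * g⁻¹ by group, hh1]
    show g * (g⁻¹ * z * g) * g⁻¹ = z
    group
  refine ⟨g * (h1 : G) * toG y, ?_, ?_⟩
  · rw [show g * (h1 : G) * toG y * z * (g * (h1 : G) * toG y)⁻¹ =
      g * (h1 : G) * (toG y * z * (toG y)⁻¹) * (g * (h1 : G))⁻¹ by group, hz y]
    exact e1
  · rw [show g * (h1 : G) * toG y * toG q * (g * (h1 : G) * toG y)⁻¹ =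
      g * (h1 : G) * (toG y * toG q * (toG y)⁻¹) * (g * (h1 : G))⁻¹ by group, hy',
      show g * (h1 : G) * (z * toG q) * (g * (h1 : G))⁻¹ =
        g * (h1 : G) * z * (g * (h1 : G))⁻¹ * (g * (h1 : G) * toG q * (g * (h1 : G))⁻¹) by group, e1, e2, hzq]

/-- An element of odd prime order centralising a four-group of the central class is in standard position. -/
theorem standard {q : Q} (hq : IsConj z (toG q)) (hne : toG q ≠ z) {p : ℕ} (hp : p % 2 = 1)
    {β : Subgroup.centralizer ({z} : Set G)} (hβp : β ^ p = 1) (hβ1 : β ≠ 1) (hβq : cq β q = q) :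
    ∃ (e' : (Subgroup.centralizer ({z} : Set G)) ⧸ Q ≃* Spor.Co1) (ψ' : leechLattice → Q ⧸ Subgroup.center Q)
      (g : ↥crossStab), MT z Q e' ψ' ∧ ψ' (axis none) = QuotientGroup.mk q ∧
        piHom e' β = QuotientGroup.mk (g : Co0) ∧ g ^ p = 1 ∧ g ≠ 1 := by
  obtain ⟨v, h8, hv⟩ := H.eight_of_conj hq hne
  obtain ⟨k, hk⟩ := exists_to_axis h8 none
  have H' := H.twist k
  have hv' : (fun v => ψ (k⁻¹ • v)) (axis none) = QuotientGroup.mk q := by
    show ψ (k⁻¹ • axis none) = _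
    rw [← hk, inv_smul_smul]; exact hv
  set e' := e.trans (MulAut.conj (QuotientGroup.mk k : Spor.Co1))
  obtain ⟨g₁, hg₁⟩ := QuotientGroup.mk_surjective (piHom e' β)
  have hmem := H'.cong_of_comm hv' hβq hg₁.symm
  rw [classStab_axis] at hmem
  have h1 : (QuotientGroup.mk (g₁ ^ p) : Spor.Co1) = 1 := by
    rw [QuotientGroup.mk_pow, hg₁, ← map_pow, hβp, map_one]
  obtain ⟨g₂, hg₂, hmk, hp2⟩ : ∃ g₂ ∈ crossStab, (QuotientGroup.mk g₂ : Spor.Co1) = piHom e' β ∧ g₂ ^ p = 1 := by
    rcases mk_eq_mk (g := 1) (g' := g₁ ^ p) h1.symm with h | h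
    · exact ⟨g₁, hmem, hg₁, h⟩
    · refine ⟨negCo0 * g₁, crossStab.mul_mem (mono_mem _) hmem, by rw [QuotientGroup.mk_mul, mk_neg, one_mul, hg₁], ?_⟩
      rw [(show Commute negCo0 g₁ from (Subgroup.mem_center_iff.1 negCo0_mem_center g₁).symm).mul_pow,
        neg_pow_odd hp, h, mul_one, negCo0_sq]
  refine ⟨e', _, ⟨g₂, hg₂⟩, H', hv', hmk.symm, Subtype.ext hp2, fun h => hβ1 ?_⟩
  have hg : g₂ = 1 := congrArg Subtype.val h
  have hβQ : β ∈ Q := by
    have : piHom e' β = 1 := by rw [← hmk, hg]; rfl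
    rw [← QuotientGroup.eq_one_iff]
    exact e'.injective ((show e' (QuotientGroup.mk β) = 1 from this).trans (map_one e').symm)
  obtain ⟨n, hn⟩ := H.setting.2.2.1.1.1 ⟨β, hβQ⟩
  have hn' : β ^ 2 ^ n = 1 := congrArg Subtype.val hn
  have h2 := orderOf_dvd_of_pow_eq_one hn'
  have h3 := orderOf_dvd_of_pow_eq_one hβp
  have hcop : Nat.Coprime (2 ^ n) p :=
    Nat.Coprime.pow_left n (Nat.prime_two.coprime_iff_not_dvd.2 (by omega))
  exact orderOf_eq_one_iff.1 (Nat.dvd_one.1 (hcop.gcd_eq_one ▸ Nat.dvd_gcd h2 h3))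

theorem exists_lift (g : Co0) : ∃ h : Subgroup.centralizer ({z} : Set G), piHom e h = QuotientGroup.mk g :=
  piHom_surjective e _

theorem mem_Q_of_piHom {x : Subgroup.centralizer ({z} : Set G)} (h : piHom e x = 1) : x ∈ Q := by
  rw [← QuotientGroup.eq_one_iff]
  exact e.injective ((show e (QuotientGroup.mk x) = 1 from h).trans (map_one e).symm)

end MT

end Cfsg.Agent.MonsterT
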