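/-
Elements of odd prime order in the centralizer of a four-group of a group of Monster type.
-/
import Cfsg.Agent.Lib.MonsterT.Twist
import Cfsg.Agent.Lib.MonsterT.FixModel
set_option autoImplicit false

namespace Cfsg.Agent.MonsterT

open Cfsg Cfsg.Agent.Golay Cfsg.Agent.Leech
open Cfsg.Agent.LatticeMod2 (Rootless Cong)

variable {G : Type*} [Group G] [Finite G] {z : G}
  {Q : Subgroup (Subgroup.centralizer ({z} : Set G))} [Q.Normal]
  {e : (Subgroup.centralizer ({z} : Set G)) ⧸ Q ≃* Spor.Co1} {ψ : leechLattice → Q ⧸ Subgroup.center Q}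

/-- An element of odd prime order in standard position. -/
structure Loc (z : G) (Q : Subgroup (Subgroup.centralizer ({z} : Set G))) [Q.Normal]
    (e : (Subgroup.centralizer ({z} : Set G)) ⧸ Q ≃* Spor.Co1) (ψ : leechLattice → Q ⧸ Subgroup.center Q)
    (b : Co0) (p : ℕ) (β : Subgroup.centralizer ({z} : Set G)) (q : Q) : Prop where
  mt : MT z Q e ψ
  prime : p.Prime
  odd : p % 2 = 1
  bpow : b ^ p = 1
  img : piHom e β = QuotientGroup.mk b
  ord : orderOf β = p
  ax : ψ (axis none) = QuotientGroup.mk q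
  comm : cq β q = q

/-- The subgroup of elements fixed by `β`. -/
def fixSub (Q : Subgroup (Subgroup.centralizer ({z} : Set G))) (β : Subgroup.centralizer ({z} : Set G)) :
    Subgroup Q :=
  (Subgroup.centralizer ({β} : Set (Subgroup.centralizer ({z} : Set G)))).subgroupOf Q

omit [Finite G] in
theorem mem_fixSub {β : Subgroup.centralizer ({z} : Set G)} {r : Q} : r ∈ fixSub Q β ↔ cq β r = r := by
  rw [fixSub, Subgroup.mem_subgroupOf, Subgroup.mem_centralizer_singleton_iff]
  constructor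
  · intro h
    refine Subtype.ext ?_
    show β * r * β⁻¹ = (r : Subgroup.centralizer ({z} : Set G))
    rw [mul_inv_eq_iff_eq_mul, h]
  · intro h
    exact (mul_inv_eq_iff_eq_mul.1 (congrArg Subtype.val h :
      β * (r : Subgroup.centralizer ({z} : Set G)) * β⁻¹ = r)).symm

omit [Finite G] in
theorem cq_mul (h : Subgroup.centralizer ({z} : Set G)) (a b : Q) : cq h (a * b) = cq h a * cq h b :=
  Subtype.ext (by
    show h * ((a : Subgroup.centralizer ({z} : Set G)) * b) * h⁻¹ = h * a * h⁻¹ * (h * b * h⁻¹)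
    group)

omit [Finite G] in
theorem cq_comp (h h' : Subgroup.centralizer ({z} : Set G)) (a : Q) : cq (h * h') a = cq h (cq h' a) :=
  Subtype.ext (by
    show h * h' * (a : Subgroup.centralizer ({z} : Set G)) * (h * h')⁻¹ = h * (h' * a * h'⁻¹) * h⁻¹
    group)

theorem MT.cq_center (H : MT z Q e ψ) (h : Subgroup.centralizer ({z} : Set G)) {c : Q}
    (hc : c ∈ Subgroup.center Q) : cq h c = c := by
  refine toG_inj ?_
  show (h : G) * toG c * (h : G)⁻¹ = toG c
  rcases (H.center_iff c).1 hc with e1 | e1 <;> rw [e1]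
  · group
  · rw [Subgroup.mem_centralizer_singleton_iff.1 h.2, mul_inv_cancel_right]

/-- The centralizer of the four-group has order dividing a product. -/
theorem MT.dvd_stab (H : MT z Q e ψ) {q : Q} (hax : ψ (axis none) = QuotientGroup.mk q) :
    Nat.card (Subgroup.centralizer ({(q : Subgroup.centralizer ({z} : Set G))} :
      Set (Subgroup.centralizer ({z} : Set G)))) ∣ 2 ^ 25 * (4096 * 244823040) := by
  set L := Subgroup.centralizer ({(q : Subgroup.centralizer ({z} : Set G))} :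
      Set (Subgroup.centralizer ({z} : Set G)))
  haveI := finite_Co0
  have h := ((piHom e).comp L.subtype).ker.card_mul_index
  rw [Subgroup.index_ker] at h
  rw [← h]
  refine Nat.mul_dvd_mul ?_ ?_
  · have h2 : Nat.card ((piHom e).comp L.subtype).ker ∣ Nat.card Q := by
      rw [← Subgroup.card_map_of_injective L.subtype_injective]
      refine Subgroup.card_dvd_of_le ?_
      rintro _ ⟨x, hx, rfl⟩
      exact H.mem_Q_of_piHom hx
    rwa [H.setting.2.2.2.1] at h2
  · refine dvd_trans (Subgroup.card_dvd_of_le (K := crossStab.map (QuotientGroup.mk' (Subgroup.center Co0))) ?_) ?_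
    · rintro _ ⟨x, rfl⟩
      obtain ⟨g, hg⟩ := QuotientGroup.mk_surjective (piHom e x.1)
      have hx : cq x.1 q = q := Subtype.ext (by
        show (x : Subgroup.centralizer ({z} : Set G)) * q * (x : Subgroup.centralizer ({z} : Set G))⁻¹ = q
        rw [mul_inv_eq_iff_eq_mul]
        exact Subgroup.mem_centralizer_singleton_iff.1 x.2)
      have := H.cong_of_comm hax hx hg.symm
      rw [classStab_axis] at this
      exact ⟨g, this, hg⟩
    · rw [← card_crossStab]
      exact Subgroup.card_map_dvd _ _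

namespace Loc

variable {b : Co0} {p : ℕ} {β : Subgroup.centralizer ({z} : Set G)} {q : Q} (D : Loc z Q e ψ b p β q)
include D

theorem beta_pow : β ^ p = 1 := by rw [← D.ord]; exact pow_orderOf_eq_one β

theorem beta_not_Q : β ∉ Q := fun h => by
  obtain ⟨n, hn⟩ := D.mt.setting.2.2.1.1.1 ⟨β, h⟩
  have hn' : β ^ 2 ^ n = 1 := congrArg Subtype.val hn
  have := orderOf_dvd_of_pow_eq_one hn'
  rw [D.ord] at this
  have h2 := (Nat.prime_dvd_prime_iff_eq D.prime Nat.prime_two).1 (D.prime.dvd_of_dvd_pow this)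
  have := D.odd
  omega

theorem mk_order : orderOf (QuotientGroup.mk b : Spor.Co1) = p := by
  haveI : Fact p.Prime := ⟨D.prime⟩
  refine orderOf_eq_prime (by rw [← QuotientGroup.mk_pow, D.bpow]; rfl) fun h => ?_
  exact D.beta_not_Q (D.mt.mem_Q_of_piHom (D.img.trans h))

/-- The fixed classes are those of the fixed elements. -/
theorem fixed_iff {x : leechLattice} {r : Q} (hr : ψ x = QuotientGroup.mk r) :
    Fixed b x ↔ r ∈ fixSub Q β := by
  have hψ : ψ (b • x) = QuotientGroup.mk (cq β r) := D.mt.iso.2.2.2 β b D.img.symm x r hr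
  rw [mem_fixSub]
  constructor
  · intro h
    have h1 : (QuotientGroup.mk r : Q ⧸ Subgroup.center Q) = QuotientGroup.mk (cq β r) := by
      rw [← hr, ← hψ]; exact (D.mt.psi_eq_iff.2 h).symm
    obtain ⟨c, hc, hcr⟩ : ∃ c ∈ Subgroup.center Q, cq β r = r * c :=
      ⟨r⁻¹ * cq β r, QuotientGroup.eq.1 h1, by group⟩
    have key : ∀ n : ℕ, cq (β ^ n) r = r * c ^ n := by
      intro n
      induction n with
      | zero =>
        rw [pow_zero, pow_zero, mul_one]
        exact Subtype.ext (by show (1 : Subgroup.centralizer ({z} : Set G)) * r * (1 : _)⁻¹ = _; simp)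
      | succ n ih =>
        rw [pow_succ', cq_comp, ih, cq_mul, hcr, D.mt.cq_center β ((Subgroup.center Q).pow_mem hc n),
          mul_assoc, ← pow_succ']
    have hp := key p
    rw [D.beta_pow] at hp
    have hc1 : c ^ p = 1 := by
      have e1 : cq (1 : Subgroup.centralizer ({z} : Set G)) r = r :=
        Subtype.ext (by show (1 : Subgroup.centralizer ({z} : Set G)) * r * (1 : _)⁻¹ = _; simp)
      rw [e1] at hp
      exact left_eq_mul.1 hp
    have h2 := D.mt.center_sq hc
    rw [← Nat.div_add_mod p 2, D.odd, pow_succ, pow_mul, pow_two, h2, one_pow, one_mul] at hc1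
    rw [hcr, hc1, mul_one]
  · intro h
    rw [h, ← hr] at hψ
    exact D.mt.psi_eq_iff.1 hψ

theorem exists_rep {r : Q} : ∃ x, ψ x = QuotientGroup.mk r := D.mt.psi_surj r

/-- The centralizer of the four-group has order dividing a product. -/
theorem card_stab_dvd :
    Nat.card (Subgroup.centralizer ({(q : Subgroup.centralizer ({z} : Set G))} :
      Set (Subgroup.centralizer ({z} : Set G)))) ∣ 2 ^ 25 * (4096 * 244823040) :=
  MT.dvd_stab D.mt D.ax

/-- Lifting normalisers of the element of prime order. -/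
theorem lift (L : Subgroup (Subgroup.centralizer ({z} : Set G))) (hβ : β ∈ L) {g : Co0} {a : ℕ}
    (hg : g * b * g⁻¹ = b ^ a) {h : Subgroup.centralizer ({z} : Set G)} (hh : h ∈ L)
    (himg : piHom e h = QuotientGroup.mk g) :
    ∃ n ∈ L, n * β * n⁻¹ = β ^ a ∧ ∃ i : ℕ, piHom e n = QuotientGroup.mk (b ^ i * g) := by
  haveI := finite_Co0
  set K := (Subgroup.zpowers (QuotientGroup.mk b : Spor.Co1)).comap (piHom e) ⊓ L
  have hK : ¬ p ^ 2 ∣ Nat.card K := by
    have h1 := ((piHom e).comp K.subtype).ker.card_mul_index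
    rw [Subgroup.index_ker] at h1
    have h2 : Nat.card ((piHom e).comp K.subtype).ker ∣ 2 ^ 25 := by
      rw [← D.mt.setting.2.2.2.1, ← Subgroup.card_map_of_injective K.subtype_injective]
      refine Subgroup.card_dvd_of_le ?_
      rintro _ ⟨x, hx, rfl⟩
      exact D.mt.mem_Q_of_piHom hx
    have h3 : Nat.card ((piHom e).comp K.subtype).range ∣ p := by
      conv_rhs => rw [← D.mk_order, ← Nat.card_zpowers]
      refine Subgroup.card_dvd_of_le ?_
      rintro _ ⟨x, rfl⟩
      exact x.2.1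
    intro hd
    rw [← h1] at hd
    have h4 : p ^ 2 ∣ 2 ^ 25 * p := hd.trans (Nat.mul_dvd_mul h2 h3)
    rw [pow_two] at h4
    have h5 := Nat.dvd_of_mul_dvd_mul_right D.prime.pos h4
    have := (Nat.prime_dvd_prime_iff_eq D.prime Nat.prime_two).1 (D.prime.dvd_of_dvd_pow h5)
    have := D.odd
    omega
  have hbK : β ∈ K := ⟨Subgroup.mem_comap.2 (by rw [D.img]; exact Subgroup.mem_zpowers _), hβ⟩
  have himg' : piHom e (h * β * h⁻¹) = (QuotientGroup.mk b : Spor.Co1) ^ a := by
    rw [map_mul, map_mul, map_inv, himg, D.img, ← QuotientGroup.mk_inv, ← QuotientGroup.mk_mul,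
      ← QuotientGroup.mk_mul, hg, QuotientGroup.mk_pow]
  have hcK : h * β * h⁻¹ ∈ K :=
    ⟨Subgroup.mem_comap.2 (by rw [himg']; exact Subgroup.pow_mem _ (Subgroup.mem_zpowers _) a),
      L.mul_mem (L.mul_mem hh hβ) (L.inv_mem hh)⟩
  obtain ⟨k, j, hk⟩ := exists_conj_prime D.prime hK (b := (⟨β, hbK⟩ : K)) (c := ⟨_, hcK⟩)
    (by rw [Subgroup.orderOf_mk, D.ord])
    (by
      rw [Subgroup.orderOf_mk, ← D.ord]
      exact (orderOf_injective (MulAut.conj h).toMonoidHom (MulAut.conj h).injective β))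
  have hk' : (k : Subgroup.centralizer ({z} : Set G)) * (h * β * h⁻¹) *
      (k : Subgroup.centralizer ({z} : Set G))⁻¹ = β ^ j := by
    have := congrArg Subtype.val hk
    simpa using this
  obtain ⟨i, hi⟩ := mem_powers_iff_mem_zpowers.2 (show piHom e k ∈ Subgroup.zpowers _ from k.2.1)
  refine ⟨k * h, L.mul_mem k.2.2 hh, ?_, i, by rw [map_mul, himg, ← hi, QuotientGroup.mk_mul, QuotientGroup.mk_pow]⟩
  have e1 : (k : Subgroup.centralizer ({z} : Set G)) * h * β * ((k : Subgroup.centralizer ({z} : Set G)) * h)⁻¹ =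
      β ^ j := by rw [← hk']; group
  rw [e1]
  have e2 : (QuotientGroup.mk b : Spor.Co1) ^ j = (QuotientGroup.mk b : Spor.Co1) ^ a := by
    have := congrArg (piHom e) hk'
    rw [map_mul, map_mul, map_inv, himg', ← hi, map_pow, D.img] at this
    rw [← this, ← pow_add, add_comm, pow_add, mul_inv_cancel_right]
  rw [pow_eq_pow_iff_modEq, D.mk_order] at e2
  rw [pow_eq_pow_iff_modEq, D.ord]
  exact e2

/-- The squares of the squares of the automorphisms give elements centralising the element of prime order. -/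
theorem fused (hconj : ∀ h : G, h * z * h⁻¹ = toG q → h * toG q * h⁻¹ = z * toG q →
      ∃ n : Subgroup.centralizer ({z} : Set G), cq n q = q ∧ ∃ a : ℕ,
        (n : G) * (h * (β : G) * h⁻¹) * (n : G)⁻¹ = (β : G) ^ a)
    (hsq : ∀ a : ℕ, (β : G) ^ a ≠ 1 → ∃ n : Subgroup.centralizer ({z} : Set G), cq n q = q ∧
      n * β * n⁻¹ = β ^ (a ^ 4)) (hq : IsConj z (toG q)) (hne : toG q ≠ z) :
    ∃ h : G, h * (β : G) = (β : G) * h ∧ h * z * h⁻¹ = toG q := by
  obtain ⟨h₀, hz₀, hq₀⟩ := D.mt.exists_cycle hq hne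
  obtain ⟨n, hnq, a, hna⟩ := hconj h₀ hz₀ hq₀
  have hn : ∀ u : Subgroup.centralizer ({z} : Set G), cq u q = q →
      (u : G) * toG q * (u : G)⁻¹ = toG q ∧ (u : G) * z * (u : G)⁻¹ = z := fun u hu =>
    ⟨congrArg toG hu, by rw [Subgroup.mem_centralizer_singleton_iff.1 u.2, mul_inv_cancel_right]⟩
  have hzq : toG q * z = z * toG q := Subgroup.mem_centralizer_singleton_iff.1 q.1.2
  have hq2 : toG q * toG q = 1 := congrArg toG (D.mt.sq_eq_one hq)
  set h := (n : G) * h₀ with hh
  have c1 : h * z * h⁻¹ = toG q := by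
    rw [hh, show (n : G) * h₀ * z * ((n : G) * h₀)⁻¹ = (n : G) * (h₀ * z * h₀⁻¹) * (n : G)⁻¹ by group, hz₀,
      (hn n hnq).1]
  have c2 : h * toG q * h⁻¹ = z * toG q := by
    rw [hh, show (n : G) * h₀ * toG q * ((n : G) * h₀)⁻¹ = (n : G) * (h₀ * toG q * h₀⁻¹) * (n : G)⁻¹ by group,
      hq₀, show (n : G) * (z * toG q) * (n : G)⁻¹ = (n : G) * z * (n : G)⁻¹ * ((n : G) * toG q * (n : G)⁻¹) by
        group, (hn n hnq).1, (hn n hnq).2]
  have c3 : h * (β : G) * h⁻¹ = (β : G) ^ a := by rw [← hna, hh]; group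
  have c4 : h ^ 4 * z * (h ^ 4)⁻¹ = toG q := by
    have c5 : h * (z * toG q) * h⁻¹ = z := by
      rw [show h * (z * toG q) * h⁻¹ = h * z * h⁻¹ * (h * toG q * h⁻¹) by group, c1, c2, ← mul_assoc, hzq,
        mul_assoc, hq2, mul_one]
    calc h ^ 4 * z * (h ^ 4)⁻¹ = h * (h * (h * (h * z * h⁻¹) * h⁻¹) * h⁻¹) * h⁻¹ := by
          simp only [pow_succ, pow_zero, one_mul]; group
      _ = toG q := by rw [c1, c2, c5, c1]
  have c6 : ∀ m : ℕ, h ^ m * (β : G) * (h ^ m)⁻¹ = (β : G) ^ (a ^ m) := by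
    intro m
    induction m with
    | zero => simp
    | succ m ih =>
      calc h ^ (m + 1) * (β : G) * (h ^ (m + 1))⁻¹ = h * (h ^ m * (β : G) * (h ^ m)⁻¹) * h⁻¹ := by
            rw [pow_succ']; group
        _ = _ := by rw [ih, ← conj_pow, c3, ← pow_mul, ← pow_succ']
  have hane : (β : G) ^ a ≠ 1 := fun h1 => by
    rw [← c3, mul_inv_eq_one, mul_eq_left] at h1
    have := D.ord
    rw [show β = 1 from Subtype.ext h1, orderOf_one] at this
    exact D.prime.ne_one this.symm
  obtain ⟨m, hmq, hm⟩ := hsq a hane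
  have hm' : (m : G) * (β : G) * (m : G)⁻¹ = (β : G) ^ (a ^ 4) := congrArg Subtype.val hm
  refine ⟨(m : G)⁻¹ * h ^ 4, ?_, ?_⟩
  · have : (m : G)⁻¹ * h ^ 4 * (β : G) * ((m : G)⁻¹ * h ^ 4)⁻¹ = β := by
      rw [show (m : G)⁻¹ * h ^ 4 * (β : G) * ((m : G)⁻¹ * h ^ 4)⁻¹ =
        (m : G)⁻¹ * (h ^ 4 * (β : G) * (h ^ 4)⁻¹) * (m : G) by group, c6, ← hm']
      group
    exact mul_inv_eq_iff_eq_mul.1 this
  · rw [show (m : G)⁻¹ * h ^ 4 * z * ((m : G)⁻¹ * h ^ 4)⁻¹ =
      (m : G)⁻¹ * (h ^ 4 * z * (h ^ 4)⁻¹) * (m : G) by group, c4]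
    conv_lhs => rw [← (hn m hmq).1]
    group

/-- The conjugating element for a Sylow subgroup of prime order. -/
theorem conj_of_sylow (hp : ¬ p ∣ 4096 * 244823040 / p) (h : G)
    (hz : h * z * h⁻¹ = toG q) (hq' : h * toG q * h⁻¹ = z * toG q) (hq : IsConj z (toG q)) :
    ∃ n : Subgroup.centralizer ({z} : Set G), cq n q = q ∧ ∃ a : ℕ,
      (n : G) * (h * (β : G) * h⁻¹) * (n : G)⁻¹ = (β : G) ^ a := by
  set L := Subgroup.centralizer ({(q : Subgroup.centralizer ({z} : Set G))} :
      Set (Subgroup.centralizer ({z} : Set G))) with hL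
  have hK : ¬ p ^ 2 ∣ Nat.card L := fun hd => by
    have h1 := hd.trans D.card_stab_dvd
    have hcop : Nat.Coprime (p ^ 2) (2 ^ 25) :=
      Nat.Coprime.pow _ _ (((Nat.coprime_primes D.prime Nat.prime_two).2 (by have := D.odd; omega)))
    have h2 := hcop.dvd_of_dvd_mul_left h1
    obtain ⟨m, hm⟩ := h2
    exact hp ⟨m, by rw [hm, pow_two, mul_assoc, Nat.mul_div_cancel_left _ D.prime.pos]⟩
  have hmem : ∀ x : Subgroup.centralizer ({z} : Set G), cq x q = q ↔ x ∈ L := fun x => by
    rw [hL, Subgroup.mem_centralizer_singleton_iff]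
    exact ⟨fun h => mul_inv_eq_iff_eq_mul.1 (congrArg Subtype.val h),
      fun h => Subtype.ext (mul_inv_eq_iff_eq_mul.2 h)⟩
  have hzq : toG q * z = z * toG q := Subgroup.mem_centralizer_singleton_iff.1 q.1.2
  have hq2 : toG q * toG q = 1 := congrArg toG (D.mt.sq_eq_one hq)
  have hβq : (β : G) * toG q * (β : G)⁻¹ = toG q := congrArg toG D.comm
  have hβz : (β : G) * z * (β : G)⁻¹ = z := by
    rw [Subgroup.mem_centralizer_singleton_iff.1 β.2, mul_inv_cancel_right]
  have hzq' : h * (z * toG q) * h⁻¹ = z := by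
    rw [show h * (z * toG q) * h⁻¹ = h * z * h⁻¹ * (h * toG q * h⁻¹) by group, hz, hq', ← mul_assoc, hzq,
      mul_assoc, hq2, mul_one]
  have key : ∀ w : G, (β : G) * w * (β : G)⁻¹ = w →
      h * (β : G) * h⁻¹ * (h * w * h⁻¹) = h * w * h⁻¹ * (h * (β : G) * h⁻¹) := by
    intro w hw
    rw [mul_inv_eq_iff_eq_mul] at hw
    calc h * (β : G) * h⁻¹ * (h * w * h⁻¹) = h * ((β : G) * w) * h⁻¹ := by group
      _ = _ := by rw [hw]; group
  have hcz : h * (β : G) * h⁻¹ ∈ Subgroup.centralizer ({z} : Set G) := by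
    rw [Subgroup.mem_centralizer_singleton_iff]
    have := key (z * toG q) (by
      rw [show (β : G) * (z * toG q) * (β : G)⁻¹ = (β : G) * z * (β : G)⁻¹ * ((β : G) * toG q * (β : G)⁻¹) by
        group, hβz, hβq])
    rwa [hzq'] at this
  have hcq : (⟨_, hcz⟩ : Subgroup.centralizer ({z} : Set G)) ∈ L := by
    rw [hL, Subgroup.mem_centralizer_singleton_iff]
    refine Subtype.ext ?_
    have := key z hβz
    rwa [hz] at this
  obtain ⟨k, a, hk⟩ := exists_conj_prime D.prime hK (b := (⟨β, (hmem β).1 D.comm⟩ : L)) (c := ⟨_, hcq⟩)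
    (by rw [Subgroup.orderOf_mk, D.ord])
    (by
      rw [Subgroup.orderOf_mk, ← Subgroup.orderOf_coe, ← D.ord, ← Subgroup.orderOf_coe β]
      exact (orderOf_injective (MulAut.conj h).toMonoidHom (MulAut.conj h).injective (β : G)))
  refine ⟨k, (hmem _).2 k.2, a, ?_⟩
  have := congrArg (fun x : L => ((x : Subgroup.centralizer ({z} : Set G)) : G)) hk
  simpa using this

end Loc

end Cfsg.Agent.MonsterT
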