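/-
The elements of the extraspecial subgroup fixed by an element of odd prime order.
-/
import Cfsg.Agent.Lib.MonsterT.LocalBasic
import Cfsg.Agent.Lib.FGBasics.Extraspecial
import Cfsg.Agent.Lib.LocalEven.Frattini
import Cfsg.Agent.Lib.Solvable.NilpotentFrattini
set_option autoImplicit false

namespace Cfsg.Agent.MonsterT

open Cfsg Cfsg.Agent.Golay Cfsg.Agent.Leech
open Cfsg.Agent.LatticeMod2 (Rootless Cong)
open scoped commutatorElement

variable {G : Type*} [Group G] [Finite G] {z : G}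
  {Q : Subgroup (Subgroup.centralizer ({z} : Set G))} [Q.Normal]
  {e : (Subgroup.centralizer ({z} : Set G)) ⧸ Q ≃* Spor.Co1} {ψ : leechLattice → Q ⧸ Subgroup.center Q}

namespace Loc

variable {b : Co0} {p r : ℕ} {β : Subgroup.centralizer ({z} : Set G)} {q : Q} (D : Loc z Q e ψ b p β q)
  (M : FixModel b r)
include D

theorem center_mem_fix {c : Q} (hc : c ∈ Subgroup.center Q) : c ∈ fixSub Q β :=
  mem_fixSub.2 (D.mt.cq_center β hc)

theorem q_mem_fix : q ∈ fixSub Q β := mem_fixSub.2 D.comm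

include M

/-- A fixed element of each class. -/
theorem exists_rep_class (i : Fin (2 ^ r)) : ∃ a ∈ fixSub Q β, ψ (M.R i) = QuotientGroup.mk a := by
  obtain ⟨a, ha⟩ : ∃ a : Q, ψ (M.R i) = QuotientGroup.mk a := ⟨_, (Quotient.out_eq _).symm⟩
  exact ⟨a, (D.fixed_iff ha).1 (M.fixed i), ha⟩

theorem exists_class_of {a : Q} (ha : a ∈ fixSub Q β) : ∃ i, ψ (M.R i) = QuotientGroup.mk a := by
  obtain ⟨x, hx⟩ := D.mt.psi_surj a
  obtain ⟨i, hi⟩ := M.cover x ((D.fixed_iff hx).2 ha)
  exact ⟨i, by rw [← hx]; exact (D.mt.psi_eq_iff.2 hi).symm⟩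

/-- Coordinates of the fixed subgroup. -/
noncomputable def fixEquiv : Fin (2 ^ r) × Subgroup.center Q ≃ fixSub Q β :=
  Equiv.ofBijective (fun x => ⟨(D.exists_rep_class M x.1).choose * x.2.1,
    (fixSub Q β).mul_mem (D.exists_rep_class M x.1).choose_spec.1 (D.center_mem_fix x.2.2)⟩) (by
    constructor
    · rintro ⟨i, c⟩ ⟨j, d⟩ h
      have h' := congrArg Subtype.val h
      simp only at h'
      obtain ⟨-, hi⟩ := (D.exists_rep_class M i).choose_spec
      obtain ⟨-, hj⟩ := (D.exists_rep_class M j).choose_spec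
      have hij : i = j := by
        refine M.inj i j (D.mt.psi_eq_iff.1 ?_)
        rw [hi, hj]
        have hq := congrArg (fun a : Q => (QuotientGroup.mk a : Q ⧸ Subgroup.center Q)) h'
        simp only [QuotientGroup.mk_mul] at hq
        rwa [(QuotientGroup.eq_one_iff c.1).2 c.2, (QuotientGroup.eq_one_iff d.1).2 d.2, mul_one, mul_one] at hq
      subst hij
      exact Prod.ext rfl (Subtype.ext (mul_left_cancel h'))
    · rintro ⟨a, ha⟩
      obtain ⟨i, hi⟩ := D.exists_class_of M ha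
      obtain ⟨-, hi'⟩ := (D.exists_rep_class M i).choose_spec
      exact ⟨(i, ⟨(D.exists_rep_class M i).choose⁻¹ * a, QuotientGroup.eq.1 (hi'.symm.trans hi)⟩),
        Subtype.ext (mul_inv_cancel_left _ a)⟩)

theorem fixEquiv_class (x : Fin (2 ^ r) × Subgroup.center Q) :
    ψ (M.R x.1) = QuotientGroup.mk (D.fixEquiv M x).1 := by
  obtain ⟨-, hi⟩ := (D.exists_rep_class M x.1).choose_spec
  show _ = QuotientGroup.mk ((D.exists_rep_class M x.1).choose * x.2.1)
  rw [QuotientGroup.mk_mul, (QuotientGroup.eq_one_iff x.2.1).2 x.2.2, mul_one, ← hi]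

theorem card_fix : Nat.card (fixSub Q β) = 2 ^ r * 2 := by
  rw [← Nat.card_congr (D.fixEquiv M), Nat.card_prod, Nat.card_eq_fintype_card, Fintype.card_fin,
    D.mt.setting.2.2.1.2]

theorem conj_iff_class {i : Fin (2 ^ r)} {a : Q} (hi : ψ (M.R i) = QuotientGroup.mk a) :
    (IsConj z (toG a) ∧ toG a ≠ z) ↔ ip (M.R i) (M.R i) = 8 := by
  constructor
  · rintro ⟨h1, h2⟩
    obtain ⟨v, h8, hv⟩ := D.mt.eight_of_conj h1 h2
    exact M.norm_eight h8 (D.mt.psi_eq_iff.1 (hv.trans hi.symm))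
  · exact D.mt.conj_of_eight hi

/-- The number of conjugates of the central involution among the fixed elements. -/
theorem card_conj : Nat.card {a : fixSub Q β // IsConj z (toG a.1) ∧ toG a.1 ≠ z} =
    2 * Nat.card {i : Fin (2 ^ r) // ip (M.R i) (M.R i) = 8} := by
  refine Eq.trans ?_ ((Nat.card_prod {i : Fin (2 ^ r) // ip (M.R i) (M.R i) = 8} (Subgroup.center Q)).trans
    (by rw [D.mt.setting.2.2.1.2, mul_comm]))
  refine Nat.card_congr ?_
  refine ((D.fixEquiv M).subtypeEquiv (p := fun x => ip (M.R x.1) (M.R x.1) = 8) fun x => ?_).symm.trans ?_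
  · exact (D.conj_iff_class M (D.fixEquiv_class M x)).symm
  · exact
      { toFun := fun x => (⟨x.1.1, x.2⟩, x.1.2)
        invFun := fun x => ⟨(x.1.1, x.2), x.1.2⟩
        left_inv := fun _ => rfl
        right_inv := fun _ => rfl }

omit M

/-- The centre of the fixed subgroup. -/
theorem nondeg {a : Q} (ha : a ∈ fixSub Q β) (h : ∀ r ∈ fixSub Q β, a * r = r * a) : a ∈ Subgroup.center Q := by
  obtain ⟨u, hu⟩ := D.mt.psi_surj a
  refine Subgroup.mem_center_iff.2 fun r => ?_
  obtain ⟨x, hx⟩ := D.mt.psi_surj r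
  refine ((D.mt.kap_form hu hx).2 (even_of_fixed D.bpow D.odd ((D.fixed_iff hu).2 ha) (fun y hy => ?_) x)).symm
  obtain ⟨s, hs⟩ : ∃ s : Q, ψ y = QuotientGroup.mk s := ⟨_, (Quotient.out_eq _).symm⟩
  exact (D.mt.kap_form hu hs).1 (h s ((D.fixed_iff hs).1 hy))

/-- The fixed subgroup is extraspecial. -/
theorem fix_extraspecial {M : FixModel b r} (hr : 0 < r) : IsExtraspecial 2 (fixSub Q β) := by
  haveI : Fact (Nat.Prime 2) := ⟨Nat.prime_two⟩
  set R := fixSub Q β
  have hRp : IsPGroup 2 R := D.mt.setting.2.2.1.1.1.to_subgroup R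
  have hcenter : ∀ a : R, a ∈ Subgroup.center R ↔ a.1 ∈ Subgroup.center Q := fun a =>
    ⟨fun h => D.nondeg a.2 fun r hr => congrArg Subtype.val ((Subgroup.mem_center_iff.1 h ⟨r, hr⟩)).symm,
      fun h => Subgroup.mem_center_iff.2 fun r => Subtype.ext (Subgroup.mem_center_iff.1 h r.1)⟩
  have hZ : Nat.card (Subgroup.center R) = 2 := by
    rw [← D.mt.setting.2.2.1.2]
    exact Nat.card_eq_of_bijective (fun a => ⟨a.1.1, (hcenter a.1).1 a.2⟩)
      ⟨fun a b h => Subtype.ext (Subtype.ext (congrArg (fun c : Subgroup.center Q => c.1) h)),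
        fun c => ⟨⟨⟨c.1, D.center_mem_fix c.2⟩, (hcenter _).2 c.2⟩, rfl⟩⟩
  have hcm : ∀ x y : R, ⁅x, y⁆ ∈ Subgroup.center R := fun x y => (hcenter _).2 (by
    have := D.mt.comm_mem y.1 x.1
    simpa only [commutatorElement_def, Subgroup.coe_mul, InvMemClass.coe_inv] using this)
  have hsq : ∀ x : R, x ^ 2 ∈ Subgroup.center R := fun x => (hcenter _).2 (by
    rw [pow_two]; exact D.mt.sq_mem x.1)
  have hcomeq : commutator R = Subgroup.center R := by
    refine Subgroup.eq_of_le_of_card_ge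
      (by rw [commutator_def]; exact Subgroup.commutator_le.2 fun x _ y _ => hcm x y) ?_
    by_contra hlt
    rw [hZ, not_le] at hlt
    have h1 : commutator R = ⊥ := Subgroup.eq_bot_of_card_le _ (by omega)
    rw [_root_.commutator_eq_bot_iff_center_eq_top] at h1
    rw [h1, Subgroup.card_top, D.card_fix M] at hZ
    have : 2 ≤ 2 ^ r := Nat.le_self_pow (by omega) 2
    omega
  haveI : Group.IsNilpotent R := hRp.isNilpotent
  refine ⟨⟨hRp, le_antisymm (LEFrattini.frattini_le hcm hsq) ?_, hcomeq⟩, hZ⟩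
  rw [← hcomeq]
  exact SolvStruct.commutator_le_frattini _

end Loc

end Cfsg.Agent.MonsterT
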