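/-
The centralizer of an element of odd prime order of a group of Monster type, modulo that element.
-/
import Cfsg.Agent.Lib.MonsterT.LocalFixed
import Cfsg.Agent.Lib.Components.Local
import Cfsg.Agent.Lib.Qd.Basic
set_option autoImplicit false

namespace Cfsg.Agent.MonsterT

open Cfsg Cfsg.Agent.Golay Cfsg.Agent.Leech
open Cfsg.Agent.LatticeMod2 (Rootless Cong)

/-- A description of the centralizer of an element of odd prime order of the lattice group. -/
structure CentModel (b : Co0) (p r : ℕ) (T : Type) [Group T] where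
  fm : FixModel b r
  F : Subgroup.centralizer ({b} : Set Co0) →* T
  surj : Function.Surjective F
  triv : ∀ c : Subgroup.centralizer ({b} : Set Co0), (c : Co0) = b ∨ (c : Co0) = negCo0 → F c = 1
  ker : ∀ c : Subgroup.centralizer ({b} : Set Co0), F c = 1 → ∃ i : ℕ, (c : Co0) = b ^ i ∨ (c : Co0) = negCo0 * b ^ i
  faith : ∀ c : Subgroup.centralizer ({b} : Set Co0), (∀ a, Cong ((c : Co0) • fm.R a) (fm.R a)) → F c = 1
  core : pCore 2 T = ⊥

variable {G : Type*} [Group G] [Finite G] {z : G}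
  {Q : Subgroup (Subgroup.centralizer ({z} : Set G))} [Q.Normal]
  {e : (Subgroup.centralizer ({z} : Set G)) ⧸ Q ≃* Spor.Co1} {ψ : leechLattice → Q ⧸ Subgroup.center Q}

namespace Loc

variable {b : Co0} {p r : ℕ} {β : Subgroup.centralizer ({z} : Set G)} {q : Q} (D : Loc z Q e ψ b p β q)
include D

/-- An element commuting with `β` gives an element commuting with `b`. -/
theorem exists_commuting_lift {d : Subgroup.centralizer ({z} : Set G)} (hd : d * β = β * d) :
    ∃ g : Subgroup.centralizer ({b} : Set Co0), (QuotientGroup.mk (g : Co0) : Spor.Co1) = piHom e d := by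
  obtain ⟨g, hg⟩ := QuotientGroup.mk_surjective (piHom e d)
  have h1 : (QuotientGroup.mk (g * b * g⁻¹) : Spor.Co1) = QuotientGroup.mk b := by
    rw [QuotientGroup.mk_mul, QuotientGroup.mk_mul, QuotientGroup.mk_inv, hg, ← D.img, ← map_mul, hd, map_mul,
      mul_inv_cancel_right]
  have h2 : b = g * b * g⁻¹ := odd_lift_unique D.odd (by rw [conj_pow, D.bpow, mul_one, mul_inv_cancel]) D.bpow h1
  refine ⟨⟨g, Subgroup.mem_centralizer_singleton_iff.2 ?_⟩, hg⟩
  exact (eq_mul_inv_iff_mul_eq.1 h2).symm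

set_option maxHeartbeats 1000000 in
/-- The centralizer modulo the element of prime order, with the identification of the involution and of the
extraspecial subgroup. -/
theorem setting_of_full {T : Type} [Group T] [Finite T] (M : CentModel b p r T) {w : ℕ} (hr : r = 2 * w) (hr0 : 0 < r)
    {B : Subgroup G} (hB : B = Subgroup.zpowers (β : G))
    [hN : (B.subgroupOf (Subgroup.centralizer (B : Set G))).Normal]
    (hfuse : ∃ h : G, h * (β : G) = (β : G) * h ∧ h * z * h⁻¹ = toG q ∧ toG q ≠ z) :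
    ∃ (zb : ↥(Subgroup.centralizer (B : Set G)) ⧸ B.subgroupOf (Subgroup.centralizer (B : Set G)))
      (R : Subgroup (Subgroup.centralizer ({zb} : Set
        (↥(Subgroup.centralizer (B : Set G)) ⧸ B.subgroupOf (Subgroup.centralizer (B : Set G))))))
      (_ : R.Normal),
      IsExtraspecialCentralizerSetting zb R w ∧ Nonempty (_ ⧸ R ≃* T) ∧
      ((∀ a ∈ fixSub Q β, IsConj z (toG a) → toG a ≠ z → ∃ h : G, h * (β : G) = (β : G) * h ∧ h * z * h⁻¹ = toG a) →
        Set.ncard {x : Subgroup.centralizer ({zb} : Set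
          (↥(Subgroup.centralizer (B : Set G)) ⧸ B.subgroupOf (Subgroup.centralizer (B : Set G)))) |
            x ∈ R ∧ IsConj zb x.1} =
          1 + 2 * Nat.card {i : Fin (2 ^ r) // ip (M.fm.R i) (M.fm.R i) = 8}) ∧
      (∃ hz : z ∈ Subgroup.centralizer (B : Set G), zb = QuotientGroup.mk ⟨z, hz⟩) ∧
      (∀ x ∈ R, ∃ a ∈ fixSub Q β, ∃ ha : toG a ∈ Subgroup.centralizer (B : Set G), x.1 = QuotientGroup.mk ⟨toG a, ha⟩) ∧
      ∀ a ∈ fixSub Q β, ∀ ha : toG a ∈ Subgroup.centralizer (B : Set G), ∃ x ∈ R, x.1 = QuotientGroup.mk ⟨toG a, ha⟩ := by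
  classical
  haveI : Fact (Nat.Prime 2) := ⟨Nat.prime_two⟩
  set CT := Subgroup.centralizer (B : Set G) with hCT
  set N := B.subgroupOf CT with hNdef
  have memCT : ∀ x : G, x ∈ CT ↔ x * (β : G) = (β : G) * x := by
    intro x
    rw [hCT, Subgroup.mem_centralizer_iff, hB]
    constructor
    · intro h; exact (h _ (Subgroup.mem_zpowers _)).symm
    · intro h y hy
      obtain ⟨i, rfl⟩ := Subgroup.mem_zpowers_iff.1 hy
      exact ((show Commute x (β : G) from h).zpow_right i).eq.symm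
  have hz1 := D.mt.z_ne_one
  have hz2 := D.mt.z_sq
  have hzβ : z * (β : G) = (β : G) * z := (Subgroup.mem_centralizer_singleton_iff.1 β.2).symm
  have hzCT : z ∈ CT := (memCT z).2 hzβ
  have hBC : ∀ y ∈ B, ∃ u : Subgroup.centralizer ({z} : Set G), u ∈ Subgroup.zpowers β ∧ (u : G) = y := by
    intro y hy
    rw [hB] at hy
    obtain ⟨i, rfl⟩ := Subgroup.mem_zpowers_iff.1 hy
    exact ⟨β ^ i, Subgroup.zpow_mem _ (Subgroup.mem_zpowers β) i, by simp⟩
  have hodd : ∀ y ∈ B, y * y = 1 → y = 1 := by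
    intro y hy h2
    obtain ⟨u, hu, rfl⟩ := hBC y hy
    have h1 : orderOf u ∣ p := by
      obtain ⟨i, rfl⟩ := Subgroup.mem_zpowers_iff.1 hu
      refine orderOf_dvd_of_pow_eq_one ?_
      rw [← zpow_natCast, ← zpow_mul, mul_comm, zpow_mul, zpow_natCast, D.beta_pow, one_zpow]
    have h3 : orderOf u ∣ 2 := orderOf_dvd_of_pow_eq_one (Subtype.ext (by simpa [pow_two] using h2))
    have h4 := Nat.dvd_gcd h1 h3
    rw [show Nat.gcd p 2 = 1 from ((Nat.coprime_primes D.prime Nat.prime_two).2 (by have := D.odd; omega)).gcd_eq_one,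
      Nat.dvd_one, orderOf_eq_one_iff] at h4
    rw [h4]; rfl
  set zb : ↥CT ⧸ N := QuotientGroup.mk (⟨z, hzCT⟩ : CT) with hzb
  set Dz := Subgroup.centralizer ({zb} : Set (↥CT ⧸ N)) with hDdef
  let D1 : Subgroup ↥CT := (Subgroup.centralizer ({z} : Set G)).subgroupOf CT
  have hD : ∀ x : CT, (QuotientGroup.mk x : ↥CT ⧸ N) ∈ Dz ↔ x ∈ D1 := by
    intro x
    rw [hDdef, Subgroup.mem_centralizer_singleton_iff, Subgroup.mem_subgroupOf,
      Subgroup.mem_centralizer_singleton_iff, hzb, ← QuotientGroup.mk_mul, ← QuotientGroup.mk_mul,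
      QuotientGroup.eq, hNdef, Subgroup.mem_subgroupOf]
    simp only [Subgroup.coe_mul, InvMemClass.coe_inv]
    constructor
    · intro h
      set y := ((x : G) * z)⁻¹ * (z * (x : G)) with hy
      have hyz : z * y = y * z := by
        obtain ⟨u, hu, hu'⟩ := hBC y h
        rw [← hu']
        exact (Subgroup.mem_centralizer_singleton_iff.1 u.2).symm
      have hsq : y * y = 1 := by
        have e1 : (x : G)⁻¹ * z * (x : G) = z * y := by
          rw [hy, show z * (((x : G) * z)⁻¹ * (z * (x : G))) = z * z⁻¹ * ((x : G)⁻¹ * z * (x : G)) by group,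
            mul_inv_cancel, one_mul]
        have e2 : z * y * (z * y) = 1 := by
          rw [← e1, show (x : G)⁻¹ * z * (x : G) * ((x : G)⁻¹ * z * (x : G)) = (x : G)⁻¹ * (z * z) * (x : G) by
            group, hz2, mul_one, inv_mul_cancel]
        calc y * y = z * z * (y * y) := by rw [hz2, one_mul]
          _ = z * (z * y) * y := by group
          _ = z * (y * z) * y := by rw [hyz]
          _ = z * y * (z * y) := by group
          _ = 1 := e2
      exact inv_mul_eq_one.1 (hodd y h hsq)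
    · intro h
      rw [h, inv_mul_cancel]; exact one_mem _
  let j : ↥D1 →* ↥Dz := ((QuotientGroup.mk' N).comp D1.subtype).codRestrict Dz fun x => (hD x.1).2 x.2
  have hj : Function.Surjective j := by
    intro x
    obtain ⟨y, hy⟩ := QuotientGroup.mk_surjective x.1
    exact ⟨⟨y, (hD y).1 (hy ▸ x.2)⟩, Subtype.ext hy⟩
  have hjker : ∀ d : D1, j d = 1 ↔ ((d : CT) : G) ∈ B := fun d => by
    rw [show ((d : CT) : G) ∈ B ↔ (d : CT) ∈ N from (Subgroup.mem_subgroupOf).symm, ← QuotientGroup.eq_one_iff]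
    exact ⟨fun h => congrArg Subtype.val h, fun h => Subtype.ext h⟩
  let Cq : Subgroup Q := fixSub Q β
  have hCqG : ∀ a : Cq, toG a.1 ∈ CT := fun a => (memCT _).2 (by
    have h := congrArg toG (mem_fixSub.1 a.2)
    exact (mul_inv_eq_iff_eq_mul.1 (show (β : G) * toG a.1 * (β : G)⁻¹ = toG a.1 from h)).symm)
  let jQ : ↥Cq →* ↥D1 := MonoidHom.mk' (fun a => ⟨⟨toG a.1, hCqG a⟩, a.1.1.2⟩) fun a c => rfl
  let jR : ↥Cq →* ↥Dz := j.comp jQ
  have hjR : ∀ a : Cq, jR a = 1 → a = 1 := fun a h => by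
    obtain ⟨u, hu, hu'⟩ := hBC _ ((hjker _).1 h)
    have e1 : (a.1 : Subgroup.centralizer ({z} : Set G)) = u := Subtype.ext hu'.symm
    by_contra hne
    obtain ⟨i, rfl⟩ := Subgroup.mem_zpowers_iff.1 hu
    have hmem : β ^ i ∈ Q := e1 ▸ a.1.2
    have h1 : (QuotientGroup.mk b : Spor.Co1) ^ i = 1 := by
      rw [← D.img, ← map_zpow]; exact piHom_mem e hmem
    rw [← orderOf_dvd_iff_zpow_eq_one, D.mk_order] at h1
    obtain ⟨k, rfl⟩ := h1
    rw [zpow_mul, zpow_natCast, D.beta_pow, one_zpow] at e1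
    exact hne (Subtype.ext (Subtype.ext e1))
  have hjRinj : Function.Injective jR := (injective_iff_map_eq_one jR).2 hjR
  let iota : ↥D1 →* ↥(Subgroup.centralizer ({z} : Set G)) :=
    MonoidHom.mk' (fun d => ⟨((d : CT) : G), d.2⟩) fun a c => rfl
  have hiota : ∀ d : D1, iota d * β = β * iota d := fun d => Subtype.ext ((memCT _).1 d.1.2)
  choose gl hgl using fun d : D1 => D.exists_commuting_lift (hiota d)
  let negC : Subgroup.centralizer ({b} : Set Co0) :=
    ⟨negCo0, Subgroup.mem_centralizer_singleton_iff.2 (Subgroup.mem_center_iff.1 negCo0_mem_center b).symm⟩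
  let bC : Subgroup.centralizer ({b} : Set Co0) := ⟨b, Subgroup.mem_centralizer_singleton_iff.2 rfl⟩
  have hFmk : ∀ c c' : Subgroup.centralizer ({b} : Set Co0),
      (QuotientGroup.mk (c : Co0) : Spor.Co1) = QuotientGroup.mk (c' : Co0) → M.F c = M.F c' := by
    intro c c' h
    rcases mk_eq_mk h with h' | h'
    · rw [Subtype.ext h']
    · rw [show c' = negC * c from Subtype.ext h', map_mul, M.triv negC (Or.inr rfl), one_mul]
  let f : ↥D1 →* T := MonoidHom.mk' (fun d => M.F (gl d)) fun d d' => by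
    rw [← map_mul]
    refine hFmk _ _ ?_
    rw [hgl, Subgroup.coe_mul, QuotientGroup.mk_mul, hgl, hgl, ← map_mul]
    rfl
  have hf : ∀ (d : D1) (c : Subgroup.centralizer ({b} : Set Co0)),
      piHom e (iota d) = QuotientGroup.mk (c : Co0) → f d = M.F c := fun d c h => hFmk _ _ ((hgl d).trans h)
  have hfs : Function.Surjective f := by
    intro t
    obtain ⟨c, rfl⟩ := M.surj t
    obtain ⟨h, hh⟩ := D.mt.exists_lift (c : Co0)
    have hc : (c : Co0) * b * (c : Co0)⁻¹ = b ^ 1 := by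
      rw [Subgroup.mem_centralizer_singleton_iff.1 c.2, mul_inv_cancel_right, pow_one]
    obtain ⟨n, -, hn, i, hni⟩ := D.lift ⊤ (Subgroup.mem_top _) hc (Subgroup.mem_top h) hh
    rw [pow_one, mul_inv_eq_iff_eq_mul] at hn
    refine ⟨⟨⟨(n : G), (memCT _).2 (congrArg Subtype.val hn)⟩, n.2⟩, ?_⟩
    rw [hf _ (bC ^ i * c) hni, map_mul, map_pow, M.triv bC (Or.inl rfl), one_pow, one_mul]
  have hfker : ∀ d : D1, f d = 1 → ∃ a : Cq, ∃ d' : D1, d = jQ a * d' ∧ ((d' : CT) : G) ∈ B := by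
    intro d hd
    obtain ⟨i, hi⟩ := M.ker _ hd
    have h1 : piHom e (iota d) = piHom e (β ^ i) := by
      rw [← hgl, map_pow, D.img]
      rcases hi with hi | hi <;> rw [hi]
      · rw [QuotientGroup.mk_pow]
      · rw [QuotientGroup.mk_mul, mk_neg, one_mul, QuotientGroup.mk_pow]
    have h2 : iota d * (β ^ i)⁻¹ ∈ Q := D.mt.mem_Q_of_piHom (by rw [map_mul, map_inv, h1, mul_inv_cancel])
    have hcomm : β * (iota d * (β ^ i)⁻¹) = iota d * (β ^ i)⁻¹ * β :=
      ((show Commute (iota d) β from hiota d).mul_left ((Commute.refl β).pow_left i).inv_left).eq.symm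
    have ha : (⟨_, h2⟩ : Q) ∈ Cq := mem_fixSub.2 (Subtype.ext (mul_inv_eq_iff_eq_mul.2 hcomm))
    refine ⟨⟨_, ha⟩, (jQ ⟨_, ha⟩)⁻¹ * d, by rw [mul_inv_cancel_left], ?_⟩
    rw [hB]
    show (((d : CT) : G) * ((β : G) ^ i)⁻¹)⁻¹ * ((d : CT) : G) ∈ _
    rw [show (((d : CT) : G) * ((β : G) ^ i)⁻¹)⁻¹ * ((d : CT) : G) = (β : G) ^ i by group]
    exact Subgroup.pow_mem _ (Subgroup.mem_zpowers _) i
  have hfQ : ∀ a : Cq, f (jQ a) = 1 := fun a => by
    rw [hf (jQ a) 1 (by rw [Subgroup.coe_one]; exact piHom_mem e a.1.2), map_one]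
  have hle : j.ker ≤ f.ker := fun d hd => by
    obtain ⟨u, hu, hu'⟩ := hBC _ ((hjker d).1 hd)
    obtain ⟨i, rfl⟩ := Subgroup.mem_zpowers_iff.1 hu
    have e1 : iota d = β ^ i := Subtype.ext hu'.symm
    rw [MonoidHom.mem_ker, hf d (bC ^ i) (by rw [e1, map_zpow, D.img, Subgroup.coe_zpow, QuotientGroup.mk_zpow]),
      map_zpow, M.triv bC (Or.inl rfl), one_zpow]
  let φ : ↥Dz →* T := (MonoidHom.liftOfSurjective j hj) ⟨f, hle⟩
  have hφ : ∀ d, φ (j d) = f d := fun d =>
    MonoidHom.liftOfRightInverse_comp_apply j _ (Function.rightInverse_surjInv hj) ⟨f, hle⟩ d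
  have hφs : Function.Surjective φ := fun g => by
    obtain ⟨d, hd⟩ := hfs g
    exact ⟨j d, (hφ d).trans hd⟩
  have hRker : jR.range = φ.ker := by
    ext x
    constructor
    · rintro ⟨a, rfl⟩
      show φ (j (jQ a)) = 1
      rw [hφ, hfQ]
    · intro hx
      obtain ⟨d, rfl⟩ := hj x
      rw [MonoidHom.mem_ker, hφ] at hx
      obtain ⟨a, d', rfl, hd'⟩ := hfker d hx
      exact ⟨a, by rw [map_mul, (hjker d').2 hd', mul_one]; rfl⟩
  haveI hRn : jR.range.Normal := hRker ▸ (inferInstance : φ.ker.Normal)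
  let e₂ : ↥Dz ⧸ jR.range ≃* T :=
    (QuotientGroup.quotientMulEquivOfEq hRker).trans (QuotientGroup.quotientKerEquivOfSurjective φ hφs)
  -- the group R
  have hRiso : (↥Cq) ≃* jR.range := MonoidHom.ofInjective hjRinj
  have hspecial : IsExtraspecial 2 jR.range := Qd.isExtraspecial_congr hRiso.symm (D.fix_extraspecial (M := M.fm) hr0)
  have hRcard : Nat.card jR.range = 2 ^ (2 * w + 1) := by
    rw [← Nat.card_congr hRiso.toEquiv, D.card_fix M.fm, hr, pow_succ]
  have hRp : IsPGroup 2 jR.range := IsPGroup.of_card hRcard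
  have hcentral : Subgroup.centralizer (jR.range : Set Dz) ≤ jR.range := by
    intro x hx
    obtain ⟨d, rfl⟩ := hj x
    rw [hRker, MonoidHom.mem_ker, hφ]
    refine M.faith _ fun i => ?_
    obtain ⟨a, ha, hψ⟩ := D.exists_rep_class M.fm i
    have h1 := D.mt.iso.2.2.2 (iota d) _ (hgl d) _ a hψ
    change ψ _ = QuotientGroup.mk (cq (iota d) a) at h1
    refine D.mt.psi_eq_iff.1 ?_
    rw [h1, hψ]
    congr 1
    have hc := Subgroup.mem_centralizer_iff.1 hx (jR ⟨a, ha⟩) ⟨_, rfl⟩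
    have h2 : j (d * jQ ⟨a, ha⟩ * d⁻¹ * (jQ ⟨a, ha⟩)⁻¹) = 1 := by
      rw [map_mul, map_mul, map_mul, map_inv, map_inv]
      show j d * jR ⟨a, ha⟩ * (j d)⁻¹ * (jR ⟨a, ha⟩)⁻¹ = 1
      rw [← hc]; group
    have hcq : cq (iota d) a ∈ Cq := mem_fixSub.2 (by
      rw [← cq_comp, ← hiota d, cq_comp, mem_fixSub.1 ha])
    have h3 : jR (⟨cq (iota d) a, hcq⟩ * (⟨a, ha⟩ : Cq)⁻¹) = 1 := by
      rw [← h2]
      show j (jQ _) = j _
      exact congrArg j (Subtype.ext (Subtype.ext rfl))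
    have h4 := congrArg Subtype.val (hjR _ h3)
    exact mul_inv_eq_one.1 h4
  have hcore : pCore 2 Dz = jR.range := by
    refine le_antisymm ?_ (PBasic.le_pCore hRn hRp)
    haveI : (pCore 2 Dz).Normal := FittingCores.pCore_normal 2
    haveI : ((pCore 2 Dz).map φ).Normal := Subgroup.Normal.map inferInstance φ hφs
    have h1 := PBasic.le_pCore (inferInstance : ((pCore 2 Dz).map φ).Normal) ((PBasic.pCore_isPGroup 2 Dz).map φ)
    rw [M.core, le_bot_iff] at h1
    intro x hx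
    rw [hRker, MonoidHom.mem_ker]
    have : φ x ∈ (pCore 2 Dz).map φ := ⟨x, hx, rfl⟩
    rwa [h1] at this
  have hFit : generalizedFittingSubgroup Dz = jR.range := by
    rw [← hcore]
    exact Components.generalizedFitting_eq_pCore_iff.2 (by rw [hcore]; exact hcentral)
  have hzord : orderOf zb = 2 := by
    refine orderOf_eq_prime ?_ fun h1 => ?_
    · rw [hzb, pow_two, ← QuotientGroup.mk_mul, show (⟨z, hzCT⟩ : CT) * ⟨z, hzCT⟩ = 1 from Subtype.ext hz2]
      rfl
    · rw [hzb, QuotientGroup.eq_one_iff, hNdef, Subgroup.mem_subgroupOf] at h1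
      exact hz1 (hodd z h1 hz2)
  -- conjugates
  have hconj : ∀ (a : Cq) (g : CT), (QuotientGroup.mk g : ↥CT ⧸ N) * zb * (QuotientGroup.mk g)⁻¹ = (jR a : Dz).1 →
      (g : G) * z * (g : G)⁻¹ = toG a.1 := by
    intro a g h
    rw [hzb, ← QuotientGroup.mk_inv, ← QuotientGroup.mk_mul, ← QuotientGroup.mk_mul] at h
    have h' := QuotientGroup.eq.1 h
    rw [hNdef, Subgroup.mem_subgroupOf] at h'
    simp only [Subgroup.coe_mul, InvMemClass.coe_inv] at h'
    change ((g : G) * z * (g : G)⁻¹)⁻¹ * toG a.1 ∈ B at h'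
    set y := ((g : G) * z * (g : G)⁻¹)⁻¹ * toG a.1 with hy
    set t := (g : G) * z * (g : G)⁻¹ with ht
    have ht2 : t * t = 1 := by
      rw [ht, show (g : G) * z * (g : G)⁻¹ * ((g : G) * z * (g : G)⁻¹) = (g : G) * (z * z) * (g : G)⁻¹ by group, hz2]
      group
    have htc : t * y = y * t := by
      obtain ⟨u, hu, hu'⟩ := hBC y h'
      rw [← hu']
      obtain ⟨i, rfl⟩ := Subgroup.mem_zpowers_iff.1 hu
      rw [Subgroup.coe_zpow]
      have htCT : t ∈ CT := CT.mul_mem (CT.mul_mem g.2 hzCT) (CT.inv_mem g.2)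
      exact ((show Commute t (β : G) from (memCT t).1 htCT).zpow_right i).eq
    have e1 : toG a.1 = t * y := by rw [hy]; group
    -- the square of `a` lies in both subgroups
    have hyB : y * y ∈ B := B.mul_mem h' h'
    have e2 : toG (a.1 * a.1) = y * y := by
      show toG a.1 * toG a.1 = _
      rw [e1]
      calc t * y * (t * y) = t * (y * t) * y := by group
        _ = t * t * (y * y) := by rw [← htc]; group
        _ = _ := by rw [ht2, one_mul]
    have h3 : (a * a : Cq) = 1 := hjR _ ((hjker (jQ (a * a))).2 (by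
      show toG (a * a : Cq).1 ∈ B
      rw [Subgroup.coe_mul, e2]; exact hyB))
    have h4 : y * y = 1 := by rw [← e2, show a.1 * a.1 = 1 from congrArg Subtype.val h3]; rfl
    rw [e1, hodd y h' h4, mul_one]
  have hconjIff : ∀ a : Cq, (∀ h : IsConj z (toG a.1), toG a.1 ≠ z →
      ∃ h : G, h * (β : G) = (β : G) * h ∧ h * z * h⁻¹ = toG a.1) →
      (IsConj zb (jR a : Dz).1 ↔ IsConj z (toG a.1)) := by
    intro a hfa
    constructor
    · intro h
      obtain ⟨g, hg⟩ := isConj_iff.1 h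
      obtain ⟨g, rfl⟩ := QuotientGroup.mk_surjective g
      exact isConj_iff.2 ⟨g, hconj a g hg⟩
    · intro h
      by_cases hne : toG a.1 = z
      · refine isConj_iff.2 ⟨1, ?_⟩
        rw [one_mul, inv_one, mul_one, hzb]
        exact congrArg QuotientGroup.mk (Subtype.ext hne.symm)
      · obtain ⟨g, hg, hgz⟩ := hfa h hne
        refine isConj_iff.2 ⟨QuotientGroup.mk (⟨g, (memCT g).2 hg⟩ : CT), ?_⟩
        rw [hzb, ← QuotientGroup.mk_inv, ← QuotientGroup.mk_mul, ← QuotientGroup.mk_mul]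
        exact congrArg QuotientGroup.mk (Subtype.ext hgz)
  obtain ⟨h, hhβ, hhz, hqne⟩ := hfuse
  let qf : Cq := ⟨q, D.q_mem_fix⟩
  have hwc : ∃ g : ↥CT ⧸ N, (∃ hq : g * zb * g⁻¹ ∈ Dz, (⟨g * zb * g⁻¹, hq⟩ : Dz) ∈ jR.range) ∧
      g * zb * g⁻¹ ≠ zb := by
    have heq : (QuotientGroup.mk (⟨h, (memCT h).2 hhβ⟩ : CT) : ↥CT ⧸ N) * zb *
        (QuotientGroup.mk (⟨h, (memCT h).2 hhβ⟩ : CT))⁻¹ = (jR qf : Dz).1 := by
      rw [hzb, ← QuotientGroup.mk_inv, ← QuotientGroup.mk_mul, ← QuotientGroup.mk_mul]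
      exact congrArg QuotientGroup.mk (Subtype.ext hhz)
    refine ⟨QuotientGroup.mk (⟨h, (memCT h).2 hhβ⟩ : CT), ?_, ?_⟩
    · rw [heq]; exact ⟨(jR qf).2, qf, rfl⟩
    · rw [heq]
      intro h1
      refine hqne ?_
      have h2 := hconj qf 1 (by rw [QuotientGroup.mk_one, one_mul, inv_one, mul_one]; exact h1.symm)
      rw [← h2]; simp
  refine ⟨zb, jR.range, hRn, ⟨hzord, hFit, hspecial, hRcard, hwc⟩, ⟨e₂⟩, fun hall => ?_, ⟨hzCT, hzb⟩,
    fun x hx => ?_, fun a ha ha' => ⟨jR ⟨a, ha⟩, ⟨⟨a, ha⟩, rfl⟩, rfl⟩⟩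
  swap
  · obtain ⟨a, rfl⟩ := hx
    exact ⟨a.1, a.2, hCqG a, rfl⟩
  have hiff : ∀ a : Cq, IsConj zb (jR a : Dz).1 ↔ IsConj z (toG a.1) :=
    fun a => hconjIff a fun h' hne => hall a.1 a.2 h' hne
  have hset : {x : Dz | x ∈ jR.range ∧ IsConj zb x.1} = jR '' {a : Cq | IsConj z (toG a.1)} := by
    ext x
    constructor
    · rintro ⟨⟨a, rfl⟩, hx⟩; exact ⟨a, (hiff a).1 hx, rfl⟩
    · rintro ⟨a, ha, rfl⟩; exact ⟨⟨a, rfl⟩, (hiff a).2 ha⟩
  rw [hset, Set.ncard_image_of_injective _ hjRinj]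
  let zq : Cq := ⟨⟨_, D.mt.z_mem⟩, D.center_mem_fix ((D.mt.center_iff _).2 (Or.inr rfl))⟩
  have hsplit : {a : Cq | IsConj z (toG a.1)} = insert zq {a : Cq | IsConj z (toG a.1) ∧ toG a.1 ≠ z} := by
    ext a
    simp only [Set.mem_insert_iff, Set.mem_ofPred_eq]
    constructor
    · intro h
      by_cases hz : toG a.1 = z
      · exact Or.inl (Subtype.ext (toG_inj hz))
      · exact Or.inr ⟨h, hz⟩
    · rintro (rfl | h)
      · exact IsConj.refl z
      · exact h.1
  have hnotmem : zq ∉ {a : Cq | IsConj z (toG a.1) ∧ toG a.1 ≠ z} := fun h => h.2 rfl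
  rw [hsplit, Set.ncard_insert_of_notMem hnotmem, ← Nat.card_coe_set_eq, add_comm]
  exact congrArg _ (D.card_conj M.fm)

/-- **The centralizer modulo the element of prime order.** -/
theorem setting_of {T : Type} [Group T] [Finite T] (M : CentModel b p r T) {w : ℕ} (hr : r = 2 * w) (hr0 : 0 < r)
    {B : Subgroup G} (hB : B = Subgroup.zpowers (β : G))
    [hN : (B.subgroupOf (Subgroup.centralizer (B : Set G))).Normal]
    (hfuse : ∃ h : G, h * (β : G) = (β : G) * h ∧ h * z * h⁻¹ = toG q ∧ toG q ≠ z) :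
    ∃ (zb : ↥(Subgroup.centralizer (B : Set G)) ⧸ B.subgroupOf (Subgroup.centralizer (B : Set G)))
      (R : Subgroup (Subgroup.centralizer ({zb} : Set
        (↥(Subgroup.centralizer (B : Set G)) ⧸ B.subgroupOf (Subgroup.centralizer (B : Set G))))))
      (_ : R.Normal),
      IsExtraspecialCentralizerSetting zb R w ∧ Nonempty (_ ⧸ R ≃* T) ∧
      ((∀ a ∈ fixSub Q β, IsConj z (toG a) → toG a ≠ z → ∃ h : G, h * (β : G) = (β : G) * h ∧ h * z * h⁻¹ = toG a) →
        Set.ncard {x : Subgroup.centralizer ({zb} : Set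
          (↥(Subgroup.centralizer (B : Set G)) ⧸ B.subgroupOf (Subgroup.centralizer (B : Set G)))) |
            x ∈ R ∧ IsConj zb x.1} =
          1 + 2 * Nat.card {i : Fin (2 ^ r) // ip (M.fm.R i) (M.fm.R i) = 8}) := by
  obtain ⟨zb, R, hR, hset, hiso, hcount, -, -, -⟩ := D.setting_of_full M hr hr0 hB hfuse
  exact ⟨zb, R, hR, hset, hiso, hcount⟩

end Loc

end Cfsg.Agent.MonsterT
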