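/-
Certified models of centralizers of monomial elements of odd prime order in the lattice group.
-/
import Cfsg.Agent.Lib.MonsterT.LocalType
import Cfsg.Agent.Lib.Leech.MatCert
import Cfsg.Agent.Lib.Golay.Local.Cents
set_option autoImplicit false
set_option maxRecDepth 10000

namespace Cfsg.Agent.MonsterT.CentCert

open Cfsg Cfsg.Agent.Golay Cfsg.Agent.Leech Cfsg.Agent.Leech.MatCert Finset
open Cfsg.Agent.PermCert (Elt allBelow allBelow_spec validElt get)
open Cfsg.Agent.LatticeMod2 (Rootless Cong)

/-! ### Lists of coordinates -/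

/-- The sum of two coordinate lists. -/
def addL (a b : List ℤ) : List ℤ := (List.range 24).map fun i => a.getD i 0 + b.getD i 0

/-- Half of the difference of two coordinate lists. -/
def halfDiff (a b : List ℤ) : List ℤ := (List.range 24).map fun i => (a.getD i 0 - b.getD i 0) / 2

/-- Congruence modulo twice the lattice. -/
def congB (a b : List ℤ) : Bool :=
  allBelow (fun i => decide ((a.getD i 0 - b.getD i 0) % 2 = 0)) 24 && latB (halfDiff a b)

/-- The monomial image of a coordinate list. -/
def permL (e : Elt) (l : List ℤ) : List ℤ := (List.range 24).map fun i => l.getD (get 5 e.2 i) 0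

/-- The zero list. -/
def zeroL : List ℤ := (List.range 24).map fun _ => 0

/-- The standard vector of norm eight. -/
def axisL : List ℤ := (List.range 24).map fun i => if i = 23 then 8 else 0

/-- The sum over an orbit. -/
def orbL (e : Elt) (l : List ℤ) : ℕ → List ℤ
  | 0 => zeroL
  | k + 1 => addL l (permL e (orbL e l k))

theorem toVec_map (f : ℕ → ℤ) (p : GolayPt) : toVec ((List.range 24).map f) p = f (idx p) := by
  rw [toVec, List.getD_eq_getElem _ _ (by simp [idx_lt]), List.getElem_map, List.getElem_range]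

theorem allBelow_of {f : ℕ → Bool} : ∀ n, (∀ i < n, f i = true) → allBelow f n = true := by
  intro n
  induction n with
  | zero => intro _; rfl
  | succ n ih =>
    intro h
    show (allBelow f n && f n) = true
    rw [ih fun i hi => h i (by omega), h n (by omega)]; rfl

theorem span_le_leech {x : GolayPt → ℤ} (hx : x ∈ span) : x ∈ leechLattice := by
  refine (AddSubgroup.closure_le _).2 ?_ hx
  rintro _ ⟨l, hl, rfl⟩
  exact latB_spec (List.all_eq_true.1 genL_ok l hl)

theorem toVec_addL (a b : List ℤ) : toVec (addL a b) = toVec a + toVec b :=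
  funext fun p => by rw [addL, toVec_map]; rfl

theorem toVec_zeroL : toVec zeroL = 0 := funext fun p => by rw [zeroL, toVec_map]; rfl

theorem latB_zeroL : latB zeroL = true := by decide +kernel

theorem latB_axisL : latB axisL = true := by decide +kernel

theorem latV_zeroL : latV zeroL latB_zeroL = 0 := Subtype.ext toVec_zeroL

theorem latV_axisL : latV axisL latB_axisL = axis none := by
  refine Subtype.ext (funext fun p => ?_)
  show toVec axisL p = _
  rw [axisL, toVec_map, coe_axis, Pi.single_apply]
  exact if_congr (idx_injective.eq_iff (a := p) (b := none)) rfl rfl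

theorem cong_of_congB {a b : List ℤ} {x y : leechLattice} (hx : (x : GolayPt → ℤ) = toVec a)
    (hy : (y : GolayPt → ℤ) = toVec b) (h : congB a b = true) : Cong x y := by
  simp only [congB, Bool.and_eq_true] at h
  refine ⟨latV _ h.2, Subtype.ext (funext fun p => ?_)⟩
  have := allBelow_spec _ _ h.1 (idx p) (idx_lt p)
  simp only [decide_eq_true_eq] at this
  show (x : GolayPt → ℤ) p - (y : GolayPt → ℤ) p = _
  rw [hx, hy, two_nsmul]
  show _ = toVec (halfDiff a b) p + toVec (halfDiff a b) p
  rw [halfDiff, toVec_map]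
  show a.getD (idx p) 0 - b.getD (idx p) 0 = _
  omega

/-- The monomial automorphism of a coded permutation. -/
noncomputable def bOf (e : Elt) (h : permOf e ∈ M24) : Co0 := mono (⟨permOf e, h⟩, 0)

theorem bOf_smul {e : Elt} (hv : validElt 5 24 e = true) (h : permOf e ∈ M24) {x : leechLattice} {l : List ℤ}
    (hx : (x : GolayPt → ℤ) = toVec l) : ((bOf e h • x : leechLattice) : GolayPt → ℤ) = toVec (permL e l) := by
  funext p
  rw [bOf, mono_smul, permL, toVec_map]
  simp only [monoFun, sgn, ZeroMemClass.coe_zero, Pi.zero_apply, if_true, one_mul, hx]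
  show l.getD (idx ((permOf e).symm p)) 0 = _
  rw [idx_permOf_symm hv]

theorem bOf_pow {e : Elt} {p : ℕ} (h : permOf e ∈ M24) (hp : permOf e ^ p = 1) : bOf e h ^ p = 1 := by
  have key : ∀ n : ℕ, ∀ i, bOf e h ^ n • axis i = axis ((permOf e ^ n) i) := by
    intro n
    induction n with
    | zero => simp
    | succ n ih =>
      intro i
      rw [pow_succ', mul_smul, ih, bOf, mono_axis, pow_succ', Equiv.Perm.mul_apply]
      simp [sgn]
  refine co0_ext fun i => ?_
  rw [key, hp, one_smul, Equiv.Perm.one_apply]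

/-! ### Matrices -/

/-- The automorphism of a certified matrix. -/
noncomputable def gOf (M : List (List ℤ)) (h : certOK M = true) : Co0 := (exists_co0_mat h).choose

theorem gOf_spec {M : List (List ℤ)} (h : certOK M = true) (v : leechLattice) :
    mulV M (v : GolayPt → ℤ) = 8 • ((gOf M h • v : leechLattice) : GolayPt → ℤ) :=
  (exists_co0_mat h).choose_spec v

/-- The matrix intertwines two coded permutations. -/
def twineB (M : List (List ℤ)) (e e' : Elt) : Bool :=
  allBelow (fun i => allBelow (fun j =>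
    decide ((M.getD (get 5 e'.1 i) []).getD (get 5 e.1 j) 0 = (M.getD i []).getD j 0)) 24) 24

theorem twine_spec {M : List (List ℤ)} (hM : certOK M = true) {e e' : Elt} (hv : validElt 5 24 e = true)
    (hv' : validElt 5 24 e' = true) (h : permOf e ∈ M24) (h' : permOf e' ∈ M24) (hb : twineB M e e' = true) :
    gOf M hM * bOf e h = bOf e' h' * gOf M hM := by
  refine Subtype.ext (Equiv.ext fun v => Subtype.ext (funext fun p => ?_))
  show ((gOf M hM • bOf e h • v : leechLattice) : GolayPt → ℤ) p =
    ((bOf e' h' • gOf M hM • v : leechLattice) : GolayPt → ℤ) p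
  have h1 := congrFun (gOf_spec hM (bOf e h • v)) p
  have h2 := congrFun (gOf_spec hM v) ((permOf e').symm p)
  simp only [Pi.smul_apply, nsmul_eq_mul] at h1 h2
  have h3 : ((bOf e' h' • gOf M hM • v : leechLattice) : GolayPt → ℤ) p =
      ((gOf M hM • v : leechLattice) : GolayPt → ℤ) ((permOf e').symm p) := by
    rw [bOf, mono_smul]; simp [monoFun, sgn]
  have h4 : mulV M ((bOf e h • v : leechLattice) : GolayPt → ℤ) p =
      mulV M (v : GolayPt → ℤ) ((permOf e').symm p) := by
    simp only [mulV, dotInt]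
    rw [← Equiv.sum_comp (permOf e)]
    refine Finset.sum_congr rfl fun q _ => ?_
    rw [bOf, mono_smul]
    simp only [monoFun, sgn, ZeroMemClass.coe_zero, Pi.zero_apply, if_true, one_mul, Equiv.symm_apply_apply]
    congr 1
    have := allBelow_spec _ _ (allBelow_spec _ _ hb _ (idx_lt ((permOf e').symm p))) _ (idx_lt q)
    simp only [decide_eq_true_eq, ← idx_permOf hv', ← idx_permOf hv, Equiv.apply_symm_apply] at this
    exact this
  rw [h3]
  push_cast at h1 h2
  omega

/-! ### Fixed classes -/

/-- The list of a representative. -/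
def rl (R : List (List ℤ)) (a : ℕ) : List ℤ := R.getD a []

/-- The checks on the representatives of the fixed classes. -/
def fixOK (e : Elt) (p r : ℕ) (R : List (List ℤ)) (cov : List ℕ) : Bool :=
  allBelow (fun a => latB (rl R a) && congB (permL e (rl R a)) (rl R a) &&
      decide (dotL (rl R a) (rl R a) ≤ 64) &&
      allBelow (fun j => Nat.blt (a ^^^ 2 ^ j) (2 ^ r) &&
        congB (addL (rl R a) (rl R (2 ^ j))) (rl R (a ^^^ 2 ^ j))) r &&
      (Nat.beq a 0 || !(allBelow (fun j => decide (dotL (rl R a) (rl R (2 ^ j)) % 16 = 0)) r))) (2 ^ r) &&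
    eqL (rl R 0) zeroL &&
    allBelow (fun k => Nat.blt (cov.getD k 0) (2 ^ r) &&
      congB (orbL e (genL.getD k []) p) (rl R (cov.getD k 0))) genL.length

variable {e : Elt} {p r : ℕ} {R : List (List ℤ)} {cov : List ℕ}

theorem fix_latB (h : fixOK e p r R cov = true) (a : Fin (2 ^ r)) : latB (rl R a) = true := by
  simp only [fixOK, Bool.and_eq_true] at h
  have := allBelow_spec _ _ h.1.1 a a.2
  simp only [Bool.and_eq_true] at this
  exact this.1.1.1.1

/-- The representative of a class. -/
noncomputable def rv (h : fixOK e p r R cov = true) (a : Fin (2 ^ r)) : leechLattice := latV (rl R a) (fix_latB h a)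

theorem rv_coe (h : fixOK e p r R cov = true) (a : Fin (2 ^ r)) :
    (rv h a : GolayPt → ℤ) = toVec (rl R a) := rfl

/-- Combination of two indices. -/
def xorFin {r : ℕ} (a b : Fin (2 ^ r)) : Fin (2 ^ r) := ⟨a ^^^ b, Nat.xor_lt_two_pow a.2 b.2⟩

theorem rv_zero (h : fixOK e p r R cov = true) (a : Fin (2 ^ r)) (ha : (a : ℕ) = 0) : rv h a = 0 := by
  refine Subtype.ext ?_
  rw [rv_coe, ha]
  have h' := h
  simp only [fixOK, Bool.and_eq_true, eqL, decide_eq_true_eq] at h'
  rw [h'.1.2, toVec_zeroL]; rfl

theorem rv_add (h : fixOK e p r R cov = true) :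
    ∀ (n : ℕ) (a b : Fin (2 ^ r)), (b : ℕ) = n → Cong (rv h a + rv h b) (rv h (xorFin a b)) := by
  intro n
  induction n using Nat.strong_induction_on with
  | _ n ih =>
    intro a b hb
    rcases Nat.eq_zero_or_pos n with h0 | hpos
    · rw [rv_zero h b (by omega), add_zero, show xorFin a b = a from Fin.ext (by
        show (a : ℕ) ^^^ b = a; rw [hb, h0, Nat.xor_zero])]
      exact cong_rfl _
    · have step : ∀ (c d : Fin (2 ^ r)) (j : ℕ), j < r → (d : ℕ) = 2 ^ j →
          Cong (rv h c + rv h d) (rv h (xorFin c d)) := by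
        intro c d j hj hd
        have h' := h
        simp only [fixOK, Bool.and_eq_true] at h'
        have h1 := allBelow_spec _ _ h'.1.1 c c.2
        simp only [Bool.and_eq_true] at h1
        have h2 := allBelow_spec _ _ h1.1.2 j hj
        simp only [Bool.and_eq_true] at h2
        refine cong_of_congB ?_ ?_ h2.2
        · rw [AddSubgroup.coe_add, rv_coe, rv_coe, hd, toVec_addL]
        · rw [rv_coe]; show toVec (rl R ((c : ℕ) ^^^ d)) = _; rw [hd]
      set j := Nat.log2 n
      have hn0 : n ≠ 0 := by omega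
      have hle : 2 ^ j ≤ n := Nat.log2_self_le hn0
      have hlt : n < 2 ^ (j + 1) := Nat.lt_log2_self
      have hjr : j < r := by
        by_contra hge
        have := Nat.pow_le_pow_right (show 0 < 2 by norm_num) (not_lt.1 hge)
        have := b.2
        omega
      have hb2 : n ^^^ 2 ^ j < n := by
        refine Nat.lt_of_testBit j ?_ ?_ fun i hi => ?_
        · rw [Nat.testBit_xor, Nat.testBit_two_pow_self]
          rw [Nat.testBit_eq_decide_div_mod_eq, Nat.div_eq_of_lt_le (k := 1) (by omega) (by rw [pow_succ] at hlt; omega)]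
          rfl
        · rw [Nat.testBit_eq_decide_div_mod_eq, Nat.div_eq_of_lt_le (k := 1) (by omega) (by rw [pow_succ] at hlt; omega)]
          rfl
        · rw [Nat.testBit_xor, Nat.testBit_two_pow_of_ne (by omega), Bool.xor_false]
      let d : Fin (2 ^ r) := ⟨2 ^ j, Nat.pow_lt_pow_right (by norm_num) hjr⟩
      let b' : Fin (2 ^ r) := ⟨n ^^^ 2 ^ j, Nat.xor_lt_two_pow (hb ▸ b.2) d.2⟩
      have e1 : b = xorFin b' d := Fin.ext (by
        show (b : ℕ) = n ^^^ 2 ^ j ^^^ 2 ^ j
        rw [Nat.xor_assoc, Nat.xor_self, Nat.xor_zero, hb])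
      have e2 : xorFin (xorFin a d) b' = xorFin a b := Fin.ext (by
        show (a : ℕ) ^^^ 2 ^ j ^^^ (n ^^^ 2 ^ j) = (a : ℕ) ^^^ b
        rw [hb, Nat.xor_comm n (2 ^ j), Nat.xor_assoc, ← Nat.xor_assoc (2 ^ j), Nat.xor_self, Nat.zero_xor])
      have c1 : Cong (rv h b' + rv h d) (rv h b) := by rw [e1]; exact step b' d j hjr rfl
      have c2 := cong_add (step a d j hjr rfl) (cong_rfl (rv h b'))
      have c3 := ih _ hb2 (xorFin a d) b' rfl
      rw [e2] at c3
      refine cong_trans (cong_add (cong_rfl (rv h a)) (cong_symm c1)) (cong_trans ?_ c3)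
      rw [show rv h a + (rv h b' + rv h d) = rv h a + rv h d + rv h b' by abel]
      exact c2

theorem rv_add' (h : fixOK e p r R cov = true) (a b : Fin (2 ^ r)) : Cong (rv h a + rv h b) (rv h (xorFin a b)) :=
  rv_add h _ a b rfl

theorem rv_inj (h : fixOK e p r R cov = true) (a b : Fin (2 ^ r)) (hab : Cong (rv h a) (rv h b)) : a = b := by
  by_contra hne
  set c := xorFin a b
  have hc : Cong (rv h c) 0 := by
    refine cong_trans (cong_symm (rv_add' h a b)) (cong_trans (cong_add hab (cong_rfl _)) ⟨rv h b, ?_⟩)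
    rw [sub_zero, two_nsmul]
  have hc0 : (c : ℕ) ≠ 0 := fun h0 => hne (Fin.ext (by
    have h1 : ((a : ℕ) ^^^ b) ^^^ b = b := by rw [show (a : ℕ) ^^^ b = 0 from h0, Nat.zero_xor]
    rwa [Nat.xor_assoc, Nat.xor_self, Nat.xor_zero] at h1))
  have h' := h
  simp only [fixOK, Bool.and_eq_true] at h'
  have h1 := allBelow_spec _ _ h'.1.1 c c.2
  simp only [Bool.and_eq_true, Bool.or_eq_true, Nat.beq_eq, hc0, false_or, Bool.not_eq_true'] at h1
  obtain ⟨j, hj, hjf⟩ : ∃ j < r, decide (dotL (rl R c) (rl R (2 ^ j)) % 16 = 0) = false := by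
    by_contra hall
    push Not at hall
    have hT : allBelow (fun j => decide (dotL (rl R c) (rl R (2 ^ j)) % 16 = 0)) r = true :=
      allBelow_of r fun i hi => by simpa using hall i hi
    rw [hT] at h1
    exact absurd h1.2 (by decide)
  simp only [decide_eq_false_iff_not] at hjf
  let d : Fin (2 ^ r) := ⟨2 ^ j, Nat.pow_lt_pow_right (by norm_num) hj⟩
  have hev := (cong_parity (w := rv h d) hc).2 (by rw [LatticeMod2.map_zero_left rootless_ip]; norm_num)
  have h8 := eight_ip (rv h c) (rv h d)
  rw [rv_coe, rv_coe, ← dotL_vec (latB_length (fix_latB h c)) (latB_length (fix_latB h d))] at h8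
  have h8' : 8 * ip (rv h c) (rv h d) = dotL (rl R c) (rl R (2 ^ j)) := h8
  omega

/-- The orbit sum of a list. -/
theorem toVec_orbL (hv : validElt 5 24 e = true) (hM : permOf e ∈ M24) {x : leechLattice} {l : List ℤ}
    (hx : (x : GolayPt → ℤ) = toVec l) :
    ∀ k, ((∑ i ∈ Finset.range k, bOf e hM ^ i • x : leechLattice) : GolayPt → ℤ) = toVec (orbL e l k)
  | 0 => by simp [orbL, toVec_zeroL]
  | k + 1 => by
    rw [Finset.sum_range_succ', pow_zero, one_smul, orbL, toVec_addL, AddSubgroup.coe_add, hx, add_comm]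
    congr 1
    rw [← bOf_smul hv hM (toVec_orbL hv hM hx k)]
    congr 1
    rw [← hom0_apply, map_sum]
    simp only [hom0_apply, ← mul_smul, ← pow_succ']

/-- The certified fixed classes. -/
noncomputable def fixModel (h : fixOK e p r R cov = true) (hv : validElt 5 24 e = true) (hM : permOf e ∈ M24)
    (hp : p % 2 = 1) : FixModel (bOf e hM) r where
  R := rv h
  fixed a := by
    have h' := h
    simp only [fixOK, Bool.and_eq_true] at h'
    have h1 := allBelow_spec _ _ h'.1.1 a a.2
    simp only [Bool.and_eq_true] at h1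
    exact cong_of_congB (bOf_smul hv hM (rv_coe h a)) (rv_coe h a) h1.1.1.1.2
  cover x hx := by
    suffices ∀ y : GolayPt → ℤ, y ∈ span → ∀ hy : y ∈ leechLattice, ∃ a,
        Cong (∑ i ∈ Finset.range p, bOf e hM ^ i • (⟨y, hy⟩ : leechLattice)) (rv h a) by
      obtain ⟨a, ha⟩ := this x (leech_le x.2) x.2
      exact ⟨a, cong_trans (fixed_eq_sum hp hx) ha⟩
    intro y hy
    induction hy using AddSubgroup.closure_induction with
    | mem y hy =>
      intro hyl
      obtain ⟨l, hl, rfl⟩ := hy
      obtain ⟨k, hk, rfl⟩ := List.getElem_of_mem hl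
      have h' := h
      simp only [fixOK, Bool.and_eq_true] at h'
      have h1 := allBelow_spec _ _ h'.2 k hk
      simp only [Bool.and_eq_true, Nat.blt_eq] at h1
      refine ⟨⟨_, h1.1⟩, cong_of_congB ?_ (rv_coe h _) h1.2⟩
      exact toVec_orbL hv hM (x := ⟨_, hyl⟩) (l := genL.getD k []) (by rw [List.getD_eq_getElem _ _ hk]) p
    | zero =>
      intro h0
      refine ⟨⟨0, Nat.two_pow_pos r⟩, ?_⟩
      rw [rv_zero h _ rfl, show (⟨0, h0⟩ : leechLattice) = 0 from rfl]
      simp only [← hom0_apply, map_zero, Finset.sum_const_zero]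
      exact cong_rfl _
    | add u v hu hv' ihu ihv =>
      intro huv
      have hu' : u ∈ leechLattice := span_le_leech hu
      have hv'' : v ∈ leechLattice := span_le_leech hv'
      obtain ⟨a, ha⟩ := ihu hu'
      obtain ⟨b, hb⟩ := ihv hv''
      refine ⟨xorFin a b, cong_trans ?_ (rv_add' h a b)⟩
      rw [show (⟨u + v, huv⟩ : leechLattice) = ⟨u, hu'⟩ + ⟨v, hv''⟩ from rfl]
      simp only [co0_add, Finset.sum_add_distrib]
      exact cong_add ha hb
    | neg u hu ih =>
      intro hnu
      have hu' : u ∈ leechLattice := span_le_leech hu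
      obtain ⟨a, ha⟩ := ih hu'
      refine ⟨a, cong_trans ?_ ha⟩
      rw [show (⟨-u, hnu⟩ : leechLattice) = -⟨u, hu'⟩ from rfl]
      simp only [co0_neg, Finset.sum_neg_distrib]
      exact ⟨-∑ i ∈ Finset.range p, bOf e hM ^ i • (⟨u, hu'⟩ : leechLattice), by rw [smul_neg, two_nsmul]; abel⟩
  inj := rv_inj h
  short a := by
    have h' := h
    simp only [fixOK, Bool.and_eq_true] at h'
    have h1 := allBelow_spec _ _ h'.1.1 a a.2
    simp only [Bool.and_eq_true, decide_eq_true_eq] at h1
    have h8 := eight_ip (rv h a) (rv h a)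
    rw [rv_coe, ← dotL_vec (latB_length (fix_latB h a)) (latB_length (fix_latB h a))] at h8
    have := h1.1.1.2
    omega

theorem ip_eight_iff (h : fixOK e p r R cov = true) (a : Fin (2 ^ r)) :
    ip (rv h a) (rv h a) = 8 ↔ decide (dotL (rl R a) (rl R a) = 64) = true := by
  have h8 := eight_ip (rv h a) (rv h a)
  rw [rv_coe, ← dotL_vec (latB_length (fix_latB h a)) (latB_length (fix_latB h a))] at h8
  rw [decide_eq_true_eq]
  omega

end Cfsg.Agent.MonsterT.CentCert
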