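/-
Actions of centralizers on fixed classes, and the orders of centralizers.
-/
import Cfsg.Agent.Lib.MonsterT.CentCert
set_option autoImplicit false
set_option maxRecDepth 10000

namespace Cfsg.Agent.MonsterT

open Cfsg Cfsg.Agent.Golay Cfsg.Agent.Leech Cfsg.Agent.Leech.MatCert
open Cfsg.Agent.PermCert (Elt allBelow allBelow_spec validElt get)
open Cfsg.Agent.LatticeMod2 (Rootless Cong)

namespace FixModel

variable {b : Co0} {r : ℕ} (M : FixModel b r)

theorem fixed_smul {c : Co0} (hc : c ∈ Subgroup.centralizer ({b} : Set Co0)) {x : leechLattice} (hx : Fixed b x) :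
    Fixed b (c • x) := by
  unfold Fixed
  rw [← mul_smul, ← Subgroup.mem_centralizer_singleton_iff.1 hc, mul_smul]
  exact co0_cong hx

/-- The image of a class under an element of the centralizer. -/
noncomputable def actFun (c : Subgroup.centralizer ({b} : Set Co0)) (a : Fin (2 ^ r)) : Fin (2 ^ r) :=
  M.index ((c : Co0) • M.R a) (fixed_smul c.2 (M.fixed a))

theorem actFun_spec (c : Subgroup.centralizer ({b} : Set Co0)) (a : Fin (2 ^ r)) :
    Cong ((c : Co0) • M.R a) (M.R (M.actFun c a)) := M.index_spec _ _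

theorem actFun_eq {c : Subgroup.centralizer ({b} : Set Co0)} {a a' : Fin (2 ^ r)}
    (h : Cong ((c : Co0) • M.R a) (M.R a')) : M.actFun c a = a' := M.index_eq h

theorem actFun_mul (c d : Subgroup.centralizer ({b} : Set Co0)) (a : Fin (2 ^ r)) :
    M.actFun (c * d) a = M.actFun c (M.actFun d a) := M.actFun_eq (by
  rw [Subgroup.coe_mul, mul_smul]
  exact cong_trans (co0_cong (M.actFun_spec d a)) (M.actFun_spec c _))

theorem actFun_one (a : Fin (2 ^ r)) : M.actFun 1 a = a :=
  M.actFun_eq (by rw [Subgroup.coe_one, one_smul]; exact cong_rfl _)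

/-- The permutation action on the fixed classes. -/
noncomputable def act : Subgroup.centralizer ({b} : Set Co0) →* Equiv.Perm (Fin (2 ^ r)) :=
  MonoidHom.mk'
    (fun c =>
      { toFun := M.actFun c
        invFun := M.actFun c⁻¹
        left_inv := fun a => by rw [← M.actFun_mul, inv_mul_cancel, M.actFun_one]
        right_inv := fun a => by rw [← M.actFun_mul, mul_inv_cancel, M.actFun_one] })
    fun c d => Equiv.ext fun a => M.actFun_mul c d a

theorem act_apply (c : Subgroup.centralizer ({b} : Set Co0)) (a : Fin (2 ^ r)) : M.act c a = M.actFun c a := rfl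

theorem act_spec (c : Subgroup.centralizer ({b} : Set Co0)) (a : Fin (2 ^ r)) :
    Cong ((c : Co0) • M.R a) (M.R (M.act c a)) := M.actFun_spec c a

theorem act_eq {c : Subgroup.centralizer ({b} : Set Co0)} {a a' : Fin (2 ^ r)}
    (h : Cong ((c : Co0) • M.R a) (M.R a')) : M.act c a = a' := M.actFun_eq h

theorem act_norm {c : Subgroup.centralizer ({b} : Set Co0)} {a : Fin (2 ^ r)} (h : ip (M.R a) (M.R a) = 8) :
    ip (M.R (M.act c a)) (M.R (M.act c a)) = 8 :=
  M.norm_eight ((co0_ip _ _ _).trans h) (M.act_spec c a)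

theorem act_central {c : Subgroup.centralizer ({b} : Set Co0)} (h : (c : Co0) = negCo0 ∨ (c : Co0) = b) :
    M.act c = 1 := by
  refine Equiv.ext fun a => M.act_eq ?_
  rcases h with h | h <;> rw [h]
  · exact smul_cong_neg _
  · exact M.fixed a

end FixModel

namespace CentCert

/-- The number of elements of the centralizer fixing the standard class. -/
theorem card_mono_le {e : Elt} (hv : validElt 5 24 e = true) (hM : permOf e ∈ M24) (L : List (Equiv.Perm GolayPt))
    (hL : ∀ τ ∈ M24, τ * permOf e = permOf e * τ → τ ∈ L) (nc : ℕ)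
    (hnc : (codeList.filter fun m => allBelow (fun i => m.testBit (get 5 e.1 i) == m.testBit i) 24).length ≤ nc) :
    Nat.card (Subgroup.centralizer ({bOf e hM} : Set Co0) ⊓ crossStab : Subgroup Co0) ≤ L.length * nc := by
  classical
  haveI := finite_Co0
  set W := codeList.filter fun m => allBelow (fun i => m.testBit (get 5 e.1 i) == m.testBit i) 24
  have key : ∀ c : (Subgroup.centralizer ({bOf e hM} : Set Co0) ⊓ crossStab : Subgroup Co0),
      ∃ x : Fin L.length × Fin W.length, ∀ i, (c : Co0) • axis i = sgn (ofMask (W.get x.2)) (L.get x.1 i) • axis (L.get x.1 i) := by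
    intro c
    obtain ⟨w, hw⟩ := rho_spec ⟨c, c.2.2⟩
    set τ := rho ⟨(c : Co0), c.2.2⟩
    have hw' : mono (τ, w) = (c : Co0) := hw
    have hcomm : ∀ i, (τ : Equiv.Perm GolayPt) (permOf e i) = permOf e ((τ : Equiv.Perm GolayPt) i) ∧
        sgn (w : GolayPt → ZMod 2) ((τ : Equiv.Perm GolayPt) (permOf e i)) =
          sgn (w : GolayPt → ZMod 2) ((τ : Equiv.Perm GolayPt) i) := by
      intro i
      have h := congrArg (fun g : Co0 => g • axis i) (Subgroup.mem_centralizer_singleton_iff.1 c.2.1)
      simp only [mul_smul, ← hw', bOf] at h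
      rw [mono_axis, mono_axis, ← hom0_apply, map_zsmul, hom0_apply, mono_axis, ← hom0_apply, map_zsmul,
        hom0_apply, mono_axis, smul_smul, smul_smul] at h
      have h0 : ∀ i, sgn ((0 : golayCode) : GolayPt → ZMod 2) i = 1 := fun i => by simp [sgn]
      simp only [h0, one_mul, mul_one] at h
      exact sgn_axis_inj (sgn_cases _ _) h
    obtain ⟨m, hm, hmw⟩ := mem_golayCode.1 w.2
    have hmW : m ∈ W := by
      refine List.mem_filter.2 ⟨hm, allBelow_of 24 fun i hi => ?_⟩
      obtain ⟨j, hj⟩ := (τ : Equiv.Perm GolayPt).surjective (pt ⟨i, hi⟩)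
      have h1 : (w : GolayPt → ZMod 2) ((τ : Equiv.Perm GolayPt) (permOf e j)) =
          (w : GolayPt → ZMod 2) ((τ : Equiv.Perm GolayPt) j) := by
        have h2 := (hcomm j).2
        simp only [sgn] at h2
        rcases zmod2_cases ((w : GolayPt → ZMod 2) ((τ : Equiv.Perm GolayPt) (permOf e j))) with a | a <;>
          rcases zmod2_cases ((w : GolayPt → ZMod 2) ((τ : Equiv.Perm GolayPt) j)) with c | c <;>
          simp [a, c] at h2 ⊢
      rw [← hmw, (hcomm j).1, hj] at h1
      simp only [ofMask, idx_permOf hv, idx_pt] at h1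
      revert h1
      cases m.testBit (get 5 e.1 i) <;> cases m.testBit i <;> simp
    obtain ⟨j, hj⟩ := List.mem_iff_get.1 (hL τ τ.2 (Equiv.ext fun i => (hcomm i).1))
    obtain ⟨k, hk⟩ := List.mem_iff_get.1 hmW
    refine ⟨(j, k), fun i => ?_⟩
    rw [← hw', mono_axis, hj, hk, hmw]
  choose x hx using key
  refine (Nat.card_le_card_of_injective x fun c d h => Subtype.ext (co0_ext fun i => by rw [hx, hx, h])).trans ?_
  rw [Nat.card_prod, Nat.card_eq_fintype_card, Nat.card_eq_fintype_card, Fintype.card_fin, Fintype.card_fin]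
  exact Nat.mul_le_mul_left _ hnc

/-- The order of a centralizer from the orbit of the standard class. -/
theorem card_cent_le {b : Co0} {ι : Type*} [Finite ι] (t : ι → Subgroup.centralizer ({b} : Set Co0))
    (h : ∀ c : Subgroup.centralizer ({b} : Set Co0), ∃ k, Cong ((c : Co0) • axis none) ((t k : Co0) • axis none))
    {m : ℕ} (hm : Nat.card (Subgroup.centralizer ({b} : Set Co0) ⊓ crossStab : Subgroup Co0) ≤ m) :
    Nat.card (Subgroup.centralizer ({b} : Set Co0)) ≤ Nat.card ι * m := by
  haveI := finite_Co0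
  choose k hk using h
  have hmem : ∀ c, ((t (k c) : Co0))⁻¹ * (c : Co0) ∈ Subgroup.centralizer ({b} : Set Co0) ⊓ crossStab := fun c => by
    refine ⟨Subgroup.mul_mem _ (Subgroup.inv_mem _ (t (k c)).2) c.2, ?_⟩
    show _ ∈ crossStab
    rw [← classStab_axis, mem_classStab, mul_smul]
    have := co0_cong (g := ((t (k c) : Co0))⁻¹) (hk c)
    rwa [inv_smul_smul] at this
  refine le_trans (Nat.card_le_card_of_injective
    (fun c => ((k c, ⟨_, hmem c⟩) : ι × (Subgroup.centralizer ({b} : Set Co0) ⊓ crossStab : Subgroup Co0)))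
    fun c d h => ?_) (by rw [Nat.card_prod]; exact Nat.mul_le_mul_left _ hm)
  simp only [Prod.mk.injEq, Subtype.mk.injEq] at h
  rw [h.1] at h
  exact Subtype.ext (mul_left_cancel h.2)

/-- A model of the centralizer from an action with enough image. -/
theorem exists_model {b : Co0} {p r : ℕ} (hp : p.Prime) (hodd : p % 2 = 1) (hbp : b ^ p = 1) (hb1 : b ≠ 1)
    (M : FixModel b r) {T : Type} [Group T] [Finite T] (St : Subgroup (Subgroup.centralizer ({b} : Set Co0)))
    (hSt : ∀ c, M.act c = 1 → c ∈ St) (F : ↥St →* T) (hs : Function.Surjective F)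
    (hf : ∀ c : St, M.act c.1 = 1 → F c = 1)
    (hle : Nat.card (Subgroup.centralizer ({b} : Set Co0)) ≤ 2 * p * Nat.card T) (hcore : pCore 2 T = ⊥) :
    ∃ Mo : CentModel b p r T, Mo.fm = M := by
  classical
  haveI := finite_Co0
  haveI : Fact p.Prime := ⟨hp⟩
  let bC : Subgroup.centralizer ({b} : Set Co0) := ⟨b, Subgroup.mem_centralizer_singleton_iff.2 rfl⟩
  let negC : Subgroup.centralizer ({b} : Set Co0) :=
    ⟨negCo0, Subgroup.mem_centralizer_singleton_iff.2 (Subgroup.mem_center_iff.1 negCo0_mem_center b).symm⟩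
  have hbker : ∀ i : ℕ, M.act (bC ^ i) = 1 := fun i => by
    rw [map_pow, M.act_central (c := bC) (Or.inr rfl), one_pow]
  have hnker : ∀ i : ℕ, M.act (negC * bC ^ i) = 1 := fun i => by
    rw [map_mul, hbker, M.act_central (c := negC) (Or.inl rfl), one_mul]
  have hord : orderOf bC = p := orderOf_eq_prime (Subtype.ext hbp) fun h => hb1 (congrArg Subtype.val h)
  let v : Bool × Fin p → F.ker := fun x =>
    ⟨⟨bif x.1 then negC * bC ^ (x.2 : ℕ) else bC ^ (x.2 : ℕ), hSt _ (by cases x.1; exacts [hbker _, hnker _])⟩,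
      hf _ (by
        obtain ⟨s, i⟩ := x
        cases s
        · exact hbker _
        · exact hnker _)⟩
  have hneg : ∀ i j : ℕ, negC * bC ^ i ≠ bC ^ j := fun i j h => by
    have h1 : negC ^ p = 1 := by
      have h2 : negC = bC ^ j * (bC ^ i)⁻¹ := eq_mul_inv_of_mul_eq h
      rw [h2, ((Commute.refl bC).pow_pow j i).inv_right.mul_pow, inv_pow, ← pow_mul, ← pow_mul, mul_comm j,
        mul_comm i, pow_mul, pow_mul, show bC ^ p = 1 from Subtype.ext hbp, one_pow, one_pow, inv_one, one_mul]
    have := congrArg Subtype.val h1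
    rw [SubmonoidClass.coe_pow, neg_pow_odd hodd] at this
    exact negCo0_ne_one this
  have hv : Function.Injective v := by
    rintro ⟨s, i⟩ ⟨t, j⟩ h
    have h' : (bif s then negC * bC ^ (i : ℕ) else bC ^ (i : ℕ)) = bif t then negC * bC ^ (j : ℕ) else bC ^ (j : ℕ) :=
      congrArg (fun x : F.ker => (x : St).1) h
    have hij : bC ^ (i : ℕ) = bC ^ (j : ℕ) → i = j := fun he => Fin.ext (by
      rw [pow_eq_pow_iff_modEq, hord] at he
      exact he.eq_of_lt_of_lt i.2 j.2)
    cases s <;> cases t
    · exact Prod.ext rfl (hij h')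
    · exact absurd h'.symm (hneg _ _)
    · exact absurd h' (hneg _ _)
    · exact Prod.ext rfl (hij (mul_left_cancel h'))
  have hkge : 2 * p ≤ Nat.card F.ker := by
    have := Nat.card_le_card_of_injective v hv
    rwa [Nat.card_prod, Nat.card_eq_fintype_card, Nat.card_eq_fintype_card, Fintype.card_bool, Fintype.card_fin]
      at this
  have hmul := F.ker.card_mul_index
  rw [Subgroup.index_ker, MonoidHom.range_eq_top.2 hs, Subgroup.card_top] at hmul
  have hTpos : 0 < Nat.card T := Nat.card_pos
  have hStle : Nat.card St ≤ Nat.card (Subgroup.centralizer ({b} : Set Co0)) := Subgroup.card_le_card_group _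
  have hk : Nat.card F.ker = 2 * p := le_antisymm
    (Nat.le_of_mul_le_mul_right (hmul ▸ hStle.trans hle) hTpos) hkge
  have htop : St = ⊤ := Subgroup.eq_top_of_le_card St (by rw [← hmul, hk]; exact hle)
  have hvs : Function.Surjective v := ((Nat.bijective_iff_injective_and_card v).2 ⟨hv, by
    rw [hk, Nat.card_prod, Nat.card_eq_fintype_card, Nat.card_eq_fintype_card, Fintype.card_bool, Fintype.card_fin]⟩).2
  let inSt : Subgroup.centralizer ({b} : Set Co0) →* ↥St :=
    (MonoidHom.id _).codRestrict St fun c => by rw [htop]; trivial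
  refine ⟨{ fm := M, F := F.comp inSt, surj := ?_, triv := ?_, ker := ?_, faith := ?_, core := hcore }, rfl⟩
  · intro t
    obtain ⟨c, hc⟩ := hs t
    exact ⟨c.1, hc⟩
  · intro c hc
    exact hf _ (M.act_central hc.symm)
  · intro c hc
    obtain ⟨⟨s, i⟩, hsi⟩ := hvs ⟨inSt c, hc⟩
    have h' : (bif s then negC * bC ^ (i : ℕ) else bC ^ (i : ℕ)) = c := congrArg (fun x : F.ker => (x : St).1) hsi
    refine ⟨i, ?_⟩
    rw [← h']
    cases s
    · left; simp [bC]
    · right; simp [bC, negC]
  · intro c hc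
    exact hf _ (Equiv.ext fun a => M.act_eq (hc a))

/-- The image table of a matrix on the representatives. -/
def actB (M : List (List ℤ)) (R : List (List ℤ)) (m n : ℕ) (img : List ℕ) : Bool :=
  allBelow (fun a => divL M (rl R a) && latB (imgL M (rl R a)) && Nat.blt (img.getD a 0) n &&
    congB (imgL M (rl R a)) (rl R (img.getD a 0))) m

variable {e : Elt} {p r : ℕ} {R : List (List ℤ)} {cov : List ℕ}

theorem cong_act (h : fixOK e p r R cov = true) {M : List (List ℤ)} (hM : certOK M = true) {img : List ℕ}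
    {m : ℕ} (ha : actB M R m (2 ^ r) img = true) (a : Fin (2 ^ r)) (ham : (a : ℕ) < m) :
    ∃ a' : Fin (2 ^ r), (a' : ℕ) = img.getD a 0 ∧ Cong (gOf M hM • rv h a) (rv h a') := by
  have h1 := allBelow_spec _ _ ha a ham
  simp only [Bool.and_eq_true, Nat.blt_eq] at h1
  refine ⟨⟨_, h1.1.2⟩, rfl, cong_of_congB ?_ (rv_coe h _) h1.2⟩
  exact congrArg Subtype.val (smul_latV hM (g := gOf M hM) (gOf_spec hM) (fix_latB h a) h1.1.1.2 h1.1.1.1 rfl)

end CentCert

end Cfsg.Agent.MonsterT
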