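/-
Centralizer models from paired permutation actions.
-/
import Cfsg.Agent.Lib.MonsterT.CentAct
set_option autoImplicit false

namespace Cfsg.Agent.MonsterT.CentCert

open Cfsg Cfsg.Agent.Golay Cfsg.Agent.Leech
open Cfsg.Agent.LatticeMod2 (Rootless Cong)

/-- The order of a centralizer bounded through the classes of norm eight. -/
theorem card_cent_le_eight {b : Co0} {r : ℕ} (M : FixModel b r) {a0 : Fin (2 ^ r)} (h0 : M.R a0 = axis none) {n m : ℕ}
    (hn : Nat.card {a : Fin (2 ^ r) // ip (M.R a) (M.R a) = 8} ≤ n)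
    (hm : Nat.card (Subgroup.centralizer ({b} : Set Co0) ⊓ crossStab : Subgroup Co0) ≤ m) :
    Nat.card (Subgroup.centralizer ({b} : Set Co0)) ≤ n * m := by
  classical
  haveI := finite_Co0
  letI : MulAction (Subgroup.centralizer ({b} : Set Co0)) (Fin (2 ^ r)) := MulAction.compHom _ M.act
  rw [← (MulAction.stabilizer (Subgroup.centralizer ({b} : Set Co0)) a0).card_mul_index, mul_comm,
    MulAction.index_stabilizer]
  refine Nat.mul_le_mul ?_ ?_
  · refine le_trans (Set.ncard_le_ncard (t := {a : Fin (2 ^ r) | ip (M.R a) (M.R a) = 8}) ?_) ?_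
    · rintro _ ⟨c, rfl⟩
      exact M.act_norm (by rw [h0]; exact ip_axis_self none)
    · rwa [← Nat.card_coe_set_eq]
  · refine le_trans (Nat.card_le_card_of_injective (fun c =>
      (⟨((c : Subgroup.centralizer ({b} : Set Co0)) : Co0), c.1.2, ?_⟩ :
        (Subgroup.centralizer ({b} : Set Co0) ⊓ crossStab : Subgroup Co0)))
      fun x y h => Subtype.ext (Subtype.ext (congrArg Subtype.val h :))) hm
    show ((c : Subgroup.centralizer ({b} : Set Co0)) : Co0) ∈ crossStab
    rw [← classStab_axis, mem_classStab, ← h0]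
    have h : M.act c.1 a0 = a0 := c.2
    have h2 := M.act_spec c.1 a0
    rwa [h] at h2

/-- A model of the centralizer from generators acting on the classes and on a second set of points. -/
theorem exists_model_pair {b : Co0} {p r m k : ℕ} (hp : p.Prime) (hodd : p % 2 = 1) (hbp : b ^ p = 1) (hb1 : b ≠ 1)
    (M : FixModel b r) (c : Fin k → Subgroup.centralizer ({b} : Set Co0)) (σ : Fin k → Equiv.Perm (Fin (2 ^ r)))
    (τ : Fin k → Equiv.Perm (Fin m)) (hc : ∀ i, M.act (c i) = σ i) {N : ℕ}
    (hK : Nat.card (Subgroup.closure (Set.range fun i => (σ i, τ i))) = N)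
    (hσ : Nat.card (Subgroup.closure (Set.range σ)) = N) (hτ : Nat.card (Subgroup.closure (Set.range τ)) = N)
    {T : Type} [Group T] [Finite T] (iso : Subgroup.closure (Set.range τ) ≃* T)
    (hle : Nat.card (Subgroup.centralizer ({b} : Set Co0)) ≤ 2 * p * N) (hcore : pCore 2 T = ⊥) :
    ∃ Mo : CentModel b p r T, Mo.fm = M := by
  classical
  haveI := finite_Co0
  set K := Subgroup.closure (Set.range fun i => (σ i, τ i)) with hKdef
  set S := Subgroup.closure (Set.range σ) with hSdef
  have h1 : K.map (MonoidHom.fst _ _) = S := by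
    rw [hKdef, MonoidHom.map_closure, ← Set.range_comp]; rfl
  have h2 : K.map (MonoidHom.snd _ _) = Subgroup.closure (Set.range τ) := by
    rw [hKdef, MonoidHom.map_closure, ← Set.range_comp]; rfl
  let f1 : ↥K →* ↥S := ((MonoidHom.fst _ _).comp K.subtype).codRestrict S fun x => h1 ▸ ⟨x, x.2, rfl⟩
  let f2 : ↥K →* ↥(Subgroup.closure (Set.range τ)) :=
    ((MonoidHom.snd _ _).comp K.subtype).codRestrict _ fun x => h2 ▸ ⟨x, x.2, rfl⟩
  have f1s : Function.Surjective f1 := fun x => by
    obtain ⟨y, hy, e⟩ := h1.ge x.2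
    exact ⟨⟨y, hy⟩, Subtype.ext e⟩
  have f2s : Function.Surjective f2 := fun x => by
    obtain ⟨y, hy, e⟩ := h2.ge x.2
    exact ⟨⟨y, hy⟩, Subtype.ext e⟩
  have f1b : Function.Bijective f1 := (Nat.bijective_iff_surjective_and_card _).2 ⟨f1s, hK.trans hσ.symm⟩
  have f2b : Function.Bijective f2 := (Nat.bijective_iff_surjective_and_card _).2 ⟨f2s, hK.trans hτ.symm⟩
  let φ : ↥S ≃* T := (MulEquiv.ofBijective f1 f1b).symm.trans ((MulEquiv.ofBijective f2 f2b).trans iso)
  let St := S.comap M.act
  let res : ↥St →* ↥S := (M.act.comp St.subtype).codRestrict S fun x => x.2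
  have hres : Function.Surjective res := by
    have hle' : S ≤ M.act.range := by
      rw [hSdef, Subgroup.closure_le]
      rintro _ ⟨i, rfl⟩
      exact ⟨c i, hc i⟩
    intro x
    obtain ⟨y, hy⟩ := hle' x.2
    exact ⟨⟨y, show M.act y ∈ S by rw [hy]; exact x.2⟩, Subtype.ext hy⟩
  have hT : Nat.card T = N := by rw [← Nat.card_congr iso.toEquiv]; exact hτ
  refine exists_model hp hodd hbp hb1 M St (fun x hx => ?_) (φ.toMonoidHom.comp res)
    (φ.surjective.comp hres) (fun x hx => ?_) (by rw [hT]; exact hle) hcore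
  · show M.act x ∈ S
    rw [hx]; exact one_mem _
  · rw [MonoidHom.comp_apply, show res x = 1 from Subtype.ext hx, map_one]

end Cfsg.Agent.MonsterT.CentCert
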