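/-
The layer of a quotient by a central subgroup is the image of the layer.
-/
import Cfsg.Agent.Lib.Components.Central
set_option autoImplicit false

namespace Cfsg.Agent.MonsterT.CentralLayer

open Cfsg Cfsg.Agent
open scoped commutatorElement

/-- A perfect quotient by a central subgroup: the derived group covers it and is quasisimple. -/
theorem derived_of_cover {Y Z : Type*} [Group Y] [Group Z] (f : Y →* Z) (hf : Function.Surjective f)
    (hk : f.ker ≤ Subgroup.center Y) (hZ : IsQuasisimple Z) :
    (commutator Y).map f = ⊤ ∧ IsQuasisimple ↥(commutator Y) := by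
  have hperf : commutator Z = ⊤ := hZ.1.commutator_eq_top
  have hmap : (commutator Y).map f = ⊤ := by
    rw [← hperf, commutator_def, commutator_def, Subgroup.map_commutator, Subgroup.map_top_of_surjective f hf]
  refine ⟨hmap, ?_⟩
  have hsup : ∀ y : Y, ∃ a ∈ commutator Y, ∃ c ∈ f.ker, y = a * c := by
    intro y
    obtain ⟨a, ha, hae⟩ : f y ∈ (commutator Y).map f := hmap ▸ Subgroup.mem_top _
    refine ⟨a, ha, a⁻¹ * y, ?_, by group⟩
    rw [MonoidHom.mem_ker, map_mul, map_inv, hae, inv_mul_cancel]
  have hcen : Subgroup.center Y = (Subgroup.center Z).comap f := by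
    refine le_antisymm (fun x hx => Subgroup.mem_comap.2 (Subgroup.mem_center_iff.2 fun w => ?_)) fun x hx => ?_
    · obtain ⟨y, rfl⟩ := hf w
      rw [← map_mul, ← map_mul, Subgroup.mem_center_iff.1 hx y]
    · have hxy : ∀ y, ⁅x, y⁆ ∈ Subgroup.center Y := fun y => hk (by
        rw [MonoidHom.mem_ker, map_commutatorElement, commutatorElement_eq_one_iff_mul_comm]
        exact (Subgroup.mem_center_iff.1 (Subgroup.mem_comap.1 hx) (f y)).symm)
      let φ : Y →* Subgroup.center Y := MonoidHom.mk' (fun y => ⟨⁅x, y⁆, hxy y⟩) fun y w => Subtype.ext (by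
        show ⁅x, y * w⁆ = ⁅x, y⁆ * ⁅x, w⁆
        have hc := Subgroup.mem_center_iff.1 (hxy w) y
        calc ⁅x, y * w⁆ = ⁅x, y⁆ * (y * ⁅x, w⁆) * y⁻¹ := by simp only [commutatorElement_def]; group
          _ = ⁅x, y⁆ * ⁅x, w⁆ := by rw [hc]; group)
      have hker : commutator Y ≤ φ.ker := by
        rw [commutator_def]
        refine Subgroup.commutator_le.2 fun a _ b _ => ?_
        rw [MonoidHom.mem_ker, map_commutatorElement, commutatorElement_eq_one_iff_mul_comm]
        exact Subtype.ext (Subgroup.mem_center_iff.1 (φ b).2 _)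
      refine Subgroup.mem_center_iff.2 fun y => ?_
      obtain ⟨a, ha, c, hc, rfl⟩ := hsup y
      have h1 : ⁅x, a⁆ = 1 := congrArg Subtype.val (hker ha : φ a = 1)
      rw [commutatorElement_eq_one_iff_mul_comm] at h1
      have h2 := Subgroup.mem_center_iff.1 (hk hc) x
      calc a * c * x = a * (c * x) := mul_assoc _ _ _
        _ = a * x * c := by rw [← h2, mul_assoc]
        _ = x * (a * c) := by rw [← h1, mul_assoc]
  haveI := hZ.2
  let g : Y →* Z ⧸ Subgroup.center Z := (QuotientGroup.mk' _).comp f
  have hgker : g.ker = Subgroup.center Y := by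
    rw [hcen]
    ext y
    rw [MonoidHom.mem_ker, Subgroup.mem_comap]
    exact QuotientGroup.eq_one_iff _
  let i : Y ⧸ Subgroup.center Y ≃* Z ⧸ Subgroup.center Z :=
    (QuotientGroup.quotientMulEquivOfEq hgker.symm).trans
      (QuotientGroup.quotientKerEquivOfSurjective g ((QuotientGroup.mk'_surjective _).comp hf))
  refine Components.commutator_quasisimple (MulEquiv.isSimpleGroup i) fun hc => ?_
  have hcz : IsMulCommutative (Z ⧸ Subgroup.center Z) :=
    ⟨⟨fun a b => by
      have := congrArg i (hc.is_comm.comm (i.symm a) (i.symm b))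
      simpa using this⟩⟩
  have h1 : commutator (Z ⧸ Subgroup.center Z) = ⊥ := (commutator_eq_bot_iff (Z ⧸ Subgroup.center Z)).2 hcz
  have h2 : (commutator Z).map (QuotientGroup.mk' (Subgroup.center Z)) = ⊥ := by
    rw [← h1, commutator_def, commutator_def, Subgroup.map_commutator,
      Subgroup.map_top_of_surjective _ (QuotientGroup.mk'_surjective _)]
  rw [hperf, Subgroup.map_top_of_surjective _ (QuotientGroup.mk'_surjective _)] at h2
  exact top_ne_bot h2

/-- **Every component of a central quotient is covered by the layer.** -/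
theorem layer_le_map {K : Type*} [Group K] [Finite K] (N : Subgroup K) [N.Normal] (hN : N ≤ Subgroup.center K) :
    layer (K ⧸ N) ≤ (layer K).map (QuotientGroup.mk' N) := by
  refine Components.layer_le_iff.2 fun L hL => ?_
  set Y := L.comap (QuotientGroup.mk' N) with hY
  let f : ↥Y →* ↥L := ((QuotientGroup.mk' N).comp Y.subtype).codRestrict L fun y => y.2
  have hf : Function.Surjective f := fun w => by
    obtain ⟨k, hk⟩ := QuotientGroup.mk'_surjective N (w : K ⧸ N)
    exact ⟨⟨k, show QuotientGroup.mk' N k ∈ L by rw [hk]; exact w.2⟩, Subtype.ext hk⟩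
  have hk : f.ker ≤ Subgroup.center ↥Y := fun y hy => Subgroup.mem_center_iff.2 fun w => Subtype.ext
    (Subgroup.mem_center_iff.1 (hN ((QuotientGroup.eq_one_iff (y : K)).1 (congrArg Subtype.val hy))) w)
  obtain ⟨hmap, hq⟩ := derived_of_cover f hf hk hL.2
  have hcomp : IsComponent ((commutator ↥Y).map Y.subtype) :=
    Components.component_map_subtype (hL.1.comap _) ⟨(inferInstance : (commutator ↥Y).Normal).isSubnormal, hq⟩
  intro w hw
  obtain ⟨a, ha, hae⟩ : (⟨w, hw⟩ : L) ∈ (commutator ↥Y).map f := hmap ▸ Subgroup.mem_top _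
  exact ⟨a, Components.component_le_layer hcomp ⟨a, ha, rfl⟩, congrArg Subtype.val hae⟩

end Cfsg.Agent.MonsterT.CentralLayer
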