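/-
Kernel checks for the centralizer of an element of order five with four fixed points.
-/
import Cfsg.Agent.Lib.MonsterT.CentPair
import Cfsg.Agent.Lib.MonsterT.FiveData
import Cfsg.Agent.Lib.Golay.Local.CentChecks
set_option autoImplicit false
set_option maxRecDepth 100000

namespace Cfsg.Agent.MonsterT.Five

open Cfsg Cfsg.Agent.Golay Cfsg.Agent.Leech.MatCert CentCert
open Cfsg.Agent.PermCert
open Cfsg.Agent.Golay (isAutB)
open Cfsg.Agent.Golay.Cert (m24Levels)
open Cfsg.Agent.Golay.Local (searchB prConj sameF cmpF idC anyF)

theorem rep5_ok : (validElt 5 24 rep5 && isAutB rep5) = true := by decide +kernel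

theorem cent5_valid : cent5.all (fun g => validElt 5 24 g) = true := by decide +kernel

theorem cent5_search : searchB (prConj rep5.1 rep5.1)
    (fun e => !(sameF (cmpF e rep5.1) (cmpF rep5.1 e)) || anyF (fun g => sameF e g.1) cent5) m24Levels [] idC = true := by
  decide +kernel

theorem rep5_pow : (allBelow (fun i =>
    Nat.beq (get 5 rep5.1 (get 5 rep5.1 (get 5 rep5.1 (get 5 rep5.1 (get 5 rep5.1 i))))) i) 24 &&
    !(Nat.beq (get 5 rep5.1 1) 1)) = true := by decide +kernel

theorem axis_rep : eqL (rl reps 1) axisL = true := by decide +kernel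

theorem count_eight : ((List.range 256).filter fun a => decide (dotL (rl reps a) (rl reps a) = 64)).length = 75 := by
  decide +kernel

theorem code_count : (codeList.filter fun m =>
    allBelow (fun i => m.testBit (get 5 rep5.1 i) == m.testBit i) 24).length = 16 := by decide +kernel

theorem gMat0_ok : (certOK gMat0 && twineB gMat0 rep5 rep5 && actB gMat0 reps 256 256 gImg0) = true := by
  decide +kernel

theorem gMat1_ok : (certOK gMat1 && twineB gMat1 rep5 rep5 && actB gMat1 reps 256 256 gImg1) = true := by
  decide +kernel

/-- The recorded images and the paired codes agree. -/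
theorem pair_ok : allBelow (fun i =>
    allBelow (fun a => Nat.beq ((if i = 0 then gImg0 else gImg1).getD a 0) (get 8 (clsGens.getD i (0, 0)).1 a) &&
      Nat.beq (get 9 (pairGens.getD i (0, 0)).1 a) (get 8 (clsGens.getD i (0, 0)).1 a)) 256 &&
    allBelow (fun a => Nat.beq (get 9 (pairGens.getD i (0, 0)).1 (256 + a)) (256 + get 4 (tenGens.getD i (0, 0)).1 a)) 10 &&
    validElt 8 256 (clsGens.getD i (0, 0)) && validElt 4 10 (tenGens.getD i (0, 0)) &&
    validElt 9 266 (pairGens.getD i (0, 0))) 2 = true := by decide +kernel

theorem lengths_ok : (Nat.beq pairGens.length 2 && Nat.beq clsGens.length 2 && Nat.beq tenGens.length 2) = true := by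
  decide +kernel

theorem pair_cert : checkCert 9 266 pairGens pairDerived pairLevels = true := by decide +kernel
theorem pair_order : certOrder pairLevels = 7200 := by decide +kernel
theorem cls_cert : checkCert 8 256 clsGens clsDerived clsLevels = true := by decide +kernel
theorem cls_order : certOrder clsLevels = 7200 := by decide +kernel
theorem ten_cert : checkCert 4 10 tenGens tenDerived tenLevels = true := by decide +kernel
theorem ten_order : certOrder tenLevels = 7200 := by decide +kernel

end Cfsg.Agent.MonsterT.Five
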