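/-
Kernel checks on the fixed classes for the centralizer of an element of order five with four fixed points.
-/
import Cfsg.Agent.Lib.MonsterT.CentPair
import Cfsg.Agent.Lib.MonsterT.FiveData
import Cfsg.Agent.Lib.Golay.Local.CentChecks
set_option autoImplicit false
set_option maxRecDepth 100000

namespace Cfsg.Agent.MonsterT.Five

open Cfsg Cfsg.Agent.Golay Cfsg.Agent.Leech.MatCert CentCert
open Cfsg.Agent.PermCert
open Cfsg.Agent.Golay (isAutB)
open Cfsg.Agent.Golay.Cert (m24Levels)
open Cfsg.Agent.Golay.Local (searchB prConj sameF cmpF idC anyF)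

/-- The checks on one representative. -/
def rowB (a : ℕ) : Bool :=
  latB (rl reps a) && congB (permL rep5 (rl reps a)) (rl reps a) &&
      decide (dotL (rl reps a) (rl reps a) ≤ 64) &&
      allBelow (fun j => Nat.blt (a ^^^ 2 ^ j) (2 ^ 8) &&
        congB (addL (rl reps a) (rl reps (2 ^ j))) (rl reps (a ^^^ 2 ^ j))) 8 &&
      (Nat.beq a 0 || !(allBelow (fun j => decide (dotL (rl reps a) (rl reps (2 ^ j)) % 16 = 0)) 8))

theorem rows0 : allBelow (fun i => rowB (32 * 0 + i)) 32 = true := by decide +kernel

theorem rows1 : allBelow (fun i => rowB (32 * 1 + i)) 32 = true := by decide +kernel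

theorem rows2 : allBelow (fun i => rowB (32 * 2 + i)) 32 = true := by decide +kernel

theorem rows3 : allBelow (fun i => rowB (32 * 3 + i)) 32 = true := by decide +kernel

theorem rows4 : allBelow (fun i => rowB (32 * 4 + i)) 32 = true := by decide +kernel

theorem rows5 : allBelow (fun i => rowB (32 * 5 + i)) 32 = true := by decide +kernel

theorem rows6 : allBelow (fun i => rowB (32 * 6 + i)) 32 = true := by decide +kernel

theorem rows7 : allBelow (fun i => rowB (32 * 7 + i)) 32 = true := by decide +kernel

theorem cover_ok : (eqL (rl reps 0) zeroL &&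
    allBelow (fun k => Nat.blt (cover.getD k 0) (2 ^ 8) &&
      congB (orbL rep5 (genL.getD k []) 5) (rl reps (cover.getD k 0))) genL.length) = true := by decide +kernel

theorem fix_ok : fixOK rep5 5 8 reps cover = true := by
  have h := cover_ok
  simp only [Bool.and_eq_true] at h
  have hr : ∀ a < 2 ^ 8, rowB a = true := by
    intro a ha
    have key : ∀ k i : ℕ, i < 32 → allBelow (fun i => rowB (32 * k + i)) 32 = true → rowB (32 * k + i) = true :=
      fun k i hi h => allBelow_spec _ _ h i hi
    obtain ⟨k, i, hk, hi, rfl⟩ : ∃ k i, k < 8 ∧ i < 32 ∧ a = 32 * k + i :=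
      ⟨a / 32, a % 32, by omega, by omega, by omega⟩
    refine key k i hi ?_
    interval_cases k
    exacts [rows0, rows1, rows2, rows3, rows4, rows5, rows6, rows7]
  simp only [fixOK, Bool.and_eq_true]
  exact ⟨⟨allBelow_of _ fun a ha => hr a ha, h.1⟩, h.2⟩

end Cfsg.Agent.MonsterT.Five
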