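/-
The wreath product of the alternating group of degree five by a group of order two on ten points.
-/
import Cfsg.Agent.Lib.MonsterT.FiveData
import Cfsg.Prelude.Def_MonsterType
import Cfsg.Agent.Lib.Qd.Basic
import Mathlib.GroupTheory.SpecificGroups.Alternating
import Cfsg.Agent.Lib.Components.Local
set_option autoImplicit false
set_option maxRecDepth 100000

namespace Cfsg.Agent.MonsterT.Five

open Cfsg Cfsg.Agent.PermCert

/-- The two blocks among ten points. -/
def tenE : Fin 5 ⊕ Fin 5 ≃ Fin 10 := finSumFinEquiv (m := 5) (n := 5)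

/-- The identification of the two blocks with ten points. -/
noncomputable abbrev tenHom : Equiv.Perm (Fin 5 ⊕ Fin 5) ≃* Equiv.Perm (Fin 10) :=
  tenE.permCongrHom

/-- The code of a permutation of ten points. -/
def encTen (f : Equiv.Perm (Fin 10)) : Elt :=
  (((List.finRange 10).map fun i => (f i : ℕ) * 16 ^ (i : ℕ)).sum, ((List.finRange 10).map fun i => (f.symm i : ℕ) * 16 ^ (i : ℕ)).sum)

/-- A permutation sifting through the chain. -/
def okTen (f : Equiv.Perm (Fin 10)) : Bool :=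
  validElt 4 10 (encTen f) && sift 4 10 tenLevels (encTen f).1 && decide (∀ x : Fin 10, get 4 (encTen f).1 x = (f x : ℕ))

theorem ten_checks : checkCert 4 10 tenGens tenDerived tenLevels = true := by decide +kernel

theorem mem_genTen {f : Equiv.Perm (Fin 10)} (h : okTen f = true) : f ∈ genGroup 4 10 tenGens := by
  simp only [okTen, Bool.and_eq_true, decide_eq_true_eq] at h
  obtain ⟨⟨hv, hs⟩, hx⟩ := h
  have := cert_mem ten_checks hv hs
  rwa [show toPerm 4 10 (encTen f) = f from Equiv.ext fun x => Fin.ext (by rw [← hx x, ← ((rep_toPerm hv) x).1])] at this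

theorem left_ok : ∀ σ : Equiv.Perm (Fin 5), Equiv.Perm.sign σ = 1 →
    okTen (tenE.permCongr (Equiv.Perm.sumCongr σ 1)) = true := by decide +kernel

theorem right_ok : ∀ σ : Equiv.Perm (Fin 5), Equiv.Perm.sign σ = 1 →
    okTen (tenE.permCongr (Equiv.Perm.sumCongr 1 σ)) = true := by decide +kernel

theorem comm_ok : okTen (tenE.permCongr (Equiv.sumComm (Fin 5) (Fin 5))) = true := by decide +kernel

open Equiv in
theorem gens_shape :
    (∀ x : Fin 10, toPerm 4 10 (tenGens.getD 0 (0, 0)) x = tenE.permCongr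
      (Equiv.sumComm (Fin 5) (Fin 5) * Equiv.Perm.sumCongr (swap 1 2 * swap 2 4) (swap 1 2 * swap 2 4)) x) ∧
    (∀ x : Fin 10, toPerm 4 10 (tenGens.getD 1 (0, 0)) x = tenE.permCongr
      (Equiv.Perm.sumCongr (swap 0 4 * swap 4 2 * swap 2 3 * swap 3 1) (swap 0 4 * swap 4 3)) x) := by
  decide +kernel

theorem even_two {a b c d : Fin 5} (h : a ≠ b) (h' : c ≠ d) :
    Equiv.swap a b * Equiv.swap c d ∈ alternatingGroup (Fin 5) := by
  rw [Equiv.Perm.mem_alternatingGroup, map_mul, Equiv.Perm.sign_swap h, Equiv.Perm.sign_swap h']; rfl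

theorem map_wreath : alternatingFiveWreathTwo.map tenHom.toMonoidHom = genGroup 4 10 tenGens := by
  refine le_antisymm ?_ ?_
  · rw [alternatingFiveWreathTwo, MonoidHom.map_closure, Subgroup.closure_le]
    rintro _ ⟨g, (⟨σ, τ, rfl⟩ | hg), rfl⟩
    · rw [show Equiv.Perm.sumCongr (σ : Equiv.Perm (Fin 5)) (τ : Equiv.Perm (Fin 5)) =
        Equiv.Perm.sumCongr (σ : Equiv.Perm (Fin 5)) 1 * Equiv.Perm.sumCongr 1 (τ : Equiv.Perm (Fin 5)) by
          rw [Equiv.Perm.sumCongr_mul, mul_one, one_mul], map_mul]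
      exact Subgroup.mul_mem _ (mem_genTen (left_ok _ (Equiv.Perm.mem_alternatingGroup.1 σ.2)))
        (mem_genTen (right_ok _ (Equiv.Perm.mem_alternatingGroup.1 τ.2)))
    · rw [Set.mem_singleton_iff.1 hg]
      exact mem_genTen comm_ok
  · rw [genGroup, Subgroup.closure_le]
    intro σ hσ
    obtain ⟨g, hg, rfl⟩ := List.mem_map.1 hσ
    obtain ⟨k, hk, rfl⟩ := List.mem_iff_getElem.1 hg
    have hl : tenGens.length = 2 := rfl
    have pairMem : ∀ (a b : Equiv.Perm (Fin 5)), a ∈ alternatingGroup (Fin 5) → b ∈ alternatingGroup (Fin 5) →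
        Equiv.Perm.sumCongr a b ∈ alternatingFiveWreathTwo := fun a b ha hb =>
      Subgroup.subset_closure (Or.inl ⟨⟨a, ha⟩, ⟨b, hb⟩, rfl⟩)
    rcases (show k = 0 ∨ k = 1 by omega) with rfl | rfl
    · refine ⟨_, Subgroup.mul_mem _ (Subgroup.subset_closure (Or.inr rfl))
        (pairMem _ _ (even_two (by decide : (1 : Fin 5) ≠ 2) (by decide : (2 : Fin 5) ≠ 4))
          (even_two (by decide : (1 : Fin 5) ≠ 2) (by decide : (2 : Fin 5) ≠ 4))), ?_⟩
      refine (Equiv.ext fun x => ?_).symm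
      rw [← List.getD_eq_getElem _ (0, 0) hk]
      exact gens_shape.1 x
    · refine ⟨_, pairMem (Equiv.swap 0 4 * Equiv.swap 4 2 * Equiv.swap 2 3 * Equiv.swap 3 1) _ ?_ (even_two (by decide : (0 : Fin 5) ≠ 4) (by decide : (4 : Fin 5) ≠ 3)), ?_⟩
      · rw [mul_assoc]
        exact (alternatingGroup (Fin 5)).mul_mem (even_two (by decide : (0 : Fin 5) ≠ 4) (by decide : (4 : Fin 5) ≠ 2))
          (even_two (by decide : (2 : Fin 5) ≠ 3) (by decide : (3 : Fin 5) ≠ 1))
      · refine (Equiv.ext fun x => ?_).symm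
        rw [← List.getD_eq_getElem _ (0, 0) hk]
        exact gens_shape.2 x

/-- The listed group on ten points is the wreath product. -/
noncomputable def wreathIso : genGroup 4 10 tenGens ≃* alternatingFiveWreathTwo :=
  (MulEquiv.subgroupCongr map_wreath.symm).trans (tenHom.subgroupMap alternatingFiveWreathTwo).symm

/-- The base group as a subgroup of the permutations. -/
noncomputable def baseHom : alternatingGroup (Fin 5) × alternatingGroup (Fin 5) →* Equiv.Perm (Fin 5 ⊕ Fin 5) :=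
  (Equiv.Perm.sumCongrHom (Fin 5) (Fin 5)).comp
    ((alternatingGroup (Fin 5)).subtype.prodMap (alternatingGroup (Fin 5)).subtype)

theorem base_mem (x : alternatingGroup (Fin 5) × alternatingGroup (Fin 5)) :
    baseHom x ∈ alternatingFiveWreathTwo :=
  Subgroup.subset_closure (Or.inl ⟨x.1, x.2, rfl⟩)

theorem base_conj {g : Equiv.Perm (Fin 5 ⊕ Fin 5)} (hg : g ∈ alternatingFiveWreathTwo) :
    ∀ x, ∃ y, g * baseHom x * g⁻¹ = baseHom y := by
  refine Subgroup.closure_induction (p := fun g _ => ∀ x, ∃ y, g * baseHom x * g⁻¹ = baseHom y) ?_ ?_ ?_ ?_ hg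
  · rintro g (⟨σ, τ, rfl⟩ | hg) x
    · refine ⟨(σ, τ) * x * (σ, τ)⁻¹, ?_⟩
      rw [map_mul, map_mul, map_inv]
      rfl
    · rw [Set.mem_singleton_iff.1 hg]
      refine ⟨(x.2, x.1), mul_inv_eq_iff_eq_mul.2 (Equiv.ext fun p => ?_)⟩
      rcases p with p | p <;> rfl
  · intro x; exact ⟨x, by group⟩
  · intro a b _ _ ha hb x
    obtain ⟨y, hy⟩ := hb x
    obtain ⟨w, hw⟩ := ha y
    exact ⟨w, by rw [← hw, ← hy]; group⟩
  · intro a _ ha x
    classical
    choose f hf using ha
    have hinj : Function.Injective f := fun u v h => by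
      have h1 := hf u
      rw [h, ← hf v, mul_left_inj, mul_right_inj] at h1
      have h2 := DFunLike.congr_fun h1
      refine Prod.ext (Subtype.ext (Equiv.ext fun p => ?_)) (Subtype.ext (Equiv.ext fun p => ?_))
      · exact Sum.inl_injective (h2 (Sum.inl p))
      · exact Sum.inr_injective (h2 (Sum.inr p))
    obtain ⟨y, hy⟩ := (Finite.injective_iff_surjective.1 hinj) x
    exact ⟨y, by rw [← hy, ← hf y]; group⟩

theorem fix_move : ∀ i j : Fin 5, i ≠ j → ∃ k l : Fin 5, j ≠ k ∧ j ≠ l ∧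
    (Equiv.swap j k * Equiv.swap j l) i = i ∧ (Equiv.swap j k * Equiv.swap j l) j ≠ j := by decide +kernel

theorem base_centraliser {g : Equiv.Perm (Fin 5 ⊕ Fin 5)} (h : ∀ x, g * baseHom x = baseHom x * g) : g = 1 := by
  refine Equiv.ext fun i => ?_
  by_contra hne
  change g i ≠ i at hne
  suffices ∃ x, baseHom x i = i ∧ baseHom x (g i) ≠ g i by
    obtain ⟨x, h1, h2⟩ := this
    have := DFunLike.congr_fun (h x) i
    rw [Equiv.Perm.mul_apply, Equiv.Perm.mul_apply, h1] at this
    exact h2 this.symm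
  revert hne
  generalize g i = j
  intro hne
  have three : ∀ j : Fin 5, ∃ σ : alternatingGroup (Fin 5), (σ : Equiv.Perm (Fin 5)) j ≠ j := fun j => by
    obtain ⟨i, hi⟩ := exists_ne j
    obtain ⟨k, l, hk, hl, -, h2⟩ := fix_move i j hi
    exact ⟨⟨_, even_two hk hl⟩, h2⟩
  rcases i with i | i <;> rcases j with j | j
  · obtain ⟨k, l, hk, hl, h1, h2⟩ := fix_move i j fun h => hne (by rw [h])
    exact ⟨(⟨_, even_two hk hl⟩, 1), congrArg Sum.inl h1, fun h => h2 (Sum.inl_injective h)⟩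
  · obtain ⟨σ, hσ⟩ := three j
    exact ⟨(1, σ), rfl, fun h => hσ (Sum.inr_injective h)⟩
  · obtain ⟨σ, hσ⟩ := three j
    exact ⟨(σ, 1), rfl, fun h => hσ (Sum.inl_injective h)⟩
  · obtain ⟨k, l, hk, hl, h1, h2⟩ := fix_move i j fun h => hne (by rw [h])
    exact ⟨(1, ⟨_, even_two hk hl⟩), congrArg Sum.inr h1, fun h => h2 (Sum.inr_injective h)⟩

theorem two_normal_trivial {K : Subgroup (alternatingGroup (Fin 5) × alternatingGroup (Fin 5))} [K.Normal]
    (hK : IsPGroup 2 K) : K = ⊥ := by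
  haveI : Fact (Nat.Prime 2) := ⟨Nat.prime_two⟩
  haveI : IsSimpleGroup (alternatingGroup (Fin 5)) := alternatingGroup.isSimpleGroup (by simp)
  have key : ∀ f : alternatingGroup (Fin 5) × alternatingGroup (Fin 5) →* alternatingGroup (Fin 5),
      Function.Surjective f → K.map f = ⊥ := by
    intro f hf
    haveI : (K.map f).Normal := Subgroup.Normal.map inferInstance f hf
    refine (Subgroup.Normal.eq_bot_or_eq_top (inferInstance : (K.map f).Normal)).resolve_right fun h => ?_
    have h1 : IsPGroup 2 (K.map f) := hK.map f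
    rw [h] at h1
    obtain ⟨n, hn⟩ := IsPGroup.iff_card.1 h1
    rw [Subgroup.card_top, nat_card_alternatingGroup, Nat.card_eq_fintype_card, Fintype.card_fin] at hn
    have h3 : 3 ∣ 2 ^ n := hn ▸ (by decide)
    have := (Nat.prime_dvd_prime_iff_eq Nat.prime_three Nat.prime_two).1 (Nat.prime_three.dvd_of_dvd_pow h3)
    omega
  refine le_bot_iff.1 fun x hx => ?_
  have h1 := key (MonoidHom.fst _ _) fun a => ⟨(a, 1), rfl⟩
  have h2 := key (MonoidHom.snd _ _) fun a => ⟨(1, a), rfl⟩
  refine Subgroup.mem_bot.2 (Prod.ext ?_ ?_)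
  · exact Subgroup.mem_bot.1 (h1.le ⟨x, hx, rfl⟩)
  · exact Subgroup.mem_bot.1 (h2.le ⟨x, hx, rfl⟩)

theorem pCore_wreath : pCore 2 alternatingFiveWreathTwo = ⊥ := by
  haveI : Fact (Nat.Prime 2) := ⟨Nat.prime_two⟩
  let ι : alternatingGroup (Fin 5) × alternatingGroup (Fin 5) →* alternatingFiveWreathTwo :=
    baseHom.codRestrict _ base_mem
  haveI hn : (pCore 2 alternatingFiveWreathTwo).Normal := FittingCores.pCore_normal 2
  have hinj : Function.Injective ι := by
    refine (injective_iff_map_eq_one ι).2 fun x hx => ?_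
    have h := DFunLike.congr_fun (congrArg Subtype.val hx)
    exact Prod.ext (Subtype.ext (Equiv.ext fun p => Sum.inl_injective (h (Sum.inl p))))
      (Subtype.ext (Equiv.ext fun p => Sum.inr_injective (h (Sum.inr p))))
  have hK : (pCore 2 alternatingFiveWreathTwo).comap ι = ⊥ :=
    two_normal_trivial ((PBasic.pCore_isPGroup 2 _).comap_of_injective ι hinj)
  refine le_bot_iff.1 fun x hx => Subgroup.mem_bot.2 (Subtype.ext ?_)
  refine base_centraliser fun y => ?_
  obtain ⟨w, hw⟩ := base_conj x.2 y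
  have hc : w * y⁻¹ ∈ (pCore 2 alternatingFiveWreathTwo).comap ι := by
    rw [Subgroup.mem_comap]
    have he : ι (w * y⁻¹) = x * (ι y * x⁻¹ * (ι y)⁻¹) := by
      refine Subtype.ext ?_
      show baseHom (w * y⁻¹) = (x : Equiv.Perm (Fin 5 ⊕ Fin 5)) * (baseHom y * (x : Equiv.Perm (Fin 5 ⊕ Fin 5))⁻¹ * (baseHom y)⁻¹)
      rw [map_mul, map_inv, ← hw]
      group
    rw [he]
    exact Subgroup.mul_mem _ hx (hn.conj_mem _ (Subgroup.inv_mem _ hx) _)
  rw [hK, Subgroup.mem_bot, mul_inv_eq_one] at hc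
  rw [hc] at hw
  exact mul_inv_eq_iff_eq_mul.1 hw

end Cfsg.Agent.MonsterT.Five
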