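/-
The centralizer of an element of order five with four fixed points is a wreath product modulo its centre and itself.
-/
import Cfsg.Agent.Lib.MonsterT.FiveFix
import Cfsg.Agent.Lib.MonsterT.FiveChecks
import Cfsg.Agent.Lib.MonsterT.FiveWreath
import Cfsg.Agent.Lib.Golay.Local.Cents
set_option autoImplicit false
set_option maxRecDepth 100000

namespace Cfsg.Agent.MonsterT.Five

open Cfsg Cfsg.Agent.Golay Cfsg.Agent.Leech Cfsg.Agent.Leech.MatCert CentCert
open Cfsg.Agent.PermCert
open Cfsg.Agent.Golay.Local (code_permOf sameF_iff anyF_iff prConj_spec search_M24)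
open Cfsg.Agent.LatticeMod2 (Rootless Cong)

theorem rep5_valid : validElt 5 24 rep5 = true := by
  have h := rep5_ok
  simp only [Bool.and_eq_true] at h
  exact h.1

theorem R5_mem : permOf rep5 ∈ M24 := by
  have h := rep5_ok
  simp only [Bool.and_eq_true] at h
  exact permOf_mem_M24 rep5_valid h.2

/-- The element of order five. -/
noncomputable def b5 : Co0 := bOf rep5 R5_mem

theorem R5_pow : permOf rep5 ^ 5 = 1 := by
  have h := rep5_pow
  simp only [Bool.and_eq_true] at h
  refine Equiv.ext fun p => idx_injective ?_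
  have h1 := Nat.eq_of_beq_eq_true (allBelow_spec _ _ h.1 (idx p) (idx_lt p))
  simp only [← idx_permOf rep5_valid] at h1
  simp only [pow_succ, pow_zero, one_mul, Equiv.Perm.mul_apply, Equiv.Perm.one_apply]
  exact h1

theorem R5_ne : permOf rep5 ≠ 1 := fun h => by
  have h' := rep5_pow
  simp only [Bool.and_eq_true, Bool.not_eq_true', Bool.eq_false_iff, ne_eq, Nat.beq_eq] at h'
  refine h'.2 ?_
  have := idx_permOf rep5_valid (pt ⟨1, by norm_num⟩)
  rw [h, Equiv.Perm.one_apply, idx_pt] at this
  exact this.symm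

theorem b5_pow : b5 ^ 5 = 1 := bOf_pow R5_mem R5_pow

theorem b5_mem : b5 ∈ crossStab := mono_mem _

theorem b5_ne : b5 ≠ 1 := fun h => R5_ne (by
  have h1 : rho ⟨b5, b5_mem⟩ = 1 := by rw [show (⟨b5, b5_mem⟩ : crossStab) = 1 from Subtype.ext h, map_one]
  have h2 := congrArg Subtype.val (rho_mono ((⟨permOf rep5, R5_mem⟩ : M24), 0) b5_mem)
  change ((rho ⟨b5, b5_mem⟩ : M24) : Equiv.Perm GolayPt) = permOf rep5 at h2
  rw [← h2, h1]; rfl)

/-- The fixed classes. -/
noncomputable def model5 : FixModel b5 8 := fixModel fix_ok rep5_valid R5_mem (by norm_num)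

theorem model5_R (a : Fin (2 ^ 8)) : model5.R a = rv fix_ok a := rfl

/-- The index of the standard class. -/
def one8 : Fin (2 ^ 8) := ⟨1, by norm_num⟩

theorem R_one : model5.R one8 = axis none := by
  rw [← latV_axisL]
  refine Subtype.ext ?_
  show toVec (rl reps 1) = toVec axisL
  rw [show rl reps 1 = axisL by simpa [eqL] using axis_rep]

theorem card_eight : Nat.card {i : Fin (2 ^ 8) // ip (model5.R i) (model5.R i) = 8} ≤ 75 := by
  classical
  rw [← count_eight, Nat.card_eq_fintype_card, Fintype.card_subtype]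
  have hf : (Finset.univ.filter fun i : Fin (2 ^ 8) => ip (model5.R i) (model5.R i) = 8) =
      Finset.univ.filter fun i : Fin (2 ^ 8) => decide (dotL (rl reps i) (rl reps i) = 64) = true :=
    Finset.filter_congr fun i _ => by rw [model5_R, ip_eight_iff]
  rw [hf, ← List.toFinset_card_of_nodup (List.nodup_range.filter _)]
  refine Finset.card_le_card_of_injOn (fun a : Fin (2 ^ 8) => (a : ℕ)) (fun a ha => ?_) fun a _ b _ h => Fin.ext h
  exact List.mem_toFinset.2 (List.mem_filter.2 ⟨List.mem_range.2 a.2, (Finset.mem_filter.1 ha).2⟩)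

theorem card_mono : Nat.card (Subgroup.centralizer ({b5} : Set Co0) ⊓ crossStab : Subgroup Co0) ≤ 60 * 16 := by
  refine (card_mono_le rep5_valid R5_mem (cent5.map permOf) (fun τ hτ hc => ?_) 16 code_count.le).trans
    (by rw [List.length_map]; exact le_of_eq rfl)
  obtain ⟨e, he, hl⟩ := search_M24 cent5_search hτ fun F f hF hf =>
    prConj_spec (code_permOf rep5_valid) (code_permOf rep5_valid) hc hF hf
  simp only [Bool.or_eq_true, Bool.not_eq_true'] at hl
  rcases hl with h | h
  · exact absurd ((sameF_iff (he.cmp (code_permOf rep5_valid)) ((code_permOf rep5_valid).cmp he)).2 hc) (by rw [h]; simp)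
  · obtain ⟨g, hg, hge⟩ := anyF_iff.1 h
    exact List.mem_map.2 ⟨g, hg, ((sameF_iff he (code_permOf (List.all_eq_true.1 cent5_valid g hg))).1 hge).symm⟩

theorem g0_parts : certOK gMat0 = true ∧ twineB gMat0 rep5 rep5 = true ∧ actB gMat0 reps 256 256 gImg0 = true := by
  have h := gMat0_ok; simp only [Bool.and_eq_true] at h; exact ⟨h.1.1, h.1.2, h.2⟩

theorem g1_parts : certOK gMat1 = true ∧ twineB gMat1 rep5 rep5 = true ∧ actB gMat1 reps 256 256 gImg1 = true := by
  have h := gMat1_ok; simp only [Bool.and_eq_true] at h; exact ⟨h.1.1, h.1.2, h.2⟩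

/-- A certified element of the centralizer. -/
noncomputable def gEl (M : List (List ℤ)) (h : certOK M = true) (h' : twineB M rep5 rep5 = true) :
    Subgroup.centralizer ({b5} : Set Co0) :=
  ⟨gOf M h, Subgroup.mem_centralizer_singleton_iff.2 (twine_spec h rep5_valid rep5_valid R5_mem R5_mem h')⟩

theorem gEl_act {M : List (List ℤ)} {h : certOK M = true} {h' : twineB M rep5 rep5 = true} {img : List ℕ}
    (ha : actB M reps 256 256 img = true) (a : Fin (2 ^ 8)) :
    (model5.act (gEl M h h') a : ℕ) = img.getD a 0 := by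
  obtain ⟨a', h1, h2⟩ := cong_act fix_ok h ha a a.2
  rw [← h1, model5.act_eq (c := gEl M h h') (a := a) (a' := a') h2]

/-- The two generators. -/
noncomputable def gens : Fin 2 → Subgroup.centralizer ({b5} : Set Co0) :=
  ![gEl gMat0 g0_parts.1 g0_parts.2.1, gEl gMat1 g1_parts.1 g1_parts.2.1]

/-- Their permutations of the classes. -/
def clsP (i : Fin 2) : Equiv.Perm (Fin (2 ^ 8)) := toPerm 8 256 (clsGens.getD i (0, 0))

/-- Their permutations of the ten points. -/
def tenP (i : Fin 2) : Equiv.Perm (Fin 10) := toPerm 4 10 (tenGens.getD i (0, 0))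

theorem pair_facts (i : Fin 2) :
    (∀ a < 256, (if (i : ℕ) = 0 then gImg0 else gImg1).getD a 0 = get 8 (clsGens.getD i (0, 0)).1 a ∧
      get 9 (pairGens.getD i (0, 0)).1 a = get 8 (clsGens.getD i (0, 0)).1 a) ∧
    (∀ a < 10, get 9 (pairGens.getD i (0, 0)).1 (256 + a) = 256 + get 4 (tenGens.getD i (0, 0)).1 a) ∧
    validElt 8 256 (clsGens.getD i (0, 0)) = true ∧ validElt 4 10 (tenGens.getD i (0, 0)) = true ∧
    validElt 9 266 (pairGens.getD i (0, 0)) = true := by
  have h := allBelow_spec _ _ pair_ok i i.2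
  simp only [Bool.and_eq_true] at h
  obtain ⟨⟨⟨⟨h1, h2⟩, h3⟩, h4⟩, h5⟩ := h
  refine ⟨fun a ha => ?_, fun a ha => Nat.eq_of_beq_eq_true (allBelow_spec _ _ h2 a ha), h3, h4, h5⟩
  have := allBelow_spec _ _ h1 a ha
  simp only [Bool.and_eq_true, Nat.beq_eq] at this
  exact this

theorem act_gens (i : Fin 2) : model5.act (gens i) = clsP i := by
  refine Equiv.ext fun a => Fin.ext ?_
  obtain ⟨h1, -, hv, -, -⟩ := pair_facts i
  rw [clsP, ← ((rep_toPerm hv) a).1, ← (h1 a a.2).1]
  fin_cases i
  · exact gEl_act (h := g0_parts.1) (h' := g0_parts.2.1) g0_parts.2.2 a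
  · exact gEl_act (h := g1_parts.1) (h' := g1_parts.2.1) g1_parts.2.2 a

theorem gen_set {w n : ℕ} {l : List Elt} (hl : l.length = 2) :
    {σ | σ ∈ l.map (toPerm w n)} = Set.range fun i : Fin 2 => toPerm w n (l.getD i (0, 0)) := by
  ext σ
  simp only [Set.mem_ofPred_eq, List.mem_map, Set.mem_range]
  constructor
  · rintro ⟨g, hg, rfl⟩
    obtain ⟨k, hk, rfl⟩ := List.mem_iff_getElem.1 hg
    exact ⟨⟨k, hl ▸ hk⟩, by rw [List.getD_eq_getElem _ _ hk]⟩
  · rintro ⟨i, rfl⟩
    exact ⟨_, by rw [List.getD_eq_getElem _ _ (by rw [hl]; exact i.2)]; exact List.getElem_mem _, rfl⟩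

theorem lengths : pairGens.length = 2 ∧ clsGens.length = 2 ∧ tenGens.length = 2 := by
  have h := lengths_ok
  simp only [Bool.and_eq_true, Nat.beq_eq] at h
  exact ⟨h.1.1, h.1.2, h.2⟩

theorem closure_ten : Subgroup.closure (Set.range tenP) = genGroup 4 10 tenGens := by
  rw [genGroup, gen_set lengths.2.2]; rfl

theorem card_ten : Nat.card (Subgroup.closure (Set.range tenP)) = 7200 := by
  rw [closure_ten]; exact (cert_card ten_cert).trans ten_order

theorem card_cls : Nat.card (Subgroup.closure (Set.range clsP)) = 7200 := by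
  rw [← cls_order, ← cert_card cls_cert, genGroup, gen_set lengths.2.1]; rfl

/-- The embedding of pairs of permutations. -/
noncomputable def pairHom : Equiv.Perm (Fin (2 ^ 8)) × Equiv.Perm (Fin 10) →* Equiv.Perm (Fin 266) :=
  (finSumFinEquiv (m := 2 ^ 8) (n := 10)).permCongrHom.toMonoidHom.comp (Equiv.Perm.sumCongrHom _ _)

theorem pairHom_gen (i : Fin 2) : pairHom (clsP i, tenP i) = toPerm 9 266 (pairGens.getD i (0, 0)) := by
  obtain ⟨h1, h2, hc, hn, hp⟩ := pair_facts i
  refine Equiv.ext fun x => ?_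
  obtain ⟨y, rfl⟩ := (finSumFinEquiv (m := 2 ^ 8) (n := 10)).surjective x
  refine Fin.ext ?_
  rw [← ((rep_toPerm hp) _).1]
  show ((finSumFinEquiv (Equiv.Perm.sumCongr (clsP i) (tenP i) (finSumFinEquiv.symm (finSumFinEquiv y)))) : ℕ) = _
  rw [Equiv.symm_apply_apply]
  rcases y with a | a
  · simp only [Equiv.Perm.sumCongr_apply, Sum.map_inl, finSumFinEquiv_apply_left, Fin.val_castAdd]
    rw [(h1 a a.2).2]
    exact ((rep_toPerm hc) a).1.symm
  · simp only [Equiv.Perm.sumCongr_apply, Sum.map_inr, finSumFinEquiv_apply_right, Fin.val_natAdd]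
    rw [show (2 : ℕ) ^ 8 = 256 from rfl, h2 a a.2]
    exact congrArg _ ((rep_toPerm hn) a).1.symm

theorem card_pair : Nat.card (Subgroup.closure (Set.range fun i => (clsP i, tenP i))) = 7200 := by
  have hinj : Function.Injective pairHom := fun _ _ h => Equiv.Perm.sumCongrHom_injective
    ((finSumFinEquiv (m := 2 ^ 8) (n := 10)).permCongrHom.injective h)
  rw [← pair_order, ← cert_card pair_cert, ← Subgroup.card_map_of_injective hinj]
  congr 1
  rw [MonoidHom.map_closure, genGroup, gen_set lengths.1, ← Set.range_comp]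
  simp only [Function.comp_def, pairHom_gen]

/-- The model of the centralizer. -/
theorem exists_model5 : ∃ M : CentModel b5 5 8 alternatingFiveWreathTwo, M.fm = model5 :=
  exists_model_pair (by norm_num) (by norm_num) b5_pow b5_ne model5 gens clsP tenP act_gens card_pair card_cls
    card_ten ((MulEquiv.subgroupCongr closure_ten).trans wreathIso)
    ((card_cent_le_eight model5 R_one card_eight card_mono).trans (by norm_num)) pCore_wreath

end Cfsg.Agent.MonsterT.Five
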