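/-
Standard position of subgroups of prime order in the joint centralizer.
-/
import Cfsg.Agent.Lib.MonsterT.LocalBasic
import Mathlib.Data.Nat.Factorization.Basic
set_option autoImplicit false

namespace Cfsg.Agent.MonsterT

open Cfsg Cfsg.Agent.Golay Cfsg.Agent.Leech
open Cfsg.Agent.LatticeMod2 (Rootless Cong)

variable {G : Type*} [Group G] [Finite G] {z : G}
  {Q : Subgroup (Subgroup.centralizer ({z} : Set G))} [Q.Normal]
  {e : (Subgroup.centralizer ({z} : Set G)) ⧸ Q ≃* Spor.Co1} {ψ : leechLattice → Q ⧸ Subgroup.center Q}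

namespace MT

variable (H : MT z Q e ψ)
include H

/-- Standard position from conjugacy of the elements of the prime order. -/
theorem exists_loc {b : Co0} {p : ℕ} (hp : p.Prime) (hodd : p % 2 = 1) (hb : b ^ p = 1)
    {q : Q} (hq : IsConj z (toG q)) (hne : toG q ≠ z)
    {β : Subgroup.centralizer ({z} : Set G)} (hβ : orderOf β = p) (hβq : cq β q = q)
    (hconj : ∀ (e' : (Subgroup.centralizer ({z} : Set G)) ⧸ Q ≃* Spor.Co1)
      (ψ' : leechLattice → Q ⧸ Subgroup.center Q), MT z Q e' ψ' → ψ' (axis none) = QuotientGroup.mk q →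
      ∀ g : ↥crossStab, g ^ p = 1 → g ≠ 1 → piHom e' β = QuotientGroup.mk (g : Co0) →
        ∃ (u : ↥crossStab) (a : ℕ), (u : Co0) * (g : Co0) * (u : Co0)⁻¹ = b ^ a) :
    ∃ (e' : (Subgroup.centralizer ({z} : Set G)) ⧸ Q ≃* Spor.Co1) (ψ' : leechLattice → Q ⧸ Subgroup.center Q)
      (β' : Subgroup.centralizer ({z} : Set G)), Loc z Q e' ψ' b p β' q ∧
        Subgroup.zpowers (β' : G) = Subgroup.zpowers (β : G) := by
  have hβp : β ^ p = 1 := by rw [← hβ]; exact pow_orderOf_eq_one β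
  have hβ1 : β ≠ 1 := fun h => by rw [h, orderOf_one] at hβ; exact hp.ne_one hβ.symm
  obtain ⟨e₁, ψ₁, g, H₁, hax, himg, hgp, hg1⟩ := H.standard hq hne hodd hβp hβ1 hβq
  obtain ⟨u, a, hu⟩ := hconj e₁ ψ₁ H₁ hax g hgp hg1 himg
  have hap : ¬ p ∣ a := fun ⟨m, hm⟩ => hg1 (Subtype.ext (by
    rw [hm, pow_mul, hb, one_pow, mul_inv_eq_one, mul_eq_left] at hu
    exact hu))
  obtain ⟨j, -, hj⟩ := Nat.exists_mul_mod_eq_one_of_coprime (hp.coprime_iff_not_dvd.2 hap).symm hp.one_lt
  have hjp : ¬ p ∣ j := fun ⟨m, hm⟩ => by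
    rw [hm, mul_left_comm, Nat.mul_mod_right] at hj; exact zero_ne_one hj
  have H₂ := H₁.twist (u : Co0)
  have hax₂ : (fun v => ψ₁ ((u : Co0)⁻¹ • v)) (axis none) = QuotientGroup.mk q := by
    show ψ₁ _ = _
    rw [← hax]
    refine H₁.psi_eq_iff.2 ?_
    exact mem_classStab.1 ((SetLike.ext_iff.1 classStab_axis _).2 (crossStab.inv_mem u.2))
  refine ⟨_, _, β ^ j, ⟨H₂, hp, hodd, hb, ?_, ?_, hax₂, ?_⟩, ?_⟩
  · have e0 : piHom (e₁.trans (MulAut.conj (QuotientGroup.mk (u : Co0) : Spor.Co1))) β =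
        QuotientGroup.mk (b ^ a) := by
      rw [← hu, QuotientGroup.mk_mul, QuotientGroup.mk_mul, QuotientGroup.mk_inv, ← himg]
      rfl
    have e1 : b ^ (a * j) = b := by
      rw [← Nat.mod_add_div (a * j) p, hj, pow_add, pow_mul, hb, one_pow, pow_one, mul_one]
    rw [map_pow, e0, ← QuotientGroup.mk_pow, ← pow_mul, e1]
  · rw [Nat.Coprime.orderOf_pow ((hp.coprime_iff_not_dvd.2 hjp).symm |> fun h => hβ ▸ h.symm)]
    exact hβ
  · have h : ∀ n : ℕ, cq (β ^ n) q = q := by
      intro n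
      induction n with
      | zero =>
        rw [pow_zero]
        exact Subtype.ext (by show (1 : Subgroup.centralizer ({z} : Set G)) * q * (1 : _)⁻¹ = _; simp)
      | succ n ih => rw [pow_succ', cq_comp, ih, hβq]
    exact h j
  · refine le_antisymm (Subgroup.zpowers_le.2 ?_) (Subgroup.zpowers_le.2 ?_)
    · rw [SubmonoidClass.coe_pow]; exact Subgroup.pow_mem _ (Subgroup.mem_zpowers _) j
    · have e2 : (((β ^ j) ^ a : Subgroup.centralizer ({z} : Set G)) : G) = (β : G) := by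
        rw [← pow_mul, ← Nat.mod_add_div (j * a) p, mul_comm j a, hj, pow_add, pow_mul, hβp, one_pow, pow_one, mul_one]
      rw [← e2, SubmonoidClass.coe_pow]
      exact Subgroup.pow_mem _ (Subgroup.mem_zpowers _) a

/-- A Sylow subgroup for a prime dividing the order of the standard stabiliser exactly once. -/
theorem generator_of_sylow {p : ℕ} (hp : p.Prime) (hodd : p % 2 = 1) {b : Co0} (hb : b ^ p = 1) (hb1 : b ≠ 1)
    (hbc : b ∈ crossStab) (hpp : ¬ p ∣ 4096 * 244823040 / p) {s : G} {q : Q} (hqs : toG q = s)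
    (hq : IsConj z (toG q)) (hne : toG q ≠ z) {B : Subgroup G}
    (hB : B ≤ Subgroup.centralizer ({z, s} : Set G))
    (hBp : Nat.card B = p ^ (Nat.card ↥(Subgroup.centralizer ({z, s} : Set G))).factorization p) :
    ∃ (e' : (Subgroup.centralizer ({z} : Set G)) ⧸ Q ≃* Spor.Co1) (ψ' : leechLattice → Q ⧸ Subgroup.center Q)
      (β' : Subgroup.centralizer ({z} : Set G)), Loc z Q e' ψ' b p β' q ∧ B = Subgroup.zpowers (β' : G) := by
  haveI : Fact p.Prime := ⟨hp⟩
  haveI := finite_Co0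
  obtain ⟨v, h8, hv⟩ := H.eight_of_conj hq hne
  obtain ⟨k, hk⟩ := exists_to_axis h8 none
  have H₁ := H.twist k
  have hax : (fun v => ψ (k⁻¹ • v)) (axis none) = QuotientGroup.mk q := by
    show ψ (k⁻¹ • axis none) = _
    rw [← hk, inv_smul_smul]; exact hv
  have hg : Cong (b • axis none) (axis none) := by rwa [← classStab_axis, mem_classStab] at hbc
  obtain ⟨h, hh, hhq⟩ := H₁.exists_conj hax hax (H₁.not_center hax (Or.inr (ip_axis_self none))) hg
  set L := Subgroup.centralizer ({(q : Subgroup.centralizer ({z} : Set G))} :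
      Set (Subgroup.centralizer ({z} : Set G))) with hL
  have hmem : ∀ x : Subgroup.centralizer ({z} : Set G), cq x q = q ↔ x ∈ L := fun x => by
    rw [hL, Subgroup.mem_centralizer_singleton_iff]
    exact ⟨fun h => mul_inv_eq_iff_eq_mul.1 (congrArg Subtype.val h),
      fun h => Subtype.ext (mul_inv_eq_iff_eq_mul.2 h)⟩
  have hpdvd : p ∣ Nat.card L := by
    have h1 : orderOf (QuotientGroup.mk b : Spor.Co1) = p := by
      refine orderOf_eq_prime (by rw [← QuotientGroup.mk_pow, hb]; rfl) fun h1 => hb1 ?_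
      rcases mk_eq_mk (g := 1) (g' := b) h1.symm with r | r
      · exact r
      · rw [mul_one] at r
        rw [r, neg_pow_odd hodd] at hb
        exact r.trans hb
    rw [← h1]
    refine dvd_trans ?_ (Subgroup.card_map_dvd L (piHom (e.trans (MulAut.conj (QuotientGroup.mk k : Spor.Co1)))))
    rw [← hh]
    have hx : piHom (e.trans (MulAut.conj (QuotientGroup.mk k : Spor.Co1))) h ∈
        L.map (piHom (e.trans (MulAut.conj (QuotientGroup.mk k : Spor.Co1)))) := ⟨h, (hmem h).1 hhq, rfl⟩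
    have h2 := orderOf_dvd_natCard (⟨_, hx⟩ : L.map (piHom (e.trans (MulAut.conj (QuotientGroup.mk k : Spor.Co1)))))
    rwa [← Subgroup.orderOf_coe] at h2
  have hcard : Nat.card ↥(Subgroup.centralizer ({z, s} : Set G)) = Nat.card L := by
    rw [← Subgroup.card_map_of_injective (Subgroup.centralizer ({z} : Set G)).subtype_injective]
    congr 2
    ext x
    rw [Subgroup.mem_centralizer_iff]
    constructor
    · intro hx
      have hxz : x ∈ Subgroup.centralizer ({z} : Set G) :=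
        Subgroup.mem_centralizer_singleton_iff.2 (hx z (Or.inl rfl)).symm
      refine ⟨⟨x, hxz⟩, (hmem _).1 (toG_inj ?_), rfl⟩
      show x * toG q * x⁻¹ = toG q
      rw [hqs, mul_inv_eq_iff_eq_mul]
      exact (hx s (Or.inr rfl)).symm
    · rintro ⟨y, hy, rfl⟩ w (rfl | hw)
      · exact (Subgroup.mem_centralizer_singleton_iff.1 y.2).symm
      · rw [Set.mem_singleton_iff.1 hw, ← hqs]
        exact (mul_inv_eq_iff_eq_mul.1 (congrArg toG ((hmem y).2 hy) :
          (y : G) * toG q * (y : G)⁻¹ = toG q)).symm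
  have hf : (Nat.card L).factorization p = 1 := by
    refine le_antisymm ?_ ((hp.dvd_iff_one_le_factorization Nat.card_pos.ne').1 hpdvd)
    by_contra hlt
    have h2 : p ^ 2 ∣ Nat.card L := (hp.pow_dvd_iff_le_factorization Nat.card_pos.ne').2 (by omega)
    have h3 := h2.trans (dvd_stab H₁ hax)
    have hcop : Nat.Coprime (p ^ 2) (2 ^ 25) :=
      Nat.Coprime.pow _ _ ((Nat.coprime_primes hp Nat.prime_two).2 (by omega))
    obtain ⟨m, hm⟩ := hcop.dvd_of_dvd_mul_left h3
    exact hpp ⟨m, by rw [hm, pow_two, mul_assoc, Nat.mul_div_cancel_left _ hp.pos]⟩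
  rw [hcard, hf, pow_one] at hBp
  obtain ⟨x, hx⟩ := exists_prime_orderOf_dvd_card' (G := B) p (by rw [hBp])
  have hxB : B = Subgroup.zpowers (x : G) := by
    refine (Subgroup.eq_of_le_of_card_ge (Subgroup.zpowers_le.2 x.2) ?_).symm
    rw [hBp, Nat.card_zpowers, Subgroup.orderOf_coe, hx]
  have hxc := Subgroup.mem_centralizer_iff.1 (hB x.2)
  let β : Subgroup.centralizer ({z} : Set G) :=
    ⟨x, Subgroup.mem_centralizer_singleton_iff.2 (hxc z (Or.inl rfl)).symm⟩
  have hβo : orderOf β = p := by rw [← Subgroup.orderOf_coe]; show orderOf (x : G) = p; rw [Subgroup.orderOf_coe, hx]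
  have hβq : cq β q = q := toG_inj (by
    show (x : G) * toG q * (x : G)⁻¹ = toG q
    rw [hqs, mul_inv_eq_iff_eq_mul]; exact (hxc s (Or.inr rfl)).symm)
  obtain ⟨e', ψ', β', hloc, hgen⟩ := H.exists_loc hp hodd hb hq hne hβo hβq fun e' ψ' _ _ g hg hg1 _ => by
    obtain ⟨u, a, hu⟩ := exists_conj_prime hp (K := ↥crossStab) (b := (⟨b, hbc⟩ : crossStab)) (c := g)
      (by
        rw [card_crossStab]
        rintro ⟨m, hm⟩
        exact hpp ⟨m, by rw [hm, pow_two, mul_assoc, Nat.mul_div_cancel_left _ hp.pos]⟩)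
      (orderOf_eq_prime (Subtype.ext hb) fun h1 => hb1 (congrArg Subtype.val h1)) (orderOf_eq_prime hg hg1)
    exact ⟨u, a, by simpa using congrArg Subtype.val hu⟩
  exact ⟨e', ψ', β', hloc, by rw [hgen, hxB]⟩

end MT

end Cfsg.Agent.MonsterT
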