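/-
The centralizer of a Sylow five-subgroup of the centralizer of a four-group is of Harada–Norton type modulo it.
-/
import Cfsg.Agent.Lib.MonsterT.FiveModel
import Cfsg.Agent.Lib.MonsterT.LocalStd
set_option autoImplicit false
set_option maxRecDepth 100000

namespace Cfsg.Agent.MonsterT

open Cfsg Cfsg.Agent.Golay Cfsg.Agent.Leech
open Five (b5)

variable {G : Type*} [Group G] [Finite G] {z : G}
  {Q : Subgroup (Subgroup.centralizer ({z} : Set G))} [Q.Normal]
  {e : (Subgroup.centralizer ({z} : Set G)) ⧸ Q ≃* Spor.Co1} {ψ : leechLattice → Q ⧸ Subgroup.center Q}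

namespace Loc

variable {β : Subgroup.centralizer ({z} : Set G)} {q : Q} (D : Loc z Q e ψ b5 5 β q)
include D

theorem sq_five (a : ℕ) (ha : (β : G) ^ a ≠ 1) :
    ∃ n : Subgroup.centralizer ({z} : Set G), cq n q = q ∧ n * β * n⁻¹ = β ^ (a ^ 4) := by
  have h5 : a % 5 ≠ 0 := fun h0 => ha (by
    obtain ⟨m, rfl⟩ := Nat.dvd_of_mod_eq_zero h0
    have := congrArg Subtype.val (D.beta_pow)
    rw [SubmonoidClass.coe_pow, OneMemClass.coe_one] at this
    rw [pow_mul, this, one_pow])
  have h4 : a ^ 4 % 5 = 1 := by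
    rw [Nat.pow_mod]
    have h := Nat.mod_lt a (show 5 > 0 by norm_num)
    interval_cases (a % 5) <;> first | exact absurd rfl h5 | rfl
  refine ⟨1, Subtype.ext (by simp [cq]), ?_⟩
  rw [one_mul, inv_one, mul_one, ← pow_mod_orderOf _ (a ^ 4), D.ord, h4, pow_one]

end Loc

namespace MT

variable (H : MT z Q e ψ)
include H

/-- **The centralizer of the subgroup of order five modulo it is of Harada–Norton type.** -/
theorem haradaNorton {s : G} {q : Q} (hqs : toG q = s) (hs : IsConj z s) (hs1 : s ≠ z) {B : Subgroup G}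
    (hB : B ≤ Subgroup.centralizer ({z, s} : Set G))
    (hBp : Nat.card B = 5 ^ (Nat.card ↥(Subgroup.centralizer ({z, s} : Set G))).factorization 5)
    [hN : (B.subgroupOf (Subgroup.centralizer (B : Set G))).Normal] :
    IsOfHaradaNortonType (↥(Subgroup.centralizer (B : Set G)) ⧸ B.subgroupOf (Subgroup.centralizer (B : Set G))) := by
  have hq : IsConj z (toG q) := by rw [hqs]; exact hs
  have hne : toG q ≠ z := by rw [hqs]; exact hs1
  obtain ⟨e', ψ', β, D, hgen⟩ := H.generator_of_sylow (by norm_num) (by norm_num) Five.b5_pow Five.b5_ne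
    Five.b5_mem (by norm_num) hqs hq hne hB hBp
  obtain ⟨M, -⟩ := Five.exists_model5
  obtain ⟨h, hh1, hh2⟩ := D.fused (fun h hz hq' => D.conj_of_sylow (by norm_num) h hz hq' hq) D.sq_five hq hne
  obtain ⟨zb, R, hR, hset, hiso, -⟩ := D.setting_of M (w := 4) rfl (by norm_num) hgen ⟨h, hh1, hh2, hne⟩
  exact ⟨zb, R, hR, hset, hiso⟩

end MT

end Cfsg.Agent.MonsterT
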