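/-
The layer of a group with an involution centraliser of Held type contains that centraliser.
-/
import Cfsg.Prelude.Def_MonsterType
import Cfsg.Agent.Lib.Components.Local
import Cfsg.Agent.Lib.Qd.Basic
import Cfsg.Agent.S5435
import Mathlib.GroupTheory.FixedPointFree
set_option autoImplicit false

namespace Cfsg.Agent.MonsterT.HeldLayer

open Cfsg Cfsg.Agent
open scoped commutatorElement

/-- An involution without fixed points on a normalised subgroup inverts it. -/
theorem inverts {G : Type*} [Group G] [Finite G] {N : Subgroup G} {a : G} (ha : a * a = 1)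
    (hN : ∀ x ∈ N, a * x * a⁻¹ ∈ N) (hfix : ∀ x ∈ N, a * x = x * a → x = 1) :
    ∀ x ∈ N, a * x * a⁻¹ = x⁻¹ := by
  let φ : ↥N →* ↥N := MonoidHom.mk' (fun x => ⟨a * x * a⁻¹, hN x x.2⟩) fun x y => Subtype.ext (by
    show a * (x * y : G) * a⁻¹ = a * x * a⁻¹ * (a * y * a⁻¹); group)
  have hφ : MonoidHom.FixedPointFree φ := fun x hx => Subtype.ext (hfix x x.2
    (mul_inv_eq_iff_eq_mul.1 (congrArg Subtype.val hx)))
  have h2 : Function.Involutive φ := fun x => Subtype.ext (by
    show a * (a * x * a⁻¹) * a⁻¹ = x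
    calc a * (a * (x : G) * a⁻¹) * a⁻¹ = (a * a) * x * (a * a)⁻¹ := by group
      _ = x := by rw [ha, one_mul, inv_one, mul_one])
  intro x hx
  exact congrArg Subtype.val (congrFun (hφ.coe_eq_inv_of_involutive h2) ⟨x, hx⟩)

/-- An inverted subgroup is commutative. -/
theorem commute_of_inverts {G : Type*} [Group G] {N : Subgroup G} {a : G}
    (h : ∀ x ∈ N, a * x * a⁻¹ = x⁻¹) : ∀ x ∈ N, ∀ y ∈ N, x * y = y * x := by
  intro x hx y hy
  have e := h _ (N.mul_mem hx hy)
  rw [show a * (x * y) * a⁻¹ = a * x * a⁻¹ * (a * y * a⁻¹) by group, h x hx, h y hy] at e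
  calc x * y = (y⁻¹ * x⁻¹)⁻¹ := by group
    _ = ((x * y)⁻¹)⁻¹⁻¹⁻¹ * 1 := by group
    _ = y * x := by rw [← e]; group

/-- A non-trivial nilpotent group has non-trivial centre. -/
theorem center_nontrivial' {G : Type*} [Group G] [Nontrivial G] [hG : Group.IsNilpotent G] :
    Nontrivial (Subgroup.center G) := by
  rw [Subgroup.nontrivial_iff_ne_bot]
  intro hc
  obtain ⟨n, hn⟩ := hG.nilpotent
  have : ∀ m, Subgroup.upperCentralSeries G m = ⊥ := by
    intro m
    induction m with
    | zero => simp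
    | succ m ih =>
      refine (Subgroup.eq_bot_iff_forall _).2 fun x hx => ?_
      have hx' : x ∈ Subgroup.center G := Subgroup.mem_center_iff.2 fun y => by
        have := (Subgroup.mem_upperCentralSeries_succ_iff).1 hx y
        rw [ih, Subgroup.mem_bot] at this
        exact (commutatorElement_eq_one_iff_mul_comm.1 this).symm
      rwa [hc, Subgroup.mem_bot] at hx'
  rw [this n] at hn
  exact bot_ne_top hn

variable {X : Type*} [Group X] [Finite X] {z : X} {R : Subgroup (Subgroup.centralizer ({z} : Set X))}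

section Setting

variable (h : IsExtraspecialCentralizerSetting z R 3)
include h

theorem nilpotent_le {N : Subgroup (Subgroup.centralizer ({z} : Set X))} (hN : N.Normal)
    (hn : Group.IsNilpotent ↥N) : N ≤ R :=
  h.2.1 ▸ (Components.le_fittingSubgroup hN hn).trans Components.fitting_le_generalizedFitting

theorem cent_R : Subgroup.centralizer (R : Set (Subgroup.centralizer ({z} : Set X))) ≤ R := by
  have := Components.centralizer_generalizedFitting_le (G := Subgroup.centralizer ({z} : Set X))
  rwa [h.2.1] at this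

theorem z_sq : z * z = 1 := by
  have := pow_orderOf_eq_one z
  rwa [h.1, pow_two] at this

theorem z_ne : z ≠ 1 := fun e => by
  have := h.1
  rw [e, orderOf_one] at this
  omega

theorem z_mem : (⟨z, Subgroup.mem_centralizer_singleton_iff.2 rfl⟩ : Subgroup.centralizer ({z} : Set X)) ∈ R :=
  cent_R h (Subgroup.mem_centralizer_iff.2 fun c _ => Subtype.ext (Subgroup.mem_centralizer_singleton_iff.1 c.2))

/-- The centre of the extraspecial subgroup. -/
theorem center_cases (x : R) (hx : x ∈ Subgroup.center R) :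
    ((x : Subgroup.centralizer ({z} : Set X)) : X) = 1 ∨ ((x : Subgroup.centralizer ({z} : Set X)) : X) = z := by
  let zR : R := ⟨_, z_mem h⟩
  have hzc : zR ∈ Subgroup.center R := Subgroup.mem_center_iff.2 fun y => Subtype.ext (Subtype.ext
    (Subgroup.mem_centralizer_singleton_iff.1 (y : Subgroup.centralizer ({z} : Set X)).2))
  obtain ⟨a, b, -, hall⟩ := Nat.card_eq_two_iff.1 h.2.2.1.2
  have mem : ∀ w : Subgroup.center R, w = a ∨ w = b := fun w => by
    have : w ∈ ({a, b} : Set (Subgroup.center R)) := hall ▸ Set.mem_univ w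
    exact this
  by_contra hcon
  rw [not_or] at hcon
  have h1 : (⟨x, hx⟩ : Subgroup.center R) ≠ 1 := fun e => hcon.1 (congrArg (fun w : Subgroup.center R =>
    ((w.1 : Subgroup.centralizer ({z} : Set X)) : X)) e)
  have h2 : (⟨x, hx⟩ : Subgroup.center R) ≠ ⟨zR, hzc⟩ := fun e => hcon.2 (congrArg (fun w : Subgroup.center R =>
    ((w.1 : Subgroup.centralizer ({z} : Set X)) : X)) e)
  have h3 : (⟨zR, hzc⟩ : Subgroup.center R) ≠ 1 := fun e => z_ne h (congrArg (fun w : Subgroup.center R =>
    ((w.1 : Subgroup.centralizer ({z} : Set X)) : X)) e)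
  rcases mem ⟨x, hx⟩ with e1 | e1 <;> rcases mem 1 with e2 | e2 <;> rcases mem ⟨zR, hzc⟩ with e3 | e3 <;>
    simp_all

/-- A subgroup normalised by the extraspecial subgroup meets it trivially or contains the involution. -/
theorem z_mem_of_inter {N : Subgroup X} (hN : ∀ r ∈ R, ∀ x ∈ N, (r : X) * x * (r : X)⁻¹ ∈ N)
    {a : Subgroup.centralizer ({z} : Set X)} (ha : a ∈ R) (haN : (a : X) ∈ N) (ha1 : (a : X) ≠ 1) : z ∈ N := by
  by_cases hc : (⟨a, ha⟩ : R) ∈ Subgroup.center R
  · rcases center_cases h _ hc with e | e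
    · exact absurd e ha1
    · exact e ▸ haN
  · rw [Subgroup.mem_center_iff] at hc
    push Not at hc
    obtain ⟨r, hr⟩ := hc
    have hmem : ⁅r, (⟨a, ha⟩ : R)⁆ ∈ Subgroup.center R :=
      h.2.2.1.1.2.2 ▸ Subgroup.commutator_mem_commutator (Subgroup.mem_top _) (Subgroup.mem_top _)
    rcases center_cases h _ hmem with e | e
    · refine absurd (commutatorElement_eq_one_iff_mul_comm.1 (Subtype.ext (Subtype.ext e))) hr
    · have e' : ((r : Subgroup.centralizer ({z} : Set X)) : X) * a *
          ((r : Subgroup.centralizer ({z} : Set X)) : X)⁻¹ * (a : X)⁻¹ = z := e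
      rw [← e']
      exact N.mul_mem (hN _ r.2 _ haN) (N.inv_mem haN)

/-- The subgroup of elements of a normal subgroup centralising the involution, when nilpotent, lies in R. -/
theorem inter_le {N : Subgroup X} [N.Normal] (hn : Group.IsNilpotent ↥N) :
    N.subgroupOf (Subgroup.centralizer ({z} : Set X)) ≤ R := by
  haveI := hn
  refine nilpotent_le h inferInstance ?_
  let f : ↥(N.subgroupOf (Subgroup.centralizer ({z} : Set X))) →* ↥N :=
    MonoidHom.mk' (fun x => ⟨(x.1 : X), x.2⟩) fun x y => rfl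
  have hf : Function.Injective f := fun x y e =>
    Subtype.ext (Subtype.ext (congrArg (fun w : N => (w : X)) e))
  exact Group.nilpotent_of_mulEquiv (MonoidHom.ofInjective hf).symm

theorem exists_partner : ∃ q r : Subgroup.centralizer ({z} : Set X), q ∈ R ∧ r ∈ R ∧ IsConj z (q : X) ∧
    (q : X) ≠ z ∧ (r : X) * q * (r : X)⁻¹ = z * q := by
  obtain ⟨g, ⟨hgC, hgR⟩, hne⟩ := h.2.2.2.2
  set q : Subgroup.centralizer ({z} : Set X) := ⟨_, hgC⟩ with hq
  have hconj : IsConj z (q : X) := isConj_iff.2 ⟨g, rfl⟩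
  have hnc : (⟨q, hgR⟩ : R) ∉ Subgroup.center R := fun hc => by
    rcases center_cases h _ hc with e | e
    · have e' : g * z * g⁻¹ = 1 := e
      rw [mul_inv_eq_one, mul_eq_left] at e'
      exact z_ne h e'
    · exact hne e
  rw [Subgroup.mem_center_iff] at hnc
  push Not at hnc
  obtain ⟨r, hr⟩ := hnc
  refine ⟨q, r, hgR, r.2, hconj, hne, ?_⟩
  have hmem : ⁅r, (⟨q, hgR⟩ : R)⁆ ∈ Subgroup.center R :=
    h.2.2.1.1.2.2 ▸ Subgroup.commutator_mem_commutator (Subgroup.mem_top _) (Subgroup.mem_top _)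
  rcases center_cases h _ hmem with e | e
  · exact absurd (commutatorElement_eq_one_iff_mul_comm.1 (Subtype.ext (Subtype.ext e))) hr
  · exact mul_inv_eq_iff_eq_mul.1 (show ((r : Subgroup.centralizer ({z} : Set X)) : X) * q *
      ((r : Subgroup.centralizer ({z} : Set X)) : X)⁻¹ * (q : X)⁻¹ = z from e)

theorem R_comm_false (hcomm : ∀ x y : R, x * y = y * x) : False := by
  have h1 : Subgroup.center R = ⊤ := eq_top_iff.2 fun x _ => Subgroup.mem_center_iff.2 fun y => hcomm y x
  have h2 := h.2.2.1.2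
  rw [h1, Subgroup.card_top, h.2.2.2.1] at h2
  norm_num at h2

/-- The Fitting subgroup is trivial. -/
theorem fitting_bot (hgen : ∀ a ∈ R, (a : X) ∈ Subgroup.closure {x : X | IsConj z x ∧
      ∃ hx : x ∈ Subgroup.centralizer ({z} : Set X), (⟨x, hx⟩ : Subgroup.centralizer ({z} : Set X)) ∈ R}) :
    fittingSubgroup X = ⊥ := by
  haveI hP : (fittingSubgroup X).Normal := Components.fittingSubgroup_normal
  haveI hPn : Group.IsNilpotent ↥(fittingSubgroup X) := Components.fittingSubgroup_nilpotent
  set P := fittingSubgroup X with hPdef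
  by_contra hne
  have hnorm : ∀ (N : Subgroup X), N.Normal → ∀ r ∈ R, ∀ x ∈ N, (r : X) * x * (r : X)⁻¹ ∈ N :=
    fun N hN r _ x hx => hN.conj_mem x hx r
  by_cases hz : z ∈ P
  · -- the centre of the Fitting subgroup
    set A := (Subgroup.center ↥P).map P.subtype with hA
    haveI hAn : A.Normal := inferInstance
    have hAz : ∀ x ∈ A, x * z = z * x := by
      rintro _ ⟨w, hw, rfl⟩
      exact (congrArg Subtype.val (Subgroup.mem_center_iff.1 hw ⟨z, hz⟩)).symm
    haveI : Nontrivial ↥P := (Subgroup.nontrivial_iff_ne_bot P).2 hne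
    obtain ⟨⟨w, hw⟩, hw1⟩ := @exists_ne _ (center_nontrivial' (G := ↥P)) (1 : Subgroup.center ↥P)
    have hwA : (w : X) ∈ A := ⟨w, hw, rfl⟩
    let a : Subgroup.centralizer ({z} : Set X) := ⟨w, Subgroup.mem_centralizer_singleton_iff.2 (hAz _ hwA)⟩
    have haR : a ∈ R := inter_le h hPn (Subgroup.mem_subgroupOf.2 w.2)
    have hzA : z ∈ A := z_mem_of_inter h (hnorm A hAn) haR hwA fun e => hw1 (Subtype.ext (Subtype.ext e))
    have hle : ∀ b ∈ R, (b : X) ∈ A := fun b hb => by
      refine (Subgroup.closure_le A).2 ?_ (hgen b hb)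
      rintro x ⟨hx, -⟩
      obtain ⟨g, rfl⟩ := isConj_iff.1 hx
      exact hAn.conj_mem z hzA g
    refine R_comm_false h fun x y => Subtype.ext (Subtype.ext ?_)
    obtain ⟨u, hu, hue⟩ := hle _ x.2
    obtain ⟨v, -, hve⟩ := hle _ y.2
    show ((x : Subgroup.centralizer ({z} : Set X)) : X) * (y : Subgroup.centralizer ({z} : Set X)) = _ * _
    rw [← hue, ← hve]
    exact (congrArg Subtype.val (Subgroup.mem_center_iff.1 hu v)).symm
  · have hfix : ∀ x ∈ P, z * x = x * z → x = 1 := by
      intro x hx hc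
      by_contra hx1
      let a : Subgroup.centralizer ({z} : Set X) := ⟨x, Subgroup.mem_centralizer_singleton_iff.2 hc.symm⟩
      exact hz (z_mem_of_inter h (hnorm P hP) (inter_le h hPn (Subgroup.mem_subgroupOf.2 hx) : a ∈ R) hx hx1)
    have hinv : ∀ c : X, IsConj z c → ∀ x ∈ P, c * x * c⁻¹ = x⁻¹ := by
      intro c hc x hx
      obtain ⟨g, rfl⟩ := isConj_iff.1 hc
      have h1 := inverts (z_sq h) (fun y hy => hP.conj_mem y hy z) hfix (g⁻¹ * x * g)
        (by simpa using hP.conj_mem x hx g⁻¹)
      calc g * z * g⁻¹ * x * (g * z * g⁻¹)⁻¹ = g * (z * (g⁻¹ * x * g) * z⁻¹) * g⁻¹ := by group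
        _ = x⁻¹ := by rw [h1]; group
    obtain ⟨q, r, -, -, hq, -, hrq⟩ := exists_partner h
    have hzq : IsConj z (z * (q : X)) := hrq ▸ hq.trans (isConj_iff.2 ⟨r, rfl⟩)
    refine hne ((Subgroup.eq_bot_iff_forall _).2 fun x hx => hfix x hx ?_)
    have h1 := hinv _ hzq x hx
    have h2 := hinv _ hq x hx
    have h3 := hinv _ (IsConj.refl z) x⁻¹ (P.inv_mem hx)
    have h4 : z * (q : X) * x * (z * (q : X))⁻¹ = z * ((q : X) * x * (q : X)⁻¹) * z⁻¹ := by group
    rw [h4, h2, h3, inv_inv] at h1
    -- now the element equals its inverse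
    have h5 := hinv z (IsConj.refl z) x hx
    rw [← h1, mul_inv_eq_iff_eq_mul] at h5
    exact h5

end Setting

/-- **The centraliser lies in the layer.** -/
theorem centralizer_le_layer {T : Type*} [Group T] [IsSimpleGroup T] [R.Normal]
    (h : IsExtraspecialCentralizerSetting z R 3) (e : (Subgroup.centralizer ({z} : Set X)) ⧸ R ≃* T)
    (hgen : ∀ a ∈ R, (a : X) ∈ Subgroup.closure {x : X | IsConj z x ∧
      ∃ hx : x ∈ Subgroup.centralizer ({z} : Set X), (⟨x, hx⟩ : Subgroup.centralizer ({z} : Set X)) ∈ R}) :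
    Subgroup.centralizer ({z} : Set X) ≤ layer X := by
  haveI : Fact (Nat.Prime 2) := ⟨Nat.prime_two⟩
  haveI hEn : (layer X).Normal := Components.layer_normal
  set E := layer X with hE
  have hF := fitting_bot h hgen
  have hFs : generalizedFittingSubgroup X = E := by rw [generalizedFittingSubgroup, hF, sup_bot_eq]
  have hcE : Subgroup.centralizer (E : Set X) = ⊥ := by
    have h1 := Components.centralizer_generalizedFitting_le (G := X)
    rw [hFs] at h1
    have h2 := Components.center_layer_eq (G := X)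
    rw [hF, bot_inf_eq, ← hE, inf_eq_right.2 h1] at h2
    exact h2
  have hEz : z ∈ E := by
    by_contra hz
    have hnorm : ∀ r ∈ R, ∀ x ∈ E, (r : X) * x * (r : X)⁻¹ ∈ E := fun r _ x hx => hEn.conj_mem x hx r
    have hfix : ∀ x ∈ E, z * x = x * z → x = 1 := by
      intro x hx hc
      by_contra hx1
      let a : Subgroup.centralizer ({z} : Set X) := ⟨x, Subgroup.mem_centralizer_singleton_iff.2 hc.symm⟩
      refine hz (z_mem_of_inter h hnorm (cent_R h ?_ : a ∈ R) hx hx1)
      refine Subgroup.mem_centralizer_iff.2 fun r hr => ?_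
      by_contra hne
      let c : Subgroup.centralizer ({z} : Set X) := ⁅r, a⁆
      have hcR : c ∈ R := by
        show r * a * r⁻¹ * a⁻¹ ∈ R
        rw [mul_assoc r a, mul_assoc r (a * r⁻¹)]
        exact R.mul_mem hr ((inferInstance : R.Normal).conj_mem _ (R.inv_mem hr) a)
      exact hz (z_mem_of_inter h hnorm hcR (E.mul_mem (hEn.conj_mem x hx r) (E.inv_mem hx))
        fun e1 => hne (commutatorElement_eq_one_iff_mul_comm.1 (Subtype.ext e1)))
    have hcomm := commute_of_inverts (inverts (z_sq h) (fun y hy => hEn.conj_mem y hy z) hfix)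
    have hle : E ≤ Subgroup.centralizer (E : Set X) := fun x hx => Subgroup.mem_centralizer_iff.2 fun y hy => hcomm y hy x hx
    rw [hcE, le_bot_iff] at hle
    rw [hle, Subgroup.coe_bot] at hcE
    have : z ∈ Subgroup.centralizer ({1} : Set X) := Subgroup.mem_centralizer_singleton_iff.2 (by simp)
    rw [hcE] at this
    exact z_ne h (Subgroup.mem_bot.1 this)
  have hRE : ∀ a ∈ R, (a : X) ∈ E := fun a ha => by
    refine (Subgroup.closure_le E).2 ?_ (hgen a ha)
    rintro x ⟨hx, -⟩
    obtain ⟨g, rfl⟩ := isConj_iff.1 hx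
    exact hEn.conj_mem z hEz g
  by_contra hnot
  -- the part of the layer centralising the involution is then the extraspecial subgroup
  set S := E.subgroupOf (Subgroup.centralizer ({z} : Set X)) with hS
  have hSR : S ≤ R := by
    haveI : Nontrivial ((Subgroup.centralizer ({z} : Set X)) ⧸ R) := e.toEquiv.nontrivial
    haveI : IsSimpleGroup ((Subgroup.centralizer ({z} : Set X)) ⧸ R) :=
      IsSimpleGroup.isSimpleGroup_of_surjective e.symm.toMonoidHom e.symm.surjective
    haveI : (S.map (QuotientGroup.mk' R)).Normal :=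
      Subgroup.Normal.map inferInstance _ (QuotientGroup.mk'_surjective R)
    rcases (inferInstance : (S.map (QuotientGroup.mk' R)).Normal).eq_bot_or_eq_top with h1 | h1
    · intro x hx
      have : (QuotientGroup.mk' R) x ∈ S.map (QuotientGroup.mk' R) := ⟨x, hx, rfl⟩
      rw [h1, Subgroup.mem_bot] at this
      exact (QuotientGroup.eq_one_iff x).1 this
    · refine absurd ?_ hnot
      intro x hx
      obtain ⟨s, hs, hse⟩ : (QuotientGroup.mk' R) ⟨x, hx⟩ ∈ S.map (QuotientGroup.mk' R) := h1 ▸ Subgroup.mem_top _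
      have hr : s⁻¹ * (⟨x, hx⟩ : Subgroup.centralizer ({z} : Set X)) ∈ R := QuotientGroup.eq.1 hse
      have : (s : X) * ((s : X)⁻¹ * x) ∈ E := E.mul_mem hs (hRE _ hr)
      rwa [mul_inv_cancel_left] at this
  -- every component contains the involution
  have hcomp : ∀ L : Subgroup X, IsComponent L → z ∈ L := by
    intro L hL
    by_contra hzL
    have hLE : L ≤ E := Components.component_le_layer hL
    have hnorm : ∀ y ∈ E, ∀ x ∈ L, y * x * y⁻¹ ∈ L := fun y hy x hx =>
      (Subgroup.mem_normalizer_iff.1 (Components.layer_le_normalizer_component hL hy) x).1 hx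
    have hfix : ∀ x ∈ L, z * x = x * z → x = 1 := by
      intro x hx hc
      by_contra hx1
      let a : Subgroup.centralizer ({z} : Set X) := ⟨x, Subgroup.mem_centralizer_singleton_iff.2 hc.symm⟩
      exact hzL (z_mem_of_inter h (fun r hr y hy => hnorm _ (hRE r hr) y hy)
        (hSR (Subgroup.mem_subgroupOf.2 (hLE hx)) : a ∈ R) hx hx1)
    have hcomm := commute_of_inverts (inverts (z_sq h) (fun y hy => hnorm z hEz y hy) hfix)
    exact Components.quasisimple_not_commutative hL.2
      ⟨⟨fun x y => Subtype.ext (hcomm x x.2 y y.2)⟩⟩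
  obtain ⟨L, hL⟩ : ∃ L : Subgroup X, IsComponent L := by
    by_contra hno
    push Not at hno
    have hbot : E = ⊥ := eq_bot_iff.2 (Components.layer_le_iff.2 fun L hL => absurd hL (hno L))
    rw [hbot, Subgroup.mem_bot] at hEz
    exact z_ne h hEz
  have hone : ∀ M : Subgroup X, IsComponent M → M = L := by
    intro M hM
    by_contra hne
    have hzc : z ∈ Subgroup.centralizer (E : Set X) := by
      refine Subgroup.mem_centralizer_iff.2 fun y hy => ?_
      have : E ≤ Subgroup.centralizer ({z} : Set X) := by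
        refine Components.layer_le_iff.2 fun K hK => ?_
        intro x hx
        refine Subgroup.mem_centralizer_singleton_iff.2 ?_
        rcases eq_or_ne K L with rfl | hKL
        · exact ((Subgroup.mem_centralizer_iff.1 ((Subgroup.commutator_eq_bot_iff_le_centralizer.1
            (Components.components_commute hM hK hne)) (hcomp M hM))) x hx)
        · exact ((Subgroup.mem_centralizer_iff.1 ((Subgroup.commutator_eq_bot_iff_le_centralizer.1
            (Components.components_commute hL hK hKL.symm)) (hcomp L hL))) x hx)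
      exact Subgroup.mem_centralizer_singleton_iff.1 (this hy)
    rw [hcE, Subgroup.mem_bot] at hzc
    exact z_ne h hzc
  have hEL : E = L := le_antisymm (Components.layer_le_iff.2 fun M hM => (hone M hM).le)
    (Components.component_le_layer hL)
  -- the layer is simple
  have hq : IsQuasisimple ↥E := hEL ▸ hL.2
  have hcen : Subgroup.center ↥E = ⊥ := by
    refine (Subgroup.eq_bot_iff_forall _).2 fun x hx => Subtype.ext ?_
    have : (x : X) ∈ Subgroup.centralizer (E : Set X) := Subgroup.mem_centralizer_iff.2 fun y hy =>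
      congrArg Subtype.val (Subgroup.mem_center_iff.1 hx ⟨y, hy⟩)
    rw [hcE, Subgroup.mem_bot] at this
    exact this
  haveI : IsSimpleGroup ↥E := by
    haveI := hq.2
    exact ((QuotientGroup.quotientMulEquivOfEq hcen).trans QuotientGroup.quotientBot).symm.isSimpleGroup
  set zE : E := ⟨z, hEz⟩ with hzE
  set Rc := Subgroup.centralizer ({zE} : Set E) with hRc
  have hRcmem : ∀ x : E, x ∈ Rc ↔ (x : X) * z = z * (x : X) := fun x => by
    rw [hRc, Subgroup.mem_centralizer_singleton_iff]
    exact ⟨fun h1 => congrArg Subtype.val h1, fun h1 => Subtype.ext h1⟩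
  let f : ↥R →* ↥Rc := MonoidHom.mk'
    (fun a => ⟨⟨(a.1 : X), hRE a.1 a.2⟩, (hRcmem _).2 (Subgroup.mem_centralizer_singleton_iff.1 a.1.2)⟩)
    fun a b => rfl
  have hfb : Function.Bijective f := by
    refine ⟨fun a b h1 => Subtype.ext (Subtype.ext (congrArg (fun w : Rc => ((w : E) : X)) h1)), fun w => ?_⟩
    let a : Subgroup.centralizer ({z} : Set X) :=
      ⟨(w : E), Subgroup.mem_centralizer_singleton_iff.2 ((hRcmem _).1 w.2)⟩
    exact ⟨⟨a, hSR (Subgroup.mem_subgroupOf.2 (w : E).2)⟩, rfl⟩
  let ι : ↥R ≃* ↥Rc := MulEquiv.ofBijective f hfb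
  have hxs : IsExtraspecial 2 ↥Rc := Qd.isExtraspecial_congr ι.symm h.2.2.1
  have hzRc : zE ∈ Rc := (hRcmem _).2 rfl
  have hcenRc : (Subgroup.center ↥Rc).map Rc.subtype = Subgroup.zpowers zE := by
    refine (Subgroup.eq_of_le_of_card_ge (Subgroup.zpowers_le.2 ?_) ?_).symm
    · exact ⟨⟨zE, hzRc⟩, Subgroup.mem_center_iff.2 fun y => Subtype.ext (Subgroup.mem_centralizer_singleton_iff.1 y.2), rfl⟩
    · rw [Subgroup.card_map_of_injective Rc.subtype_injective, hxs.2, Nat.card_zpowers, hzE, Subgroup.orderOf_mk, h.1]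
  let Sy : Sylow 2 ↥E :=
    { toSubgroup := Rc
      isPGroup' := hxs.1.1
      is_maximal' := by
        intro P hP hle
        haveI : Nontrivial ↥P := by
          refine ⟨⟨zE, hle hzRc⟩, 1, fun e1 => z_ne h ?_⟩
          exact congrArg (fun w : P => ((w : E) : X)) e1
        obtain ⟨⟨w, hw⟩, hw1⟩ := @exists_ne _ hP.center_nontrivial (1 : Subgroup.center ↥P)
        have hwc : ∀ y ∈ P, y * (w : E) = (w : E) * y := fun y hy =>
          congrArg Subtype.val (Subgroup.mem_center_iff.1 hw ⟨y, hy⟩)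
        have hwR : (w : E) ∈ Rc := Subgroup.mem_centralizer_singleton_iff.2 (hwc zE (hle hzRc)).symm
        have hwz : (w : E) ∈ (Subgroup.center ↥Rc).map Rc.subtype :=
          ⟨⟨w, hwR⟩, Subgroup.mem_center_iff.2 fun y => Subtype.ext (hwc _ (hle y.2)), rfl⟩
        rw [hcenRc, Subgroup.mem_zpowers_iff] at hwz
        obtain ⟨i, hi⟩ := hwz
        have hwe : (w : E) = zE := by
          rcases Int.even_or_odd' i with ⟨m, rfl | rfl⟩
          · exfalso
            rw [zpow_mul, show zE ^ (2 : ℤ) = 1 from Subtype.ext (by simpa [pow_two] using z_sq h), one_zpow] at hi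
            exact hw1 (Subtype.ext (Subtype.ext hi.symm))
          · rw [zpow_add, zpow_mul, show zE ^ (2 : ℤ) = 1 from Subtype.ext (by simpa [pow_two] using z_sq h),
              one_zpow, one_mul, zpow_one] at hi
            exact hi.symm
        exact le_antisymm (fun y hy => Subgroup.mem_centralizer_singleton_iff.2 (hwe ▸ hwc y hy)) hle }
  have hnab : ¬ IsMulCommutative ↥E := Components.quasisimple_not_commutative hq
  obtain ⟨d⟩ := S5435.result hnab zE (by rw [hzE, Subgroup.orderOf_mk, h.1]) Sy rfl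
    (by
      show (frattini ↥Rc).map Rc.subtype = _
      rw [hxs.1.2.1, hcenRc])
  have hc8 := Nat.card_congr d.toEquiv
  change Nat.card ↥Rc = _ at hc8
  rw [← Nat.card_congr ι.toEquiv, h.2.2.2.1, DihedralGroup.nat_card] at hc8
  norm_num at hc8

end Cfsg.Agent.MonsterT.HeldLayer
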