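/-
The second Conway group acts faithfully on a hyperplane of the Leech lattice modulo 13.
-/
import Cfsg.Agent.Lib.MonsterT.BabyStab
import Mathlib.LinearAlgebra.FreeModule.Finite.Basic
import Mathlib.LinearAlgebra.Matrix.GeneralLinearGroup.Defs
set_option autoImplicit false

namespace Cfsg.Agent.MonsterT

open Cfsg Cfsg.Agent.Golay Cfsg.Agent.Leech

/-- Reduction modulo 13. -/
def red13 (x : GolayPt → ℤ) : GolayPt → ZMod 13 := fun i => (x i : ZMod 13)

theorem eight_five : (8 : ZMod 13) * 5 = 1 := by decide

/-- The linear map modulo 13 of a lattice automorphism. -/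
noncomputable def lin13 (g : ↥Co0) : (GolayPt → ZMod 13) →ₗ[ZMod 13] (GolayPt → ZMod 13) :=
  Fintype.linearCombination (ZMod 13) fun i => (5 : ZMod 13) • red13 ((g • axis i : leechLattice) : GolayPt → ℤ)

theorem lin13_red (g : ↥Co0) (v : leechLattice) :
    lin13 g (red13 v) = red13 ((g • v : leechLattice) : GolayPt → ℤ) := by
  have e : (8 : ℤ) • v = ∑ i, (v : GolayPt → ℤ) i • axis i := by
    refine Subtype.ext (funext fun k => ?_)
    simp only [AddSubgroup.coe_zsmul, AddSubgroup.val_finset_sum, Pi.smul_apply, Finset.sum_apply,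
      coe_axis, Pi.single_apply, smul_eq_mul, mul_ite, mul_zero, Finset.sum_ite_eq, Finset.mem_univ, if_true]
    ring
  have e' : (8 : ℤ) • (g • v) = ∑ i, (v : GolayPt → ℤ) i • (g • axis i) := by
    rw [← hom0_apply, ← map_zsmul, e, map_sum]
    exact Finset.sum_congr rfl fun i _ => by rw [map_zsmul, hom0_apply]
  funext k
  have h := congrArg (Int.cast : ℤ → ZMod 13) (congrFun (congrArg Subtype.val e') k)
  simp only [AddSubgroup.coe_zsmul, AddSubgroup.val_finset_sum, Pi.smul_apply, Finset.sum_apply,
    smul_eq_mul, Int.cast_mul, Int.cast_sum] at h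
  simp only [lin13, Fintype.linearCombination_apply, Finset.sum_apply, Pi.smul_apply, smul_eq_mul, red13]
  calc ∑ i, ((v : GolayPt → ℤ) i : ZMod 13) * ((5 : ZMod 13) * (((g • axis i : leechLattice) : GolayPt → ℤ) k : ZMod 13))
      = 5 * ∑ i, ((v : GolayPt → ℤ) i : ZMod 13) * (((g • axis i : leechLattice) : GolayPt → ℤ) k : ZMod 13) := by
        rw [Finset.mul_sum]; exact Finset.sum_congr rfl fun i _ => by ring
    _ = 5 * ((8 : ZMod 13) * (((g • v : leechLattice) : GolayPt → ℤ) k : ZMod 13)) := by rw [← h]; norm_num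
    _ = _ := by rw [← mul_assoc, mul_comm (5 : ZMod 13), eight_five, one_mul]

theorem single_eq (i : GolayPt) : Pi.single i (1 : ZMod 13) = (5 : ZMod 13) • red13 (axis i : GolayPt → ℤ) := by
  funext k
  simp only [Pi.smul_apply, red13, coe_axis, Pi.single_apply, smul_eq_mul]
  split_ifs
  · decide
  · simp

theorem lin13_mul (g h : ↥Co0) : lin13 (g * h) = lin13 g * lin13 h := by
  refine LinearMap.pi_ext' fun i => LinearMap.ext_ring ?_
  show lin13 (g * h) (Pi.single i 1) = lin13 g (lin13 h (Pi.single i 1))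
  rw [single_eq, map_smul, map_smul, map_smul, lin13_red, lin13_red, lin13_red, mul_smul]

theorem lin13_one : lin13 1 = 1 := by
  refine LinearMap.pi_ext' fun i => LinearMap.ext_ring ?_
  show lin13 1 (Pi.single i 1) = Pi.single i 1
  rw [single_eq, map_smul, lin13_red, one_smul]

theorem axis_of_fix {g : ↥Co0} {i : GolayPt}
    (h : lin13 g (Pi.single i 1) = Pi.single i 1) : g • axis i = axis i := by
  rw [single_eq, map_smul, lin13_red] at h
  have h' : red13 ((g • axis i : leechLattice) : GolayPt → ℤ) = red13 (axis i : GolayPt → ℤ) := by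
    have := congrArg (fun x => (8 : ZMod 13) • x) h
    simpa [smul_smul, eight_five] using this
  set x := ((g • axis i : leechLattice) : GolayPt → ℤ) with hx
  have hn : ∑ k, x k ^ 2 = 64 := by
    have := co0_norm g (axis i)
    rw [sqNorm, sqNorm, coe_axis] at this
    rw [this, Finset.sum_eq_single i (fun k _ hk => by simp [hk]) (by simp)]
    simp
  have hb : ∀ k, -9 < x k ∧ x k < 9 := fun k => by
    have : x k ^ 2 ≤ 64 := hn ▸ Finset.single_le_sum (f := fun k => x k ^ 2) (fun k _ => sq_nonneg _) (Finset.mem_univ k)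
    constructor <;> nlinarith
  have hk : ∀ k, k ≠ i → x k = 0 := fun k hki => by
    have := congrFun h' k
    simp only [red13, coe_axis, Pi.single_apply, if_neg hki, Int.cast_zero] at this
    obtain ⟨m, hm⟩ := (ZMod.intCast_zmod_eq_zero_iff_dvd _ 13).1 this
    have := hb k; push_cast at hm; omega
  have hi : x i = 8 := by
    have := congrFun h' i
    simp only [red13, coe_axis, Pi.single_eq_same] at this
    obtain ⟨m, hm⟩ := (ZMod.intCast_eq_intCast_iff_dvd_sub _ _ 13).1 this
    rw [Finset.sum_eq_single i (fun k _ hk' => by rw [hk k hk']; ring) (by simp)] at hn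
    have := hb i; push_cast at hm
    have hm' : x i = 8 ∨ x i = -5 := by omega
    rcases hm' with r | r
    · exact r
    · rw [r] at hn; norm_num at hn
  refine Subtype.ext (funext fun k => ?_)
  rw [coe_axis, Pi.single_apply]
  split_ifs with r
  · rw [r]; exact hi
  · exact hk k r

/-- The vector fixed by the group. -/
def u13 : GolayPt → ZMod 13 := red13 (pairVec : GolayPt → ℤ)

/-- The linear form of the pair vector. -/
noncomputable def form13 : (GolayPt → ZMod 13) →ₗ[ZMod 13] ZMod 13 :=
  LinearMap.proj (R := ZMod 13) (φ := fun _ : GolayPt => ZMod 13) none +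
    LinearMap.proj (R := ZMod 13) (φ := fun _ : GolayPt => ZMod 13) (some 0)

theorem form13_inv (g : ↥Spor.Co2) (x : GolayPt → ZMod 13) : form13 (lin13 (co2To0 g) x) = form13 x := by
  refine LinearMap.congr_fun (show form13.comp (lin13 (co2To0 g)) = form13 from
    LinearMap.pi_ext' fun i => LinearMap.ext_ring ?_) x
  show form13 (lin13 (co2To0 g) (Pi.single i 1)) = form13 (Pi.single i 1)
  rw [single_eq, map_smul, map_smul, map_smul, lin13_red]
  congr 1
  have h := co0_dot (co2To0 g) (axis i) Spor.leechU
  rw [co2To0_fix] at h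
  have key : ∀ y : GolayPt → ℤ, dotInt y Spor.vecU = 4 * (y none + y (some 0)) := by
    intro y
    rw [show Spor.vecU = (pairVec : GolayPt → ℤ) from congrArg Subtype.val leechU_eq,
      show (pairVec : GolayPt → ℤ) = Pi.single none 4 + Pi.single (some 0) 4 from by simp [pairVec, pairV],
      dotInt_comm, dotInt_add_left, dotInt_comm, dot_single, dotInt_comm, dot_single]
    ring
  change dotInt _ Spor.vecU = dotInt _ Spor.vecU at h
  rw [key, key] at h
  show (((co2To0 g • axis i : leechLattice) : GolayPt → ℤ) none : ZMod 13) +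
      (((co2To0 g • axis i : leechLattice) : GolayPt → ℤ) (some 0) : ZMod 13) =
    ((axis i : GolayPt → ℤ) none : ZMod 13) + ((axis i : GolayPt → ℤ) (some 0) : ZMod 13)
  rw [← Int.cast_add, ← Int.cast_add]
  congr 1
  omega

/-- The action on the hyperplane. -/
noncomputable def hyp13 : ↥Spor.Co2 →* (↥(LinearMap.ker form13) →ₗ[ZMod 13] ↥(LinearMap.ker form13)) where
  toFun g := (lin13 (co2To0 g)).restrict fun x hx => by
    rw [LinearMap.mem_ker] at hx ⊢; rw [form13_inv, hx]
  map_one' := LinearMap.ext fun x => Subtype.ext (by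
    show lin13 (co2To0 1) x.1 = x.1
    rw [map_one, lin13_one]; rfl)
  map_mul' g h := LinearMap.ext fun x => Subtype.ext (by
    show lin13 (co2To0 (g * h)) x.1 = lin13 (co2To0 g) (lin13 (co2To0 h) x.1)
    rw [map_mul, lin13_mul]; rfl)

theorem hyp13_apply (g : ↥Spor.Co2) (x : ↥(LinearMap.ker form13)) :
    ((hyp13 g x : ↥(LinearMap.ker form13)) : GolayPt → ZMod 13) = lin13 (co2To0 g) x.1 :=
  LinearMap.restrict_coe_apply (lin13 (co2To0 g))
    (fun y hy => by rw [LinearMap.mem_ker] at hy ⊢; rw [form13_inv, hy]) x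

theorem hyp13_injective : Function.Injective hyp13 := by
  rw [injective_iff_map_eq_one]
  intro g hg
  have hu : lin13 (co2To0 g) u13 = u13 := by
    rw [u13, lin13_red, ← leechU_eq, co2To0_fix]
  have hfix : ∀ x : GolayPt → ZMod 13, form13 x = 0 → lin13 (co2To0 g) x = x := fun x hx => by
    have h := hyp13_apply g ⟨x, LinearMap.mem_ker.2 hx⟩
    rw [hg, Module.End.one_apply] at h
    exact h.symm
  have hfu : form13 u13 = 8 := by
    show ((pairVec : GolayPt → ℤ) none : ZMod 13) + ((pairVec : GolayPt → ℤ) (some 0) : ZMod 13) = 8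
    obtain ⟨e1, e2⟩ := pair_pos (a := none) (b := some 0) (Or.inl rfl) (Or.inr rfl)
    rw [e1, e2]; decide
  refine co2To0_injective (co0_ext fun i => ?_)
  rw [map_one, one_smul]
  refine axis_of_fix ?_
  set y : GolayPt → ZMod 13 := Pi.single i 1 with hy
  have hz : form13 (y - (5 * form13 y) • u13) = 0 := by
    rw [map_sub, map_smul, hfu, smul_eq_mul, mul_comm (5 : ZMod 13), mul_assoc, mul_comm (5 : ZMod 13) 8,
      eight_five, mul_one, sub_self]
  have := hfix _ hz
  rwa [map_sub, map_smul, hu, sub_left_inj] at this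

theorem exists_co2_gl23 : ∃ f : ↥Spor.Co2 →* GL (Fin 23) (ZMod 13), Function.Injective f := by
  haveI : Fact (Nat.Prime 13) := ⟨by norm_num⟩
  have hfr : Module.finrank (ZMod 13) ↥(LinearMap.ker form13) = 23 := by
    have h := LinearMap.finrank_range_add_finrank_ker form13
    have hs : Function.Surjective form13 := fun a => ⟨Pi.single none a, by simp [form13]⟩
    rw [LinearMap.range_eq_top.2 hs, finrank_top, Module.finrank_self, Module.finrank_pi] at h
    rw [show Fintype.card GolayPt = 24 from rfl] at h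
    omega
  let b := Module.finBasisOfFinrankEq (ZMod 13) ↥(LinearMap.ker form13) hfr
  refine ⟨(Units.map (LinearMap.toMatrixAlgEquiv b).toRingEquiv.toMonoidHom).comp hyp13.toHomUnits, ?_⟩
  intro g h e
  refine hyp13_injective ((LinearMap.toMatrixAlgEquiv b).injective ?_)
  exact congrArg Units.val e

end Cfsg.Agent.MonsterT
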