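import Cfsg.Agent.Lib.Leech.MatCert

/-!
Data for the centralizer of an element of order seven with three fixed points in the lattice group.
-/

set_option autoImplicit false

namespace Cfsg.Agent.MonsterT.Seven

/-- Representatives of the fixed classes. -/
def reps : List (List ℤ) := [
  [0, 0, 0, 0, 0, 0, 0, 0, 0, 0, 0, 0, 0, 0, 0, 0, 0, 0, 0, 0, 0, 0, 0, 0],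
  [0, 0, 0, 0, 0, 0, 0, 0, 0, 0, 0, 0, 0, 0, 0, 0, 0, 0, 0, 0, 0, 0, 0, 8],
  [-2, -2, -2, -2, 0, -2, 2, 0, -2, 0, -2, 0, -2, -2, 2, -2, 0, -2, 0, 0, 0, -2, -2, -2],
  [-2, -2, -2, -2, 0, -2, -2, 0, 2, 0, 2, 0, 2, 2, 2, 2, 0, -2, 0, 0, 0, 2, 2, -2],
  [-2, -2, -2, -2, -2, -2, 0, -2, 0, -2, 0, -2, 0, 0, 2, 0, -2, -2, 2, -2, -2, 0, 0, -2],
  [-2, -2, -2, -2, 2, -2, 0, 2, 0, 2, 0, 2, 0, 0, 2, 0, 2, -2, -2, 2, 2, 0, 0, -2],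
  [-2, -2, -2, -2, 0, -2, -4, 0, 0, 0, 0, 0, 0, 0, -2, 0, 0, -2, -4, 0, 0, 0, 0, -2],
  [-2, -2, -2, -2, 0, -2, -4, 0, 0, 0, 0, 0, 0, 0, -2, 0, 0, -2, 4, 0, 0, 0, 0, -2],
  [-2, -2, -2, -2, 0, -2, -2, 0, -2, 0, -2, 0, -2, -2, -2, -2, 0, -2, 0, 0, 0, -2, -2, -2],
  [0, 0, 0, 0, -2, 0, 0, -2, 0, -2, 0, -2, 0, 0, 0, 0, -2, 0, -2, -2, -2, 0, 0, 0],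
  [0, 0, 0, 0, 0, 0, -4, 0, 0, 0, 0, 0, 0, 0, -4, 0, 0, 0, 0, 0, 0, 0, 0, 0],
  [0, 0, 0, 0, 0, 0, -4, 0, 0, 0, 0, 0, 0, 0, 4, 0, 0, 0, 0, 0, 0, 0, 0, 0],
  [-2, -2, -2, -2, 0, -2, 0, 0, 0, 0, 0, 0, 0, 0, 2, 0, 0, -2, -4, 0, 0, 0, 0, -2],
  [-2, -2, -2, -2, 0, -2, 0, 0, 0, 0, 0, 0, 0, 0, 2, 0, 0, -2, 4, 0, 0, 0, 0, -2],
  [0, 0, 0, 0, 0, 0, -2, 0, 2, 0, 2, 0, 2, 2, 0, 2, 0, 0, -4, 0, 0, 2, 2, 0],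
  [0, 0, 0, 0, 0, 0, -2, 0, 2, 0, 2, 0, 2, 2, 0, 2, 0, 0, 4, 0, 0, 2, 2, 0],
  [-2, -2, -2, -2, -2, -2, 0, -2, 0, -2, 0, -2, 0, 0, -2, 0, -2, -2, -2, -2, -2, 0, 0, -2],
  [0, 0, 0, 0, 0, 0, -2, 0, -2, 0, -2, 0, -2, -2, 0, -2, 0, 0, 0, 0, 0, -2, -2, 0],
  [-2, -2, -2, -2, 0, -2, -4, 0, 0, 0, 0, 0, 0, 0, 2, 0, 0, -2, 0, 0, 0, 0, 0, -2],
  [-2, -2, -2, -2, 0, -2, 4, 0, 0, 0, 0, 0, 0, 0, 2, 0, 0, -2, 0, 0, 0, 0, 0, -2],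
  [0, 0, 0, 0, 0, 0, 0, 0, 0, 0, 0, 0, 0, 0, -4, 0, 0, 0, -4, 0, 0, 0, 0, 0],
  [0, 0, 0, 0, 0, 0, 0, 0, 0, 0, 0, 0, 0, 0, -4, 0, 0, 0, 4, 0, 0, 0, 0, 0],
  [0, 0, 0, 0, -2, 0, 4, -2, 0, -2, 0, -2, 0, 0, 0, 0, -2, 0, 2, -2, -2, 0, 0, 0],
  [0, 0, 0, 0, -2, 0, -4, -2, 0, -2, 0, -2, 0, 0, 0, 0, -2, 0, 2, -2, -2, 0, 0, 0],
  [-2, -2, -2, -2, 0, -2, 0, 0, 0, 0, 0, 0, 0, 0, 6, 0, 0, -2, 0, 0, 0, 0, 0, -2],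
  [-2, -2, -2, -2, 0, -2, 0, 0, 0, 0, 0, 0, 0, 0, -2, 0, 0, -2, 0, 0, 0, 0, 0, -2],
  [0, 0, 0, 0, 0, 0, -2, 0, 2, 0, 2, 0, 2, 2, 4, 2, 0, 0, 0, 0, 0, 2, 2, 0],
  [0, 0, 0, 0, 0, 0, -2, 0, 2, 0, 2, 0, 2, 2, -4, 2, 0, 0, 0, 0, 0, 2, 2, 0],
  [0, 0, 0, 0, -2, 0, 0, -2, 0, -2, 0, -2, 0, 0, -4, 0, -2, 0, 2, -2, -2, 0, 0, 0],
  [0, 0, 0, 0, -2, 0, 0, -2, 0, -2, 0, -2, 0, 0, 4, 0, -2, 0, 2, -2, -2, 0, 0, 0],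
  [0, 0, 0, 0, 0, 0, -4, 0, 0, 0, 0, 0, 0, 0, 0, 0, 0, 0, 4, 0, 0, 0, 0, 0],
  [0, 0, 0, 0, 0, 0, -4, 0, 0, 0, 0, 0, 0, 0, 0, 0, 0, 0, -4, 0, 0, 0, 0, 0],
  [-1, -1, -1, -1, 1, -1, -3, 1, 1, 1, 1, 1, 1, 1, -5, 1, 1, -1, -3, 1, 1, 1, 1, -1],
  [-1, -1, -1, -1, 1, -1, -3, 1, 1, 1, 1, 1, 1, 1, 3, 1, 1, -1, -3, 1, 1, 1, 1, -1],
  [-1, -1, -1, -1, -1, -1, 1, -1, 1, -1, 1, -1, 1, 1, -1, 1, -1, -1, 3, -1, -1, 1, 1, -1],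
  [-1, -1, -1, -1, -1, -1, 1, -1, 1, -1, 1, -1, 1, 1, -1, 1, -1, -1, -5, -1, -1, 1, 1, -1],
  [-1, -1, -1, -1, 1, -1, 3, 1, -1, 1, -1, 1, -1, -1, -1, -1, 1, -1, 1, 1, 1, -1, -1, -1],
  [-1, -1, -1, -1, 1, -1, -5, 1, -1, 1, -1, 1, -1, -1, -1, -1, 1, -1, 1, 1, 1, -1, -1, -1],
  [-1, -1, -1, -1, -1, -1, -1, -1, -1, -1, -1, -1, -1, -1, 3, -1, -1, -1, -1, -1, -1, -1, -1, -1],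
  [-1, -1, -1, -1, -1, -1, -1, -1, -1, -1, -1, -1, -1, -1, -5, -1, -1, -1, -1, -1, -1, -1, -1, -1],
  [-1, -1, -1, -1, -1, -1, -3, -1, 1, -1, 1, -1, 1, 1, -5, 1, -1, -1, 3, -1, -1, 1, 1, -1],
  [-1, -1, -1, -1, -1, -1, -3, -1, 1, -1, 1, -1, 1, 1, 3, 1, -1, -1, 3, -1, -1, 1, 1, -1],
  [-1, -1, -1, -1, 1, -1, 1, 1, 1, 1, 1, 1, 1, 1, -1, 1, 1, -1, -3, 1, 1, 1, 1, -1],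
  [-1, -1, -1, -1, 1, -1, 1, 1, 1, 1, 1, 1, 1, 1, -1, 1, 1, -1, 5, 1, 1, 1, 1, -1],
  [-1, -1, -1, -1, -1, -1, -5, -1, -1, -1, -1, -1, -1, -1, -1, -1, -1, -1, -1, -1, -1, -1, -1, -1],
  [-1, -1, -1, -1, -1, -1, 3, -1, -1, -1, -1, -1, -1, -1, -1, -1, -1, -1, -1, -1, -1, -1, -1, -1],
  [-1, -1, -1, -1, 1, -1, -1, 1, -1, 1, -1, 1, -1, -1, -5, -1, 1, -1, 1, 1, 1, -1, -1, -1],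
  [-1, -1, -1, -1, 1, -1, -1, 1, -1, 1, -1, 1, -1, -1, 3, -1, 1, -1, 1, 1, 1, -1, -1, -1],
  [-1, -1, -1, -1, 1, -1, -5, 1, -1, 1, -1, 1, -1, -1, 3, -1, 1, -1, -3, 1, 1, -1, -1, -1],
  [-1, -1, -1, -1, 1, -1, 3, 1, -1, 1, -1, 1, -1, -1, 3, -1, 1, -1, -3, 1, 1, -1, -1, -1],
  [-1, -1, -1, -1, -1, -1, -1, -1, -1, -1, -1, -1, -1, -1, -1, -1, -1, -1, -5, -1, -1, -1, -1, -1],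
  [-1, -1, -1, -1, -1, -1, -1, -1, -1, -1, -1, -1, -1, -1, -1, -1, -1, -1, 3, -1, -1, -1, -1, -1],
  [-1, -1, -1, -1, 1, -1, -3, 1, 1, 1, 1, 1, 1, 1, -1, 1, 1, -1, 1, 1, 1, 1, 1, -1],
  [-1, -1, -1, -1, 1, -1, 5, 1, 1, 1, 1, 1, 1, 1, -1, 1, 1, -1, 1, 1, 1, 1, 1, -1],
  [-1, -1, -1, -1, -1, -1, 1, -1, 1, -1, 1, -1, 1, 1, -5, 1, -1, -1, -1, -1, -1, 1, 1, -1],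
  [-1, -1, -1, -1, -1, -1, 1, -1, 1, -1, 1, -1, 1, 1, 3, 1, -1, -1, -1, -1, -1, 1, 1, -1],
  [-1, -1, -1, -1, -1, -1, -5, -1, -1, -1, -1, -1, -1, -1, 3, -1, -1, -1, 3, -1, -1, -1, -1, -1],
  [-1, -1, -1, -1, -1, -1, 3, -1, -1, -1, -1, -1, -1, -1, 3, -1, -1, -1, 3, -1, -1, -1, -1, -1],
  [-1, -1, -1, -1, 1, -1, -1, 1, -1, 1, -1, 1, -1, -1, -1, -1, 1, -1, 5, 1, 1, -1, -1, -1],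
  [-1, -1, -1, -1, 1, -1, -1, 1, -1, 1, -1, 1, -1, -1, -1, -1, 1, -1, -3, 1, 1, -1, -1, -1],
  [-1, -1, -1, -1, -1, -1, 5, -1, 1, -1, 1, -1, 1, 1, -1, 1, -1, -1, -1, -1, -1, 1, 1, -1],
  [-1, -1, -1, -1, -1, -1, -3, -1, 1, -1, 1, -1, 1, 1, -1, 1, -1, -1, -1, -1, -1, 1, 1, -1],
  [-1, -1, -1, -1, 1, -1, 1, 1, 1, 1, 1, 1, 1, 1, 3, 1, 1, -1, 1, 1, 1, 1, 1, -1],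
  [-1, -1, -1, -1, 1, -1, 1, 1, 1, 1, 1, 1, 1, 1, -5, 1, 1, -1, 1, 1, 1, 1, 1, -1]]

/-- The classes of the orbit sums of the generators. -/
def cover : List ℕ := [38, 15, 15, 4, 11, 26, 6, 0, 11, 4, 22, 30, 30, 1, 1, 1, 1, 20, 1, 10, 20, 10, 20, 10, 20, 10, 10, 1, 10, 20, 1, 20, 20, 20, 10, 10, 1]

/-- A generator. -/
def gMat2 : List (List ℤ) := [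
  [8, 0, 0, 0, 0, 0, 0, 0, 0, 0, 0, 0, 0, 0, 0, 0, 0, 0, 0, 0, 0, 0, 0, 0],
  [0, 8, 0, 0, 0, 0, 0, 0, 0, 0, 0, 0, 0, 0, 0, 0, 0, 0, 0, 0, 0, 0, 0, 0],
  [0, 0, 8, 0, 0, 0, 0, 0, 0, 0, 0, 0, 0, 0, 0, 0, 0, 0, 0, 0, 0, 0, 0, 0],
  [0, 0, 0, 8, 0, 0, 0, 0, 0, 0, 0, 0, 0, 0, 0, 0, 0, 0, 0, 0, 0, 0, 0, 0],
  [0, 0, 0, 0, 0, 0, 0, 0, 0, 0, 0, 0, 0, 0, 0, 8, 0, 0, 0, 0, 0, 0, 0, 0],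
  [0, 0, 0, 0, 0, 8, 0, 0, 0, 0, 0, 0, 0, 0, 0, 0, 0, 0, 0, 0, 0, 0, 0, 0],
  [0, 0, 0, 0, 0, 0, 0, 0, 0, 0, 0, 0, 0, 0, 0, 0, 0, 0, 8, 0, 0, 0, 0, 0],
  [0, 0, 0, 0, 0, 0, 0, 0, 8, 0, 0, 0, 0, 0, 0, 0, 0, 0, 0, 0, 0, 0, 0, 0],
  [0, 0, 0, 0, 0, 0, 0, 8, 0, 0, 0, 0, 0, 0, 0, 0, 0, 0, 0, 0, 0, 0, 0, 0],
  [0, 0, 0, 0, 0, 0, 0, 0, 0, 0, 0, 0, 0, 8, 0, 0, 0, 0, 0, 0, 0, 0, 0, 0],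
  [0, 0, 0, 0, 0, 0, 0, 0, 0, 0, 0, 0, 0, 0, 0, 0, 8, 0, 0, 0, 0, 0, 0, 0],
  [0, 0, 0, 0, 0, 0, 0, 0, 0, 0, 0, 0, 0, 0, 0, 0, 0, 0, 0, 0, 0, 8, 0, 0],
  [0, 0, 0, 0, 0, 0, 0, 0, 0, 0, 0, 0, 0, 0, 0, 0, 0, 0, 0, 8, 0, 0, 0, 0],
  [0, 0, 0, 0, 0, 0, 0, 0, 0, 8, 0, 0, 0, 0, 0, 0, 0, 0, 0, 0, 0, 0, 0, 0],
  [0, 0, 0, 0, 0, 0, 0, 0, 0, 0, 0, 0, 0, 0, 8, 0, 0, 0, 0, 0, 0, 0, 0, 0],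
  [0, 0, 0, 0, 8, 0, 0, 0, 0, 0, 0, 0, 0, 0, 0, 0, 0, 0, 0, 0, 0, 0, 0, 0],
  [0, 0, 0, 0, 0, 0, 0, 0, 0, 0, 8, 0, 0, 0, 0, 0, 0, 0, 0, 0, 0, 0, 0, 0],
  [0, 0, 0, 0, 0, 0, 0, 0, 0, 0, 0, 0, 0, 0, 0, 0, 0, 8, 0, 0, 0, 0, 0, 0],
  [0, 0, 0, 0, 0, 0, 8, 0, 0, 0, 0, 0, 0, 0, 0, 0, 0, 0, 0, 0, 0, 0, 0, 0],
  [0, 0, 0, 0, 0, 0, 0, 0, 0, 0, 0, 0, 8, 0, 0, 0, 0, 0, 0, 0, 0, 0, 0, 0],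
  [0, 0, 0, 0, 0, 0, 0, 0, 0, 0, 0, 0, 0, 0, 0, 0, 0, 0, 0, 0, 0, 0, 8, 0],
  [0, 0, 0, 0, 0, 0, 0, 0, 0, 0, 0, 8, 0, 0, 0, 0, 0, 0, 0, 0, 0, 0, 0, 0],
  [0, 0, 0, 0, 0, 0, 0, 0, 0, 0, 0, 0, 0, 0, 0, 0, 0, 0, 0, 0, 8, 0, 0, 0],
  [0, 0, 0, 0, 0, 0, 0, 0, 0, 0, 0, 0, 0, 0, 0, 0, 0, 0, 0, 0, 0, 0, 0, 8]]

/-- Its action. -/
def gImg2 : List ℕ := [0, 1, 4, 5, 2, 3, 6, 7]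

/-- A generator. -/
def gMat3 : List (List ℤ) := [
  [0, 0, 0, 0, 0, 0, 0, 0, 0, 0, 0, 0, 0, 0, 0, 0, 0, 0, 0, 0, 0, 0, 8, 0],
  [0, 0, 0, 0, 0, 0, 0, 0, 0, 0, 8, 0, 0, 0, 0, 0, 0, 0, 0, 0, 0, 0, 0, 0],
  [0, 0, 0, 0, 0, 0, 0, 0, 0, 0, 0, 0, 0, 0, 0, 8, 0, 0, 0, 0, 0, 0, 0, 0],
  [0, 0, 0, 0, 0, 0, 0, 0, 8, 0, 0, 0, 0, 0, 0, 0, 0, 0, 0, 0, 0, 0, 0, 0],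
  [0, 0, 0, 0, 0, 8, 0, 0, 0, 0, 0, 0, 0, 0, 0, 0, 0, 0, 0, 0, 0, 0, 0, 0],
  [0, 0, 0, 0, 0, 0, 0, 0, 0, 0, 0, 0, 0, 8, 0, 0, 0, 0, 0, 0, 0, 0, 0, 0],
  [0, 0, 0, 0, 0, 0, 0, 0, 0, 0, 0, 0, 0, 0, 0, 0, 0, 0, 8, 0, 0, 0, 0, 0],
  [0, 0, 0, 0, 0, 0, 0, 0, 0, 0, 0, 0, 0, 0, 0, 0, 0, 8, 0, 0, 0, 0, 0, 0],
  [0, 0, 0, 0, 0, 0, 0, 0, 0, 8, 0, 0, 0, 0, 0, 0, 0, 0, 0, 0, 0, 0, 0, 0],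
  [0, 0, 0, 0, 0, 0, 0, 0, 0, 0, 0, 0, 0, 0, 0, 0, 0, 0, 0, 0, 0, 0, 0, 8],
  [0, 0, 0, 0, 8, 0, 0, 0, 0, 0, 0, 0, 0, 0, 0, 0, 0, 0, 0, 0, 0, 0, 0, 0],
  [0, 8, 0, 0, 0, 0, 0, 0, 0, 0, 0, 0, 0, 0, 0, 0, 0, 0, 0, 0, 0, 0, 0, 0],
  [0, 0, 0, 0, 0, 0, 0, 0, 0, 0, 0, 8, 0, 0, 0, 0, 0, 0, 0, 0, 0, 0, 0, 0],
  [0, 0, 0, 0, 0, 0, 0, 0, 0, 0, 0, 0, 0, 0, 0, 0, 0, 0, 0, 8, 0, 0, 0, 0],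
  [0, 0, 0, 0, 0, 0, 8, 0, 0, 0, 0, 0, 0, 0, 0, 0, 0, 0, 0, 0, 0, 0, 0, 0],
  [0, 0, 0, 0, 0, 0, 0, 8, 0, 0, 0, 0, 0, 0, 0, 0, 0, 0, 0, 0, 0, 0, 0, 0],
  [0, 0, 0, 8, 0, 0, 0, 0, 0, 0, 0, 0, 0, 0, 0, 0, 0, 0, 0, 0, 0, 0, 0, 0],
  [0, 0, 0, 0, 0, 0, 0, 0, 0, 0, 0, 0, 8, 0, 0, 0, 0, 0, 0, 0, 0, 0, 0, 0],
  [0, 0, 0, 0, 0, 0, 0, 0, 0, 0, 0, 0, 0, 0, 8, 0, 0, 0, 0, 0, 0, 0, 0, 0],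
  [8, 0, 0, 0, 0, 0, 0, 0, 0, 0, 0, 0, 0, 0, 0, 0, 0, 0, 0, 0, 0, 0, 0, 0],
  [0, 0, 8, 0, 0, 0, 0, 0, 0, 0, 0, 0, 0, 0, 0, 0, 0, 0, 0, 0, 0, 0, 0, 0],
  [0, 0, 0, 0, 0, 0, 0, 0, 0, 0, 0, 0, 0, 0, 0, 0, 0, 0, 0, 0, 8, 0, 0, 0],
  [0, 0, 0, 0, 0, 0, 0, 0, 0, 0, 0, 0, 0, 0, 0, 0, 8, 0, 0, 0, 0, 0, 0, 0],
  [0, 0, 0, 0, 0, 0, 0, 0, 0, 0, 0, 0, 0, 0, 0, 0, 0, 0, 0, 0, 0, 8, 0, 0]]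

/-- Its action. -/
def gImg3 : List ℕ := [0, 1, 4, 5, 7, 6, 3, 2]

/-- A generator. -/
def gMat7 : List (List ℤ) := [
  [-4, 0, 0, 0, 0, 0, -2, 0, -2, 0, -2, -4, 2, 2, 0, 2, 0, 0, 0, 0, 0, 2, -2, 0],
  [0, -4, 0, 0, 0, 0, -2, 0, 2, 0, -2, 0, 2, -2, 0, -2, 0, 0, 0, 0, -4, 2, 2, 0],
  [0, 0, -4, 0, 0, 0, -2, 0, -2, 0, 2, 0, -2, 2, 0, -2, -4, 0, 0, 0, 0, 2, 2, 0],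
  [0, 0, 0, -4, -4, 0, -2, 0, -2, 0, 2, 0, 2, -2, 0, 2, 0, 0, 0, 0, 0, -2, 2, 0],
  [-2, 2, 2, -2, 2, -2, 0, 2, 0, 2, 0, 2, 0, 0, -2, 0, -2, -2, 2, -2, -2, 0, 0, 2],
  [0, 0, 0, 0, 0, -4, -2, -4, 2, 0, 2, 0, -2, -2, 0, 2, 0, 0, 0, 0, 0, 2, -2, 0],
  [0, 0, 0, 0, 0, 0, -2, 0, -2, 0, -2, 0, -2, -2, -4, -2, 0, 0, -4, 0, 0, -2, -2, 0],
  [2, -2, 2, 2, -2, -2, 0, 2, 0, 2, 0, -2, 0, 0, -2, 0, -2, -2, 2, 2, 2, 0, 0, -2],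
  [0, 0, 0, 0, 0, -4, 2, -4, -2, 0, -2, 0, 2, 2, 0, -2, 0, 0, 0, 0, 0, -2, 2, 0],
  [-2, 2, -2, 2, -2, 2, 0, -2, 0, 2, 0, 2, 0, 0, -2, 0, 2, -2, 2, 2, -2, 0, 0, -2],
  [0, 0, -4, 0, 0, 0, 2, 0, 2, 0, -2, 0, 2, -2, 0, 2, -4, 0, 0, 0, 0, -2, -2, 0],
  [-2, -2, -2, 2, -2, -2, 0, 2, 0, -2, 0, 2, 0, 0, -2, 0, 2, 2, 2, -2, 2, 0, 0, 2],
  [0, 0, 0, 0, 0, 0, 2, 0, -2, 0, -2, 0, -2, -2, 0, 2, 0, 0, 0, -4, 0, 2, 2, -4],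
  [0, 0, 0, 0, 0, 0, 2, 0, -2, -4, 2, 0, 2, -2, 0, -2, 0, -4, 0, 0, 0, 2, -2, 0],
  [0, 0, 0, 0, 0, 0, 2, 0, 2, 0, 2, 0, 2, 2, -4, 2, 0, 0, -4, 0, 0, 2, 2, 0],
  [0, 0, 0, -4, -4, 0, 2, 0, 2, 0, -2, 0, -2, 2, 0, -2, 0, 0, 0, 0, 0, 2, -2, 0],
  [2, 2, -2, -2, 2, -2, 0, 2, 0, -2, 0, -2, 0, 0, -2, 0, 2, 2, 2, 2, -2, 0, 0, -2],
  [0, 0, 0, 0, 0, 0, -2, 0, 2, -4, -2, 0, -2, 2, 0, 2, 0, -4, 0, 0, 0, -2, 2, 0],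
  [2, 2, 2, 2, -2, 2, 0, -2, 0, -2, 0, -2, 0, 0, -2, 0, -2, 2, 2, -2, -2, 0, 0, 2],
  [-2, -2, 2, -2, 2, 2, 0, -2, 0, -2, 0, 2, 0, 0, -2, 0, -2, 2, 2, 2, 2, 0, 0, -2],
  [2, -2, -2, -2, 2, 2, 0, -2, 0, 2, 0, -2, 0, 0, -2, 0, 2, -2, 2, -2, 2, 0, 0, 2],
  [-4, 0, 0, 0, 0, 0, 2, 0, 2, 0, 2, -4, -2, -2, 0, -2, 0, 0, 0, 0, 0, -2, 2, 0],
  [0, -4, 0, 0, 0, 0, 2, 0, -2, 0, 2, 0, -2, 2, 0, 2, 0, 0, 0, 0, -4, -2, -2, 0],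
  [0, 0, 0, 0, 0, 0, -2, 0, 2, 0, 2, 0, 2, 2, 0, -2, 0, 0, 0, -4, 0, -2, -2, -4]]

/-- Its action. -/
def gImg7 : List ℕ := [0, 3, 5, 6, 2, 1, 7, 4]

/-- An inverting element. -/
def uMat : List (List ℤ) := [
  [2, 2, 2, -2, 0, 2, -2, 0, 2, 0, 2, 0, -2, -2, -2, -2, 0, -2, 0, 0, 0, 2, 2, -2],
  [2, 2, -2, 2, 0, -2, -2, 0, -2, 0, -2, 0, 2, -2, -2, 2, 0, -2, 0, 0, 0, 2, 2, 2],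
  [2, -2, 2, -2, 0, -2, -2, 0, -2, 0, 2, 0, 2, 2, -2, -2, 0, 2, 0, 0, 0, 2, -2, 2],
  [-2, 2, -2, -2, 0, 2, -2, 0, 2, 0, -2, 0, 2, 2, -2, -2, 0, 2, 0, 0, 0, -2, 2, 2],
  [0, 0, 0, 0, 2, 0, 0, -6, 0, 2, 0, 2, 0, 0, 0, 0, 2, 0, 2, 2, 2, 0, 0, 0],
  [2, -2, -2, 2, 0, 2, -2, 0, 2, 0, -2, 0, -2, 2, -2, 2, 0, 2, 0, 0, 0, 2, -2, -2],
  [2, 2, 2, 2, 0, 2, -2, 0, -2, 0, -2, 0, -2, -2, 2, -2, 0, 2, 0, 0, 0, -2, -2, 2],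
  [0, 0, 0, 0, -6, 0, 0, 2, 0, 2, 0, 2, 0, 0, 0, 0, 2, 0, 2, 2, 2, 0, 0, 0],
  [-2, 2, 2, -2, 0, -2, -2, 0, 2, 0, -2, 0, -2, 2, 2, 2, 0, -2, 0, 0, 0, 2, -2, 2],
  [0, 0, 0, 0, 2, 0, 0, 2, 0, 2, 0, 2, 0, 0, 0, 0, -6, 0, 2, 2, 2, 0, 0, 0],
  [-2, 2, -2, 2, 0, 2, -2, 0, -2, 0, 2, 0, 2, 2, 2, -2, 0, -2, 0, 0, 0, 2, -2, -2],
  [0, 0, 0, 0, 2, 0, 0, 2, 0, 2, 0, -6, 0, 0, 0, 0, 2, 0, 2, 2, 2, 0, 0, 0],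
  [2, -2, -2, -2, 0, 2, -2, 0, -2, 0, 2, 0, -2, 2, 2, 2, 0, -2, 0, 0, 0, -2, 2, 2],
  [2, 2, -2, -2, 0, -2, -2, 0, 2, 0, 2, 0, 2, -2, 2, 2, 0, 2, 0, 0, 0, -2, -2, -2],
  [-2, -2, -2, -2, 0, -2, -2, 0, -2, 0, -2, 0, -2, -2, -2, -2, 0, -2, 0, 0, 0, -2, -2, -2],
  [2, -2, 2, 2, 0, -2, -2, 0, 2, 0, -2, 0, 2, 2, 2, -2, 0, -2, 0, 0, 0, -2, 2, -2],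
  [0, 0, 0, 0, 2, 0, 0, 2, 0, -6, 0, 2, 0, 0, 0, 0, 2, 0, 2, 2, 2, 0, 0, 0],
  [-2, -2, 2, 2, 0, 2, -2, 0, 2, 0, 2, 0, 2, -2, -2, 2, 0, -2, 0, 0, 0, -2, -2, 2],
  [0, 0, 0, 0, 2, 0, 0, 2, 0, 2, 0, 2, 0, 0, 0, 0, 2, 0, -6, 2, 2, 0, 0, 0],
  [0, 0, 0, 0, 2, 0, 0, 2, 0, 2, 0, 2, 0, 0, 0, 0, 2, 0, 2, 2, -6, 0, 0, 0],
  [0, 0, 0, 0, 2, 0, 0, 2, 0, 2, 0, 2, 0, 0, 0, 0, 2, 0, 2, -6, 2, 0, 0, 0],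
  [-2, -2, -2, 2, 0, -2, -2, 0, 2, 0, 2, 0, -2, -2, 2, -2, 0, 2, 0, 0, 0, 2, 2, 2],
  [-2, -2, 2, -2, 0, 2, -2, 0, -2, 0, -2, 0, 2, -2, 2, 2, 0, 2, 0, 0, 0, 2, 2, -2],
  [-2, 2, 2, 2, 0, -2, -2, 0, -2, 0, 2, 0, -2, 2, -2, 2, 0, 2, 0, 0, 0, -2, 2, -2]]

/-- Its action. -/
def uImg : List ℕ := [0, 8, 24, 16, 40, 32, 48, 56]

end Cfsg.Agent.MonsterT.Seven
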