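/-
The centralizer of an element of order seven with three fixed points in the lattice group.
-/
import Cfsg.Agent.Lib.MonsterT.CentAct
import Cfsg.Agent.Lib.MonsterT.SevenData
import Cfsg.Agent.Lib.MonsterT.SLThree
import Cfsg.Agent.Lib.Golay.Local.Seven
import Cfsg.Agent.Lib.Golay.SingleBlockBase
set_option autoImplicit false
set_option maxRecDepth 100000

namespace Cfsg.Agent.MonsterT.Seven

open Cfsg Cfsg.Agent.Golay Cfsg.Agent.Leech Cfsg.Agent.Leech.MatCert CentCert
open Cfsg.Agent.PermCert (Elt allBelow allBelow_spec validElt get)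
open Cfsg.Agent.Golay.Cert Cfsg.Agent.Golay.Local
open Cfsg.Agent.LatticeMod2 (Rootless Cong)

theorem fix_ok : fixOK rep7 7 6 reps cover = true := by decide +kernel

theorem gMat2_ok : (certOK gMat2 && twineB gMat2 rep7 rep7 && actB gMat2 reps 8 64 gImg2) = true := by
  decide +kernel

theorem gMat3_ok : (certOK gMat3 && twineB gMat3 rep7 rep7 && actB gMat3 reps 8 64 gImg3) = true := by
  decide +kernel

theorem gMat7_ok : (certOK gMat7 && twineB gMat7 rep7 rep7 && actB gMat7 reps 8 64 gImg7) = true := by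
  decide +kernel

theorem uMat_ok : (certOK uMat && twineB uMat rep7 (rep7.2, rep7.1) && actB uMat reps 8 64 uImg) = true := by
  decide +kernel

/-- Iterated image of the first class under the element of order seven. -/
def iter7 : ℕ → ℕ
  | 0 => 1
  | k + 1 => gImg7.getD (iter7 k) 0

theorem cycle_ok : (allBelow (fun a => Nat.beq a 0 || !(allBelow (fun k => !(Nat.beq (iter7 k) a)) 7)) 8 &&
    allBelow (fun k => Nat.blt (iter7 k) 8) 7 &&
    allBelow (fun a => Nat.beq a 0 || !(allBelow (fun k => !(Nat.beq (uImg.getD (iter7 k) 0) (8 * a))) 7)) 8) = true := by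
  decide +kernel

theorem axis_rep : eqL (rl reps 1) axisL = true := by decide +kernel

theorem inv_elt : (validElt 5 24 (rep7.2, rep7.1) && isAutB (rep7.2, rep7.1) &&
    Nat.beq (PermCert.mul 5 24 (rep7.2, rep7.1) rep7).1 (PermCert.idCode 5 24)) = true := by decide +kernel

theorem eight_classes : allBelow (fun a => !decide (dotL (rl reps a) (rl reps a) = 64) ||
    (Nat.blt a 8 && !(Nat.beq a 0)) || (Nat.beq (a % 8) 0 && !(Nat.beq a 0))) 64 = true := by decide +kernel

theorem count_eight : ((List.range 64).filter fun a => decide (dotL (rl reps a) (rl reps a) = 64)).length = 14 := by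
  decide +kernel

theorem code_count : (codeList.filter fun m =>
    allBelow (fun i => m.testBit (get 5 rep7.1 i) == m.testBit i) 24).length = 8 := by decide +kernel

theorem no_inverting : allF (fun g => !(sameF (cmpF g.1 rep7.1) (cmpF rep7.2 g.1))) norm7 = true := by decide +kernel

theorem squarer : anyF (fun g => sameF (cmpF g.1 rep7.1) (cmpF (cmpF rep7.1 rep7.1) g.1)) norm7 = true := by
  decide +kernel

theorem rep7_valid : validElt 5 24 rep7 = true := reps_spec.2.2.2.2.1

/-- The element of order seven. -/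
noncomputable def b7 : Co0 := bOf rep7 R7_mem

theorem b7_pow : b7 ^ 7 = 1 := bOf_pow R7_mem norm7_facts.2.2.2.2.2.2.1

theorem b7_mem : b7 ∈ crossStab := mono_mem _

theorem rho_b7 : ((rho ⟨b7, b7_mem⟩ : M24) : Equiv.Perm GolayPt) = R7 :=
  congrArg Subtype.val (rho_mono ((⟨R7, R7_mem⟩ : M24), 0) b7_mem)

theorem b7_ne : b7 ≠ 1 := fun h => by
  refine norm7_facts.2.2.2.2.2.2.2.1 ?_
  rw [← rho_b7, show (⟨b7, b7_mem⟩ : crossStab) = 1 from Subtype.ext h, map_one]; rfl

/-- The fixed classes. -/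
noncomputable def model7 : FixModel b7 6 := fixModel fix_ok rep7_valid R7_mem (by norm_num)

theorem model7_R (a : Fin (2 ^ 6)) : model7.R a = rv fix_ok a := rfl

/-- The index of the standard class. -/
def one6 : Fin (2 ^ 6) := ⟨1, by norm_num⟩

theorem R_one : model7.R one6 = axis none := by
  rw [← latV_axisL]
  refine Subtype.ext ?_
  show toVec (rl reps 1) = toVec axisL
  rw [show rl reps 1 = axisL by simpa [eqL] using axis_rep]

theorem g7_parts : certOK gMat7 = true ∧ twineB gMat7 rep7 rep7 = true ∧ actB gMat7 reps 8 64 gImg7 = true := by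
  have h := gMat7_ok; simp only [Bool.and_eq_true] at h; exact ⟨h.1.1, h.1.2, h.2⟩

theorem u_parts : certOK uMat = true ∧ twineB uMat rep7 (rep7.2, rep7.1) = true ∧
    actB uMat reps 8 64 uImg = true := by
  have h := uMat_ok; simp only [Bool.and_eq_true] at h; exact ⟨h.1.1, h.1.2, h.2⟩

/-- A certified element of the centralizer. -/
noncomputable def gEl (M : List (List ℤ)) (h : certOK M = true) (h' : twineB M rep7 rep7 = true) :
    Subgroup.centralizer ({b7} : Set Co0) :=
  ⟨gOf M h, Subgroup.mem_centralizer_singleton_iff.2 (twine_spec h rep7_valid rep7_valid R7_mem R7_mem h')⟩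

theorem gEl_act {M : List (List ℤ)} {h : certOK M = true} {h' : twineB M rep7 rep7 = true} {img : List ℕ}
    (ha : actB M reps 8 64 img = true) (a : Fin (2 ^ 6)) (hlt : (a : ℕ) < 8) :
    (model7.act (gEl M h h') a : ℕ) = img.getD a 0 := by
  obtain ⟨a', h1, h2⟩ := cong_act fix_ok h ha a hlt
  rw [← h1, model7.act_eq (c := gEl M h h') (a := a) (a' := a') h2]

/-- The element cycling the seven classes. -/
noncomputable def g7 : Subgroup.centralizer ({b7} : Set Co0) := gEl gMat7 g7_parts.1 g7_parts.2.1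

theorem iter7_lt (k : ℕ) (hk : k < 7) : iter7 k < 8 := by
  have h := cycle_ok
  simp only [Bool.and_eq_true] at h
  simpa using allBelow_spec _ _ h.1.2 k hk

theorem g7_pow_act : ∀ k < 7, (model7.act (g7 ^ k) one6 : ℕ) = iter7 k
  | 0, _ => by rw [pow_zero, map_one]; rfl
  | k + 1, hk => by
    have ih := g7_pow_act k (by omega)
    rw [show g7 ^ (k + 1) = g7 * g7 ^ k from pow_succ' g7 k, map_mul, Equiv.Perm.mul_apply,
      show model7.act g7 (model7.act (g7 ^ k) one6) = model7.act (gEl gMat7 g7_parts.1 g7_parts.2.1) _ from rfl,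
      gEl_act g7_parts.2.2 _ (by rw [ih]; exact iter7_lt k (by omega)), ih]
    rfl

theorem exists_pow {a : ℕ} (ha : a < 8) (h0 : a ≠ 0) :
    (∃ k < 7, iter7 k = a) ∧ ∃ k < 7, uImg.getD (iter7 k) 0 = 8 * a := by
  have h := cycle_ok
  simp only [Bool.and_eq_true] at h
  have h1 := allBelow_spec _ _ h.1.1 a ha
  have h2 := allBelow_spec _ _ h.2 a ha
  simp only [Bool.or_eq_true, Nat.beq_eq, h0, false_or, Bool.not_eq_true'] at h1 h2
  constructor
  · by_contra hn
    push Not at hn
    rw [allBelow_of 7 fun k hk => by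
      simp only [Bool.not_eq_true']
      exact Bool.eq_false_iff.2 fun h => hn k hk (Nat.eq_of_beq_eq_true h)] at h1
    exact absurd h1 (by decide)
  · by_contra hn
    push Not at hn
    rw [allBelow_of 7 fun k hk => by
      simp only [Bool.not_eq_true']
      exact Bool.eq_false_iff.2 fun h => hn k hk (Nat.eq_of_beq_eq_true h)] at h2
    exact absurd h2 (by decide)

theorem inv_facts : validElt 5 24 (rep7.2, rep7.1) = true ∧
    ∃ h : permOf (rep7.2, rep7.1) ∈ M24, permOf (rep7.2, rep7.1) = R7⁻¹ := by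
  have h := inv_elt
  simp only [Bool.and_eq_true, Nat.beq_eq] at h
  exact ⟨h.1.1, permOf_mem_M24 h.1.1 h.1.2,
    eq_inv_of_mul_eq_one_left (Cfsg.Agent.Golay.SB.permOf_mul_eq_one h.1.1 rep7_valid h.2)⟩

theorem bOf_inv {h : permOf (rep7.2, rep7.1) ∈ M24} : bOf (rep7.2, rep7.1) h = b7⁻¹ := by
  refine eq_inv_of_mul_eq_one_left (co0_ext fun i => ?_)
  rw [mul_smul, one_smul, b7, bOf, bOf, mono_axis, ← hom0_apply, map_zsmul, hom0_apply, mono_axis, smul_smul]
  obtain ⟨-, -, he⟩ := inv_facts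
  simp [sgn, he]

/-- No element of the stabiliser of the standard class inverts the element. -/
theorem no_inverting_mono {c : Co0} (hc : c ∈ crossStab) : c * b7 ≠ b7⁻¹ * c := by
  intro h
  have h1 : rho ⟨c, hc⟩ * rho ⟨b7, b7_mem⟩ = (rho ⟨b7, b7_mem⟩)⁻¹ * rho ⟨c, hc⟩ := by
    rw [← map_mul, ← map_inv, ← map_mul]
    exact congrArg rho (Subtype.ext h)
  have h2 : ((rho ⟨c, hc⟩ : M24) : Equiv.Perm GolayPt) * R7 = R7 ^ 6 * ((rho ⟨c, hc⟩ : M24) : Equiv.Perm GolayPt) := by
    have h3 := congrArg Subtype.val h1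
    simp only [Subgroup.coe_mul, InvMemClass.coe_inv, rho_b7] at h3
    rw [h3, show R7⁻¹ = R7 ^ 6 from inv_eq_of_mul_eq_one_right
      (by rw [← pow_succ']; exact norm7_facts.2.2.2.2.2.2.1)]
  obtain ⟨g, hg, hge⟩ := norm7_upper (rho ⟨c, hc⟩).2 (by norm_num) le_rfl h2
  have hn := allF_iff.1 no_inverting g hg
  have hcg := code_permOf (eltOK_spec (allF_iff.1 norm7_facts.1 g hg)).1
  have hci : Code rep7.2 R7⁻¹ := code_permOf_inv rep7_valid
  simp only [Bool.not_eq_true'] at hn
  refine ((leaf_false_iff (hcg.cmp code_R7) (hci.cmp hcg)).1 hn) ?_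
  rw [hge, h2, show R7⁻¹ = R7 ^ 6 from inv_eq_of_mul_eq_one_right
    (by rw [← pow_succ']; exact norm7_facts.2.2.2.2.2.2.1)]

/-- The seven classes. -/
theorem orbit_seven (c : Subgroup.centralizer ({b7} : Set Co0)) :
    0 < (model7.act c one6 : ℕ) ∧ (model7.act c one6 : ℕ) < 8 := by
  set a := model7.act c one6 with ha
  have hn : ip (model7.R a) (model7.R a) = 8 :=
    model7.act_norm (by rw [R_one]; exact ip_axis_self none)
  have h := allBelow_spec _ _ eight_classes a a.2
  rw [model7_R, ip_eight_iff] at hn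
  simp only [hn, Bool.not_true, Bool.false_or, Bool.or_eq_true, Bool.and_eq_true, Nat.blt_eq,
    Bool.not_eq_true', Nat.beq_eq] at h
  rcases h with ⟨h1, h2⟩ | ⟨h1, h2⟩
  · exact ⟨Nat.pos_of_ne_zero fun h0 => by simp [h0] at h2, h1⟩
  exfalso
  have ha0 : (a : ℕ) ≠ 0 := fun h0 => by simp [h0] at h2
  have hlt : (a : ℕ) < 64 := a.2
  obtain ⟨k, hk, hku⟩ := (exists_pow (a := (a : ℕ) / 8) (by omega) (by omega)).2
  obtain ⟨hu, hut, hua⟩ := u_parts
  obtain ⟨hiv, hiM, -⟩ := inv_facts
  have htw := twine_spec hu rep7_valid hiv R7_mem hiM hut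
  rw [bOf_inv] at htw
  change gOf uMat hu * b7 = _ at htw
  obtain ⟨a', h1', h2'⟩ := cong_act fix_ok hu hua (model7.act (g7 ^ k) one6) (by rw [g7_pow_act k hk]; exact iter7_lt k hk)
  have haa : a' = a := Fin.ext (by rw [h1', g7_pow_act k hk, hku]; omega)
  have hc := model7.act_spec c one6
  rw [← ha, ← haa] at hc
  rw [← model7_R, ← model7_R] at h2'
  rw [R_one] at hc
  have hg := model7.act_spec (g7 ^ k) one6
  rw [R_one] at hg
  have h3 : Cong ((gOf _ hu * ((g7 ^ k : Subgroup.centralizer ({b7} : Set Co0)) : Co0)) • axis none) (model7.R a') := by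
    rw [mul_smul]; exact cong_trans (co0_cong hg) h2'
  set u := gOf _ hu * ((g7 ^ k : Subgroup.centralizer ({b7} : Set Co0)) : Co0) with hudef
  have htw : u * b7 = b7⁻¹ * u := by
    rw [hudef, mul_assoc, Subgroup.mem_centralizer_singleton_iff.1 (g7 ^ k).2, ← mul_assoc, htw, mul_assoc]
  have hmem : u⁻¹ * (c : Co0) ∈ crossStab := by
    rw [← classStab_axis, mem_classStab, mul_smul]
    have := co0_cong (g := u⁻¹) (cong_trans hc (cong_symm h3))
    rwa [inv_smul_smul] at this
  refine no_inverting_mono hmem ?_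
  have htw' : u⁻¹ * b7⁻¹ = b7 * u⁻¹ := by
    rw [eq_mul_inv_iff_mul_eq, mul_assoc, inv_mul_eq_iff_eq_mul]
    exact htw.symm
  have htw2 : u⁻¹ * b7 = b7⁻¹ * u⁻¹ := by
    rw [eq_inv_mul_iff_mul_eq, ← mul_assoc, ← htw', inv_mul_cancel_right]
  rw [mul_assoc, Subgroup.mem_centralizer_singleton_iff.1 c.2, ← mul_assoc, htw2, mul_assoc]

theorem card_mono : Nat.card (Subgroup.centralizer ({b7} : Set Co0) ⊓ crossStab : Subgroup Co0) ≤ 42 * 8 := by
  have hlen := norm7_facts.2.2.2.2.2.1
  refine (card_mono_le rep7_valid R7_mem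
    ((norm7.filter fun g => sameF (cmpF g.1 rep7.1) (cmpF rep7.1 g.1)).map permOf) (fun τ hτ hc => ?_) 8
    code_count.le).trans (by rw [List.length_map, hlen])
  obtain ⟨g, hg, hge⟩ := norm7_upper (i := 1) hτ le_rfl (by norm_num) (by rw [pow_one]; exact hc)
  have hcg := code_permOf (eltOK_spec (allF_iff.1 norm7_facts.1 g hg)).1
  refine List.mem_map.2 ⟨g, List.mem_filter.2 ⟨hg, (sameF_iff (hcg.cmp code_R7) (code_R7.cmp hcg)).2 ?_⟩, hge⟩
  rw [hge]; exact hc

theorem card_cent : Nat.card (Subgroup.centralizer ({b7} : Set Co0)) ≤ 7 * (42 * 8) := by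
  refine (card_cent_le (fun k : Fin 7 => g7 ^ (k : ℕ)) (fun c => ?_) card_mono).trans
    (by rw [Nat.card_eq_fintype_card, Fintype.card_fin])
  obtain ⟨h0, h8⟩ := orbit_seven c
  obtain ⟨k, hk, hka⟩ := (exists_pow h8 (by omega)).1
  refine ⟨⟨k, hk⟩, ?_⟩
  have he : model7.act (g7 ^ k) one6 = model7.act c one6 := Fin.ext (by rw [g7_pow_act k hk, hka])
  have h1 := model7.act_spec c one6
  have h2 := model7.act_spec (g7 ^ k) one6
  rw [R_one] at h1 h2
  rw [he] at h2
  exact cong_trans h1 (cong_symm h2)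

end Cfsg.Agent.MonsterT.Seven
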