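/-
The centralizer of the element of order seven modulo its centre and itself is the linear group of degree three.
-/
import Cfsg.Agent.Lib.MonsterT.Seven
set_option autoImplicit false
set_option maxRecDepth 100000

namespace Cfsg.Agent.MonsterT.Seven

open Cfsg Cfsg.Agent.Golay Cfsg.Agent.Leech Cfsg.Agent.Leech.MatCert CentCert
open Cfsg.Agent.PermCert (Elt allBelow allBelow_spec validElt get)
open Cfsg.Agent.Golay.Cert Cfsg.Agent.Golay.Local
open Cfsg.Agent.LatticeMod2 (Rootless Cong)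

/-- The additivity of the action. -/
theorem act_xor (c : Subgroup.centralizer ({b7} : Set Co0)) (a a' : Fin (2 ^ 6)) :
    model7.act c (xorFin a a') = xorFin (model7.act c a) (model7.act c a') := by
  refine model7.act_eq (cong_trans (co0_cong (cong_symm (rv_add' fix_ok a a'))) ?_)
  rw [co0_add]
  exact cong_trans (cong_add (model7.act_spec c a) (model7.act_spec c a')) (rv_add' fix_ok _ _)

/-- The stabiliser of the subspace of seven classes. -/
noncomputable def St : Subgroup (Subgroup.centralizer ({b7} : Set Co0)) where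
  carrier := {c | ∀ a : Fin (2 ^ 6), (a : ℕ) < 8 ↔ (model7.act c a : ℕ) < 8}
  one_mem' := fun a => by rw [map_one]; rfl
  mul_mem' := fun {c d} hc hd a => by rw [map_mul, Equiv.Perm.mul_apply]; exact (hd a).trans (hc _)
  inv_mem' := fun {c} hc a => by
    have h := hc ((model7.act c)⁻¹ a)
    rw [← Equiv.Perm.mul_apply, mul_inv_cancel, Equiv.Perm.one_apply] at h
    rw [map_inv]
    exact h.symm

theorem mem_St {c : Subgroup.centralizer ({b7} : Set Co0)} :
    c ∈ St ↔ ∀ a : Fin (2 ^ 6), (a : ℕ) < 8 ↔ (model7.act c a : ℕ) < 8 := Iff.rfl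

theorem mem_St_of {c : Subgroup.centralizer ({b7} : Set Co0)}
    (h : ∀ a : Fin (2 ^ 6), (a : ℕ) < 8 → (model7.act c a : ℕ) < 8) : c ∈ St := by
  classical
  refine mem_St.2 fun a => ⟨h a, fun ha => ?_⟩
  let S : Finset (Fin (2 ^ 6)) := Finset.univ.filter fun a => (a : ℕ) < 8
  have him : S.image (model7.act c) = S := by
    refine Finset.eq_of_subset_of_card_le ?_ (by rw [Finset.card_image_of_injective _ (model7.act c).injective])
    intro x hx
    obtain ⟨y, hy, rfl⟩ := Finset.mem_image.1 hx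
    exact Finset.mem_filter.2 ⟨Finset.mem_univ _, h y (Finset.mem_filter.1 hy).2⟩
  have hmem : model7.act c a ∈ S.image (model7.act c) := by rw [him]; exact Finset.mem_filter.2 ⟨Finset.mem_univ _, ha⟩
  obtain ⟨y, hy, hya⟩ := Finset.mem_image.1 hmem
  rw [← (model7.act c).injective hya]
  exact (Finset.mem_filter.1 hy).2

/-- A basis vector. -/
def pw (j : Fin 3) : Fin (2 ^ 6) := ⟨2 ^ (j : ℕ), Nat.pow_lt_pow_right (by norm_num) (by omega)⟩

/-- A bit as an element of the field. -/
def bit (n : ℕ) (i : Fin 3) : ZMod 2 := if n.testBit i then 1 else 0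

/-- The matrix on the subspace. -/
noncomputable def matOf (c : St) : Matrix (Fin 3) (Fin 3) (ZMod 2) :=
  Matrix.of fun i j => bit (model7.act c.1 (pw j)) i

theorem bit_xor (a b : ℕ) (i : Fin 3) : bit (a ^^^ b) i = bit a i + bit b i := by
  simp only [bit, Nat.testBit_xor]
  cases a.testBit i <;> cases b.testBit i <;> simp [CharTwo.add_self_eq_zero]

theorem bit_expand (c : Subgroup.centralizer ({b7} : Set Co0)) (a : Fin (2 ^ 6)) (ha : (a : ℕ) < 8) (i : Fin 3) :
    bit (model7.act c a) i = ∑ j : Fin 3, bit (model7.act c (pw j)) i * bit a j := by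
  have h0 : (model7.act c ⟨0, by norm_num⟩ : ℕ) = 0 := by
    have h := act_xor c ⟨0, by norm_num⟩ ⟨0, by norm_num⟩
    have e0 : xorFin (⟨0, by norm_num⟩ : Fin (2 ^ 6)) ⟨0, by norm_num⟩ = ⟨0, by norm_num⟩ := Fin.ext (by simp [xorFin])
    rw [e0] at h
    have := congrArg Fin.val h
    simp only [xorFin, Nat.xor_self] at this
    exact this
  have hx : ∀ x y, (model7.act c (xorFin x y) : ℕ) = (model7.act c x : ℕ) ^^^ (model7.act c y : ℕ) := fun x y =>
    congrArg Fin.val (act_xor c x y)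
  obtain ⟨n, hn⟩ := a
  change n < 8 at ha
  rw [Fin.sum_univ_three]
  interval_cases n
  · rw [h0]; simp [bit]
  · simp +decide [bit, pw]
  · simp +decide [bit, pw]
  · rw [show (⟨3, hn⟩ : Fin (2 ^ 6)) = xorFin (pw 0) (pw 1) from rfl, hx, bit_xor]
    simp +decide [bit, pw]
  · simp +decide [bit, pw]
  · rw [show (⟨5, hn⟩ : Fin (2 ^ 6)) = xorFin (pw 0) (pw 2) from rfl, hx, bit_xor]
    simp +decide [bit, pw]
  · rw [show (⟨6, hn⟩ : Fin (2 ^ 6)) = xorFin (pw 1) (pw 2) from rfl, hx, bit_xor]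
    simp +decide [bit, pw]
  · rw [show (⟨7, hn⟩ : Fin (2 ^ 6)) = xorFin (xorFin (pw 0) (pw 1)) (pw 2) from rfl, hx, hx, bit_xor, bit_xor]
    simp +decide [bit, pw]

theorem pw_lt (j : Fin 3) : (pw j : ℕ) < 8 := by
  have := Nat.pow_lt_pow_right (show 1 < 2 by norm_num) (show (j : ℕ) < 3 by omega)
  exact this

theorem matOf_mul (c d : St) : matOf (c * d) = matOf c * matOf d := by
  ext i j
  rw [Matrix.mul_apply]
  show bit (model7.act (c * d : St).1 (pw j)) i = _
  rw [Subgroup.coe_mul, map_mul, Equiv.Perm.mul_apply,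
    bit_expand c.1 _ ((mem_St.1 d.2 _).1 (pw_lt j)) i]
  rfl

theorem matOf_one_of {c : St} (h : model7.act c.1 = 1) : matOf c = 1 := by
  ext i j
  show bit (model7.act c.1 (pw j)) i = _
  rw [h, Equiv.Perm.one_apply, Matrix.one_apply, bit]
  show (if (2 ^ (j : ℕ)).testBit i then (1 : ZMod 2) else 0) = _
  rw [Nat.testBit_two_pow]
  simp only [decide_eq_true_eq, Fin.val_inj, eq_comm (a := j)]

/-- The representation on the subspace. -/
noncomputable def slHom : St →* Matrix.SpecialLinearGroup (Fin 3) (ZMod 2) :=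
  MonoidHom.mk' (fun c => ⟨matOf c, zmod2_mul_one _ (matOf c⁻¹).det (by
    rw [← Matrix.det_mul, ← matOf_mul, mul_inv_cancel, matOf_one_of (by rw [Subgroup.coe_one, map_one]), Matrix.det_one])⟩)
    fun c d => Subtype.ext (matOf_mul c d)

/-- The matrix of an image list. -/
def imgMat (img : List ℕ) : Matrix (Fin 3) (Fin 3) (ZMod 2) := Matrix.of fun i j => bit (img.getD (2 ^ (j : ℕ)) 0) i

theorem img_le : allBelow (fun a => Nat.blt (gImg2.getD a 0) 8 && Nat.blt (gImg3.getD a 0) 8 &&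
    Nat.blt (gImg7.getD a 0) 8) 8 = true := by decide +kernel

theorem mat_orders : (imgMat gImg2 ^ 2 = 1 ∧ imgMat gImg2 ≠ 1) ∧ (imgMat gImg3 ^ 3 = 1 ∧ imgMat gImg3 ≠ 1) ∧
    (imgMat gImg7 ^ 7 = 1 ∧ imgMat gImg7 ≠ 1) := by decide +kernel

theorem exists_order {M : List (List ℤ)} {img : List ℕ} {n : ℕ} (hn : n.Prime)
    (h : (certOK M && twineB M rep7 rep7 && actB M reps 8 64 img) = true) (hlt : ∀ a < 8, img.getD a 0 < 8)
    (hp : imgMat img ^ n = 1) (hne : imgMat img ≠ 1) : n ∣ Nat.card slHom.range := by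
  haveI := Fact.mk hn
  simp only [Bool.and_eq_true] at h
  obtain ⟨⟨h1, h2⟩, h3⟩ := h
  have hSt : gEl M h1 h2 ∈ St := mem_St_of fun a ha => by rw [gEl_act h3 a ha]; exact hlt _ ha
  have hm : matOf ⟨_, hSt⟩ = imgMat img := by
    ext i j
    show bit (model7.act (gEl M h1 h2) (pw j)) i = _
    rw [gEl_act h3 _ (pw_lt j)]; rfl
  have ho : orderOf (slHom ⟨_, hSt⟩) = n := by
    refine orderOf_eq_prime (Subtype.ext ?_) fun he => hne ?_
    · show (matOf ⟨_, hSt⟩) ^ n = 1
      rw [hm, hp]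
    · rw [← hm]; exact congrArg Subtype.val he
  rw [← ho]
  have h5 := orderOf_dvd_natCard (⟨_, ⟨⟨_, hSt⟩, rfl⟩⟩ : slHom.range)
  rwa [← Subgroup.orderOf_coe] at h5

theorem slHom_surjective : Function.Surjective slHom := by
  obtain ⟨⟨a2, b2⟩, ⟨a3, b3⟩, ⟨a7, b7⟩⟩ := mat_orders
  have hl := img_le
  have hlt : ∀ a < 8, gImg2.getD a 0 < 8 ∧ gImg3.getD a 0 < 8 ∧ gImg7.getD a 0 < 8 := fun a ha => by
    have := allBelow_spec _ _ hl a ha
    simpa [and_assoc] using this
  have d2 := exists_order Nat.prime_two gMat2_ok (fun a ha => (hlt a ha).1) a2 b2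
  have d3 := exists_order Nat.prime_three gMat3_ok (fun a ha => (hlt a ha).2.1) a3 b3
  have d7 := exists_order (by norm_num) gMat7_ok (fun a ha => (hlt a ha).2.2) a7 b7
  refine MonoidHom.range_eq_top.1 (sl32_top ?_)
  exact (Nat.Coprime.mul_dvd_of_dvd_of_dvd (by norm_num : Nat.Coprime 6 7)
    (Nat.Coprime.mul_dvd_of_dvd_of_dvd (by norm_num : Nat.Coprime 2 3) d2 d3) d7)

theorem pCore_sl32 : pCore 2 (Matrix.SpecialLinearGroup (Fin 3) (ZMod 2)) = ⊥ := by
  obtain ⟨hs, hc⟩ := sl32_facts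
  haveI := hs
  haveI : (pCore 2 (Matrix.SpecialLinearGroup (Fin 3) (ZMod 2))).Normal := FittingCores.pCore_normal 2
  refine (Subgroup.Normal.eq_bot_or_eq_top inferInstance).resolve_right fun h => ?_
  haveI : Fact (Nat.Prime 2) := ⟨Nat.prime_two⟩
  obtain ⟨n, hn⟩ := (PBasic.pCore_isPGroup 2 (Matrix.SpecialLinearGroup (Fin 3) (ZMod 2))).exists_card_eq
  rw [h, Subgroup.card_top, hc] at hn
  have h7 : 7 ∣ 2 ^ n := by rw [← hn]; norm_num
  exact absurd ((by norm_num : Nat.Prime 7).dvd_of_dvd_pow h7) (by norm_num)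

/-- The model of the centralizer. -/
theorem exists_model7 : ∃ M : CentModel b7 7 6 (Matrix.SpecialLinearGroup (Fin 3) (ZMod 2)), M.fm = model7 := by
  refine exists_model (by norm_num) (by norm_num) b7_pow b7_ne model7 St ?_ slHom slHom_surjective ?_ ?_ pCore_sl32
  · intro c h
    exact mem_St.2 fun a => by rw [h]; rfl
  · intro c h
    exact Subtype.ext (matOf_one_of h)
  · refine card_cent.trans ?_
    rw [sl32_facts.2]

theorem card_eight : Nat.card {i : Fin (2 ^ 6) // ip (model7.R i) (model7.R i) = 8} = 14 := by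
  classical
  rw [← count_eight, Nat.card_eq_fintype_card, Fintype.card_subtype]
  have hf : (Finset.univ.filter fun i : Fin (2 ^ 6) => ip (model7.R i) (model7.R i) = 8) =
      Finset.univ.filter fun i : Fin (2 ^ 6) => decide (dotL (rl reps i) (rl reps i) = 64) = true :=
    Finset.filter_congr fun i _ => by rw [model7_R, ip_eight_iff]
  rw [hf, ← List.toFinset_card_of_nodup (List.nodup_range.filter _), ← Finset.card_map Fin.valEmbedding]
  congr 1

end Cfsg.Agent.MonsterT.Seven
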