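/-
The centralizer of a Sylow seven-subgroup of the centralizer of a four-group is of Held type modulo it.
-/
import Cfsg.Agent.Lib.MonsterT.SevenModel
import Cfsg.Agent.Lib.MonsterT.LocalStd
set_option autoImplicit false
set_option maxRecDepth 100000

namespace Cfsg.Agent.MonsterT

open Cfsg Cfsg.Agent.Golay Cfsg.Agent.Leech
open Cfsg.Agent.PermCert (validElt)
open Cfsg.Agent.Golay.Local Cfsg.Agent.Golay.Cert
open Cfsg.Agent.LatticeMod2 (Rootless Cong)
open Seven (b7)

variable {G : Type*} [Group G] [Finite G] {z : G}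
  {Q : Subgroup (Subgroup.centralizer ({z} : Set G))} [Q.Normal]
  {e : (Subgroup.centralizer ({z} : Set G)) ⧸ Q ≃* Spor.Co1} {ψ : leechLattice → Q ⧸ Subgroup.center Q}

/-- An element of the standard stabiliser squaring the element of order seven. -/
theorem exists_squarer : ∃ g ∈ crossStab, g * b7 * g⁻¹ = b7 ^ 2 := by
  obtain ⟨g, hg, hge⟩ := anyF_iff.1 Seven.squarer
  obtain ⟨hv, hM⟩ := eltOK_spec (allF_iff.1 norm7_facts.1 g hg)
  have hc := code_permOf hv
  have heq := (sameF_iff (hc.cmp code_R7) ((code_R7.cmp code_R7).cmp hc)).1 hge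
  refine ⟨mono (⟨permOf g, hM⟩, 0), mono_mem _, ?_⟩
  rw [mul_inv_eq_iff_eq_mul]
  refine co0_ext fun i => ?_
  have h0 : ∀ (τ : ↥M24) (j : GolayPt), mono (τ, 0) • axis j = axis ((τ : Equiv.Perm GolayPt) j) := fun τ j => by
    simp [mono_axis, sgn]
  simp only [pow_two, mul_smul, Seven.b7, CentCert.bOf, h0]
  exact congrArg axis (DFunLike.congr_fun heq i)

namespace Loc

variable {β : Subgroup.centralizer ({z} : Set G)} {q : Q} (D : Loc z Q e ψ b7 7 β q)
include D

theorem sq_seven (a : ℕ) (ha : (β : G) ^ a ≠ 1) :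
    ∃ n : Subgroup.centralizer ({z} : Set G), cq n q = q ∧ n * β * n⁻¹ = β ^ (a ^ 4) := by
  obtain ⟨g, hg, hg2⟩ := exists_squarer
  have hcong : Cong (g • axis none) (axis none) := by rwa [← classStab_axis, mem_classStab] at hg
  obtain ⟨h, hh, hhq⟩ := D.mt.exists_conj D.ax D.ax (D.mt.not_center D.ax (Or.inr (ip_axis_self none))) hcong
  set L := Subgroup.centralizer ({(q : Subgroup.centralizer ({z} : Set G))} :
      Set (Subgroup.centralizer ({z} : Set G))) with hL
  have hmem : ∀ x : Subgroup.centralizer ({z} : Set G), cq x q = q ↔ x ∈ L := fun x => by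
    rw [hL, Subgroup.mem_centralizer_singleton_iff]
    exact ⟨fun h => mul_inv_eq_iff_eq_mul.1 (congrArg Subtype.val h),
      fun h => Subtype.ext (mul_inv_eq_iff_eq_mul.2 h)⟩
  obtain ⟨n, hn, hnb, -⟩ := D.lift L ((hmem β).1 D.comm) hg2 ((hmem h).1 hhq) hh
  have key : ∀ i : ℕ, n ^ i * β * (n ^ i)⁻¹ = β ^ (2 ^ i) := by
    intro i
    induction i with
    | zero => simp
    | succ i ih =>
      calc n ^ (i + 1) * β * (n ^ (i + 1))⁻¹ = n * (n ^ i * β * (n ^ i)⁻¹) * n⁻¹ := by rw [pow_succ']; group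
        _ = _ := by rw [ih, ← conj_pow, hnb, ← pow_mul, ← pow_succ']
  have h7 : a % 7 ≠ 0 := fun h0 => ha (by
    obtain ⟨m, rfl⟩ := Nat.dvd_of_mod_eq_zero h0
    have := congrArg Subtype.val (D.beta_pow)
    rw [SubmonoidClass.coe_pow, OneMemClass.coe_one] at this
    rw [pow_mul, this, one_pow])
  have hcases : ∃ i : ℕ, a ^ 4 % 7 = 2 ^ i % 7 := by
    rw [Nat.pow_mod]
    have h := Nat.mod_lt a (show 7 > 0 by norm_num)
    interval_cases (a % 7)
    · exact absurd rfl h7
    · exact ⟨0, rfl⟩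
    · exact ⟨1, rfl⟩
    · exact ⟨2, rfl⟩
    · exact ⟨2, rfl⟩
    · exact ⟨1, rfl⟩
    · exact ⟨0, rfl⟩
  obtain ⟨i, hi⟩ := hcases
  refine ⟨n ^ i, (hmem _).2 (L.pow_mem hn i), ?_⟩
  rw [key, pow_eq_pow_iff_modEq, D.ord]
  exact hi.symm

theorem fused_seven (hq : IsConj z (toG q)) (hne : toG q ≠ z) :
    ∃ h : G, h * (β : G) = (β : G) * h ∧ h * z * h⁻¹ = toG q :=
  D.fused (fun h hz hq' => D.conj_of_sylow (by norm_num) h hz hq' hq) D.sq_seven hq hne

end Loc

namespace MT

variable (H : MT z Q e ψ)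
include H

/-- **The centralizer of the subgroup of order seven modulo it is of Held type.** -/
theorem held {s : G} {q : Q} (hqs : toG q = s) (hs : IsConj z s) (hs1 : s ≠ z) {B : Subgroup G}
    (hB : B ≤ Subgroup.centralizer ({z, s} : Set G))
    (hBp : Nat.card B = 7 ^ (Nat.card ↥(Subgroup.centralizer ({z, s} : Set G))).factorization 7)
    [hN : (B.subgroupOf (Subgroup.centralizer (B : Set G))).Normal] :
    IsOfHeldType (↥(Subgroup.centralizer (B : Set G)) ⧸ B.subgroupOf (Subgroup.centralizer (B : Set G))) := by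
  have hq : IsConj z (toG q) := by rw [hqs]; exact hs
  have hne : toG q ≠ z := by rw [hqs]; exact hs1
  obtain ⟨e', ψ', β, D, hgen⟩ := H.generator_of_sylow (by norm_num) (by norm_num) Seven.b7_pow Seven.b7_ne
    Seven.b7_mem (by norm_num) hqs hq hne hB hBp
  obtain ⟨M, hM⟩ := Seven.exists_model7
  obtain ⟨h, hh1, hh2⟩ := D.fused_seven hq hne
  obtain ⟨zb, R, hR, hset, hiso, hcount⟩ := D.setting_of M (w := 3) rfl (by norm_num) hgen ⟨h, hh1, hh2, hne⟩
  refine ⟨zb, R, hR, hset, hiso, ?_⟩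
  refine Eq.trans ?_ (show 1 + 2 * 14 = 29 by norm_num)
  rw [← Seven.card_eight, ← hM]
  refine hcount fun a ha haz hane => ?_
  -- the same argument at another conjugate of the central involution
  obtain ⟨e₂, ψ₂, β₂, D₂, hgen₂⟩ := H.exists_loc (by norm_num : Nat.Prime 7) (by norm_num) Seven.b7_pow haz hane D.ord
    (mem_fixSub.1 ha) fun e' ψ' _ _ g hg hg1 _ => by
      haveI := finite_Co0
      haveI : Fact (Nat.Prime 7) := ⟨by norm_num⟩
      obtain ⟨u, i, hu⟩ := exists_conj_prime (by norm_num : Nat.Prime 7) (K := ↥crossStab)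
        (b := (⟨b7, Seven.b7_mem⟩ : crossStab)) (c := g) (by rw [card_crossStab]; norm_num)
        (orderOf_eq_prime (Subtype.ext Seven.b7_pow) fun h1 => Seven.b7_ne (congrArg Subtype.val h1))
        (orderOf_eq_prime hg hg1)
      exact ⟨u, i, by simpa using congrArg Subtype.val hu⟩
  obtain ⟨h', h1', h2'⟩ := D₂.fused_seven haz hane
  refine ⟨h', ?_, h2'⟩
  have hmem : (β : G) ∈ Subgroup.zpowers (β₂ : G) := by rw [hgen₂]; exact Subgroup.mem_zpowers _
  obtain ⟨i, hi⟩ := Subgroup.mem_zpowers_iff.1 hmem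
  rw [← hi]
  exact ((show Commute h' (β₂ : G) from h1').zpow_right i).eq

end MT

end Cfsg.Agent.MonsterT
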