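/-
Fused fixed elements of an element of order seven: only the conjugate itself lies in the conjugate subgroup.
-/
import Cfsg.Agent.Lib.MonsterT.SevenType
set_option autoImplicit false
set_option maxRecDepth 100000

namespace Cfsg.Agent.MonsterT

open Cfsg Cfsg.Agent.Golay Cfsg.Agent.Leech Cfsg.Agent.Leech.MatCert CentCert
open Cfsg.Agent.PermCert (allBelow allBelow_spec)
open Cfsg.Agent.LatticeMod2 (Rootless Cong)
open Seven (b7)

namespace SevenPure

/-- The sign change of a coordinate list. -/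
def flipL (m : ℕ) (l : List ℤ) : List ℤ :=
  (List.range 24).map fun i => bif m.testBit i then -l.getD i 0 else l.getD i 0

/-- A generator of the lattice separates two classes. -/
def sepB (a b : List ℤ) : Bool :=
  Nat.beq a.length 24 && Nat.beq b.length 24 && genL.any fun w => latB w && !decide ((dotL a w - dotL b w) % 16 = 0)

/-- Every class of norm eight but the standard one is moved by a sign change by more than the standard one. -/
def pureB (i : ℕ) : Bool :=
  !decide (dotL (rl Seven.reps i) (rl Seven.reps i) = 64) || Nat.beq i 1 ||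
    gBasis.any fun v => inCode v.2 && sepB (flipL v.2 (rl Seven.reps i)) (rl Seven.reps i) &&
      sepB (flipL v.2 (rl Seven.reps i)) (addL axisL (rl Seven.reps i))

theorem pure_ok : allBelow pureB 64 = true := by decide +kernel

theorem not_cong_of_sepB {a b : List ℤ} {x y : leechLattice} (hx : (x : GolayPt → ℤ) = toVec a)
    (hy : (y : GolayPt → ℤ) = toVec b) (h : sepB a b = true) : ¬ Cong x y := by
  simp only [sepB, Bool.and_eq_true, Nat.beq_eq, List.any_eq_true, Bool.not_eq_true', decide_eq_false_iff_not] at h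
  obtain ⟨⟨hla, hlb⟩, w, -, hw, hne⟩ := h
  intro hc
  have h2 := cong_parity (w := latV w hw) hc
  have ex := eight_ip x (latV w hw)
  have ey := eight_ip y (latV w hw)
  rw [hx] at ex
  rw [hy] at ey
  have hv : ((latV w hw : leechLattice) : GolayPt → ℤ) = toVec w := rfl
  rw [hv, ← dotL_vec hla (latB_length hw)] at ex
  rw [hv, ← dotL_vec hlb (latB_length hw)] at ey
  omega

/-- The sign change of a code word. -/
theorem flip_spec {m : ℕ} (hm : inCode m = true) {x : leechLattice} {l : List ℤ}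
    (hx : (x : GolayPt → ℤ) = toVec l) :
    ((mono ((1 : M24), (⟨ofMask m, ofMask_mem_golayCode hm⟩ : golayCode)) • x : leechLattice) : GolayPt → ℤ) =
      toVec (flipL m l) := by
  funext p
  rw [mono_smul, flipL, toVec_map]
  simp only [monoFun, sgn, hx]
  show (if ofMask m p = 0 then (1 : ℤ) else -1) * toVec l p = _
  rw [ofMask]
  cases hb : m.testBit (idx p) <;> simp [toVec]

end SevenPure

namespace Loc

variable {G : Type*} [Group G] [Finite G] {z : G}
  {Q : Subgroup (Subgroup.centralizer ({z} : Set G))} [Q.Normal]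
  {e : (Subgroup.centralizer ({z} : Set G)) ⧸ Q ≃* Spor.Co1} {ψ : leechLattice → Q ⧸ Subgroup.center Q}
  {β : Subgroup.centralizer ({z} : Set G)} {q : Q} (D : Loc z Q e ψ b7 7 β q)
include D

/-- **Purity.** A fixed conjugate in the subgroup of another fixed conjugate is that one, up to the centre. -/
theorem pure_seven {a b : Q} (ha : a ∈ fixSub Q β) (hb : b ∈ fixSub Q β) (haz : IsConj z (toG a))
    (hane : toG a ≠ z) (hbz : IsConj z (toG b)) (hbne : toG b ≠ z) {g : G} (hg : toG a = g * z * g⁻¹)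
    (hin : (b : Subgroup.centralizer ({z} : Set G)) ∈ conjInt Q g) : toG b = toG a ∨ toG b = z * toG a := by
  obtain ⟨e₂, ψ₂, β₂, D₂, hgen₂⟩ := D.mt.exists_loc (by norm_num : Nat.Prime 7) (by norm_num) Seven.b7_pow haz hane
    D.ord (mem_fixSub.1 ha) fun e' ψ' _ _ u hu hu1 _ => by
      haveI := finite_Co0
      haveI : Fact (Nat.Prime 7) := ⟨by norm_num⟩
      obtain ⟨w, i, hw⟩ := exists_conj_prime (by norm_num : Nat.Prime 7) (K := ↥crossStab)
        (b := (⟨b7, Seven.b7_mem⟩ : crossStab)) (c := u) (by rw [card_crossStab]; norm_num)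
        (orderOf_eq_prime (Subtype.ext Seven.b7_pow) fun h1 => Seven.b7_ne (congrArg Subtype.val h1))
        (orderOf_eq_prime hu hu1)
      exact ⟨w, i, by simpa using congrArg Subtype.val hw⟩
  have hb₂ : b ∈ fixSub Q β₂ := mem_fixSub.2 (toG_inj (by
    show (β₂ : G) * toG b * (β₂ : G)⁻¹ = toG b
    have hmem : (β₂ : G) ∈ Subgroup.zpowers (β : G) := hgen₂ ▸ Subgroup.mem_zpowers _
    obtain ⟨i, hi⟩ := Subgroup.mem_zpowers_iff.1 hmem
    rw [mul_inv_eq_iff_eq_mul, ← hi]
    exact ((show Commute (β : G) (toG b) from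
      mul_inv_eq_iff_eq_mul.1 (congrArg toG (mem_fixSub.1 hb))).zpow_left i).eq))
  obtain ⟨i, hi⟩ := D₂.exists_class_of Seven.model7 hb₂
  have h8 := (D₂.conj_iff_class Seven.model7 hi).1 ⟨hbz, hbne⟩
  rw [Seven.model7_R, ip_eight_iff] at h8
  by_cases hi1 : (i : ℕ) = 1
  · obtain rfl : i = Seven.one6 := Fin.ext hi1
    rw [Seven.R_one, D₂.ax] at hi
    rcases (D₂.mt.center_iff _).1 (QuotientGroup.eq.1 hi) with h | h
    · exact Or.inl (inv_mul_eq_one.1 (show (toG a)⁻¹ * toG b = 1 from h)).symm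
    · refine Or.inr ?_
      rw [← Subgroup.mem_centralizer_singleton_iff.1 a.1.2]
      exact eq_mul_of_inv_mul_eq (show (toG a)⁻¹ * toG b = z from h)
  exfalso
  have hp := allBelow_spec _ _ SevenPure.pure_ok i i.2
  simp only [SevenPure.pureB, h8, Bool.not_true, Bool.false_or, Bool.or_eq_true, Nat.beq_eq, hi1, false_or,
    List.any_eq_true, Bool.and_eq_true] at hp
  obtain ⟨w, -, ⟨hwc, hs1⟩, hs2⟩ := hp
  obtain ⟨d, hdd, hflip⟩ : ∃ d ∈ diag, ((d • Seven.model7.R i : leechLattice) : GolayPt → ℤ) =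
      toVec (SevenPure.flipL w.2 (rl Seven.reps i)) :=
    ⟨_, mem_diag.2 ⟨_, rfl⟩, SevenPure.flip_spec hwc (x := Seven.model7.R i) (rv_coe Seven.fix_ok i)⟩
  obtain ⟨v, k, -, hv, hk, heq, -⟩ := D₂.mt.main hg hane
  have hkc : k ∈ crossStab := by
    rw [← classStab_axis, mem_classStab]
    have h := co0_cong (g := k) (cong_symm (D₂.mt.psi_eq_iff.1 (hv.trans D₂.ax.symm)))
    rwa [hk] at h
  have hdm : k * d * k⁻¹ ∈ moved (liftInt e₂ g) k := by
    rw [heq]
    obtain ⟨t, ht, htd⟩ := hdd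
    set c : crossStab := ⟨k, hkc⟩ with hc
    have hmem : c * t * c⁻¹ ∈ rho.ker := by
      rw [MonoidHom.mem_ker, map_mul, map_mul, map_inv, MonoidHom.mem_ker.1 ht, mul_one, mul_inv_cancel]
    refine ⟨c * t * c⁻¹, hmem, ?_⟩
    rw [map_mul, map_mul, map_inv, htd, hc, Subgroup.subtype_apply]
  obtain ⟨n, hn, hnd⟩ := hdm
  simp only [MulEquiv.coe_toMonoidHom, MulAut.conj_apply] at hnd
  obtain rfl : n = d := mul_left_cancel (mul_right_cancel hnd)
  obtain ⟨x, hx, hxd⟩ := hn
  have hψ := D₂.mt.iso.2.2.2 x n hxd.symm _ b hi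
  change ψ₂ (n • Seven.model7.R i) = QuotientGroup.mk (cq x b) at hψ
  obtain ⟨qx, hqx⟩ := mem_conjInt.1 hx
  obtain ⟨qb, hqb⟩ := mem_conjInt.1 hin
  have hcomm : toG (cq x b) = g * toG (qx * qb * qx⁻¹ * qb⁻¹) * g⁻¹ * toG b := by
    show (x : G) * toG b * (x : G)⁻¹ = g * (toG qx * toG qb * (toG qx)⁻¹ * (toG qb)⁻¹) * g⁻¹ * toG b
    rw [show toG b = g * toG qb * g⁻¹ from hqb, hqx]
    group
  rcases (D₂.mt.center_iff _).1 (D₂.mt.comm_mem qb qx) with h | h
  · rw [h, mul_one, mul_inv_cancel, one_mul] at hcomm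
    rw [toG_inj hcomm, ← hi, D₂.mt.psi_eq_iff] at hψ
    exact SevenPure.not_cong_of_sepB hflip (y := Seven.model7.R i) (rv_coe Seven.fix_ok i) hs1 hψ
  · rw [h, ← hg] at hcomm
    rw [toG_inj (show toG (cq x b) = toG (a * b) from hcomm), QuotientGroup.mk_mul, ← hi, ← D₂.ax, ← D₂.mt.psi_add,
      D₂.mt.psi_eq_iff] at hψ
    refine SevenPure.not_cong_of_sepB hflip ?_ hs2 hψ
    rw [AddSubgroup.coe_add, toVec_addL, Seven.model7_R, rv_coe, ← latV_axisL]
    rfl

end Loc

end Cfsg.Agent.MonsterT
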