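import Cfsg.Agent.Lib.Compute.PermCert

/-! Certificates for an involution of the automorphism group of the Leech lattice inverting an element of order
seven, conjugate to a sign change. -/

namespace Cfsg.Agent.MonsterT.Seven

/-- An inverting involution. -/
def tMat : List (List ℤ) :=
  [[2, -2, -2, 2, 0, 2, 2, 0, -2, 0, 2, 0, 2, -2, -2, -2, 0, 2, 0, 0, 0, -2, 2, -2],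
  [-2, -2, 2, 2, 0, 2, 2, 0, -2, 0, -2, 0, -2, 2, -2, -2, 0, -2, 0, 0, 0, 2, 2, 2],
  [-2, 2, 2, 2, 0, -2, 2, 0, 2, 0, -2, 0, 2, -2, -2, -2, 0, 2, 0, 0, 0, 2, -2, -2],
  [2, 2, 2, -2, 0, 2, 2, 0, -2, 0, -2, 0, 2, 2, -2, 2, 0, -2, 0, 0, 0, -2, -2, -2],
  [0, 0, 0, 0, 2, 0, 0, 2, 0, 2, 0, -6, 0, 0, 0, 0, 2, 0, 2, 2, 2, 0, 0, 0],
  [2, 2, -2, 2, 0, -2, 2, 0, 2, 0, 2, 0, -2, 2, -2, -2, 0, -2, 0, 0, 0, -2, -2, 2],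
  [2, 2, 2, 2, 0, 2, 2, 0, 2, 0, 2, 0, 2, 2, 2, 2, 0, 2, 0, 0, 0, 2, 2, 2],
  [0, 0, 0, 0, 2, 0, 0, 2, 0, 2, 0, 2, 0, 0, 0, 0, 2, 0, 2, -6, 2, 0, 0, 0],
  [-2, -2, 2, -2, 0, 2, 2, 0, 2, 0, 2, 0, -2, 2, 2, -2, 0, 2, 0, 0, 0, -2, -2, -2],
  [0, 0, 0, 0, 2, 0, 0, 2, 0, -6, 0, 2, 0, 0, 0, 0, 2, 0, 2, 2, 2, 0, 0, 0],
  [2, -2, -2, -2, 0, 2, 2, 0, 2, 0, -2, 0, 2, -2, 2, -2, 0, -2, 0, 0, 0, 2, -2, 2],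
  [0, 0, 0, 0, -6, 0, 0, 2, 0, 2, 0, 2, 0, 0, 0, 0, 2, 0, 2, 2, 2, 0, 0, 0],
  [2, -2, 2, 2, 0, -2, 2, 0, -2, 0, 2, 0, -2, -2, 2, 2, 0, -2, 0, 0, 0, 2, -2, -2],
  [-2, 2, -2, 2, 0, 2, 2, 0, 2, 0, -2, 0, -2, -2, 2, 2, 0, -2, 0, 0, 0, -2, 2, -2],
  [-2, -2, -2, -2, 0, -2, 2, 0, 2, 0, 2, 0, 2, 2, -2, 2, 0, -2, 0, 0, 0, 2, 2, -2],
  [-2, -2, -2, 2, 0, -2, 2, 0, -2, 0, -2, 0, 2, 2, 2, 2, 0, 2, 0, 0, 0, -2, -2, 2],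
  [0, 0, 0, 0, 2, 0, 0, 2, 0, 2, 0, 2, 0, 0, 0, 0, 2, 0, 2, 2, -6, 0, 0, 0],
  [2, -2, 2, -2, 0, -2, 2, 0, 2, 0, -2, 0, -2, -2, -2, 2, 0, 2, 0, 0, 0, -2, 2, 2],
  [0, 0, 0, 0, 2, 0, 0, 2, 0, 2, 0, 2, 0, 0, 0, 0, 2, 0, -6, 2, 2, 0, 0, 0],
  [0, 0, 0, 0, 2, 0, 0, -6, 0, 2, 0, 2, 0, 0, 0, 0, 2, 0, 2, 2, 2, 0, 0, 0],
  [0, 0, 0, 0, 2, 0, 0, 2, 0, 2, 0, 2, 0, 0, 0, 0, -6, 0, 2, 2, 2, 0, 0, 0],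
  [-2, 2, 2, -2, 0, -2, 2, 0, -2, 0, 2, 0, 2, -2, 2, -2, 0, -2, 0, 0, 0, -2, 2, 2],
  [2, 2, -2, -2, 0, -2, 2, 0, -2, 0, -2, 0, -2, 2, 2, -2, 0, 2, 0, 0, 0, 2, 2, -2],
  [-2, 2, -2, -2, 0, 2, 2, 0, -2, 0, 2, 0, -2, -2, -2, 2, 0, 2, 0, 0, 0, 2, -2, 2]]

/-- A matrix carrying the standard frame to a frame of eigenvectors of the involution. -/
def kMat : List (List ℤ) :=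
  [[2, -2, -2, -2, -2, -2, 0, -2, -2, 0, 0, -2, 0, -2, 0, 2, -2, 0, 0, -2, -2, 0, -2, -2],
  [4, 0, 0, 0, 0, 0, -2, 0, 0, -2, -2, 0, -2, 0, -2, -4, 0, -2, -2, 0, 0, -2, 0, 0],
  [-2, -2, -2, -2, -2, -2, 0, 2, -2, 0, 0, -2, 0, -2, 0, -2, 2, 0, 0, 2, 2, 0, 2, 2],
  [0, -4, 0, 0, 0, 0, -2, 0, 4, -2, 2, 0, 2, 0, 2, 0, 0, 2, -2, 0, 0, -2, 0, 0],
  [0, 0, 0, 0, 0, 0, -2, -4, 0, 2, -2, 0, -2, 0, 2, 0, 0, 2, -2, 0, 0, 2, 0, 4],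
  [0, 0, 0, 0, 0, 0, 2, 0, 0, 2, -2, 0, 2, 0, 2, 0, 0, -2, -2, 0, 4, -2, -4, 0],
  [-2, -2, -2, -2, 2, 2, 0, -2, -2, 0, 0, 2, 0, 2, 0, -2, 2, 0, 0, 2, -2, 0, -2, -2],
  [0, 0, 0, 0, 0, 0, 2, 0, 0, -2, -2, 0, 2, 0, -2, 0, 4, 2, -2, -4, 0, 2, 0, 0],
  [2, 2, -2, -2, -2, -2, 0, 2, 2, 0, 0, 2, 0, 2, 0, 2, 2, 0, 0, 2, -2, 0, -2, 2],
  [0, 0, 0, 0, -4, 4, -2, 0, 0, 2, 2, 0, 2, 0, -2, 0, 0, -2, -2, 0, 0, 2, 0, 0],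
  [0, 0, 0, 0, 0, 0, -2, 0, 0, -2, 2, 0, -2, 0, -2, 0, 0, 2, 2, 0, 4, 2, -4, 0],
  [0, 0, 0, 0, 0, 0, -2, 4, 0, 2, -2, 0, -2, 0, 2, 0, 0, 2, -2, 0, 0, 2, 0, -4],
  [0, -4, 0, 0, 0, 0, 2, 0, 4, 2, -2, 0, -2, 0, -2, 0, 0, -2, 2, 0, 0, 2, 0, 0],
  [0, 0, 0, 0, 0, 0, 2, 0, 0, 2, 2, -4, -2, 4, -2, 0, 0, 2, -2, 0, 0, -2, 0, 0],
  [0, 0, 0, 0, 0, 0, -2, 0, 0, -2, -2, -4, 2, 4, 2, 0, 0, -2, 2, 0, 0, 2, 0, 0],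
  [2, -2, 2, 2, -2, -2, 0, -2, -2, 0, 0, 2, 0, 2, 0, 2, 2, 0, 0, 2, 2, 0, 2, -2],
  [0, 0, -4, 4, 0, 0, 2, 0, 0, -2, 2, 0, -2, 0, 2, 0, 0, -2, -2, 0, 0, 2, 0, 0],
  [2, 2, -2, -2, 2, 2, 0, -2, 2, 0, 0, -2, 0, -2, 0, 2, 2, 0, 0, 2, 2, 0, 2, -2],
  [0, 0, 0, 0, 4, -4, -2, 0, 0, 2, 2, 0, 2, 0, -2, 0, 0, -2, -2, 0, 0, 2, 0, 0],
  [0, 0, 0, 0, 0, 0, 2, 0, 0, -2, -2, 0, 2, 0, -2, 0, -4, 2, -2, 4, 0, 2, 0, 0],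
  [0, 0, 4, -4, 0, 0, 2, 0, 0, -2, 2, 0, -2, 0, 2, 0, 0, -2, -2, 0, 0, 2, 0, 0],
  [4, 0, 0, 0, 0, 0, 2, 0, 0, 2, 2, 0, 2, 0, 2, -4, 0, 2, 2, 0, 0, 2, 0, 0],
  [-2, 2, -2, -2, -2, -2, 0, -2, 2, 0, 0, 2, 0, 2, 0, -2, -2, 0, 0, -2, 2, 0, 2, -2],
  [-2, 2, 2, 2, -2, -2, 0, -2, 2, 0, 0, -2, 0, -2, 0, -2, 2, 0, 0, 2, -2, 0, -2, -2]]

/-- The code word of the sign change. -/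
def tWord : ℕ := 1204081

end Cfsg.Agent.MonsterT.Seven
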