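/-
An involution inverting an element of order seven of a group of Monster type, and the action of the normalizer.
-/
import Cfsg.Agent.Lib.MonsterT.SevenType
import Cfsg.Agent.Lib.MonsterT.SevenInvData
set_option autoImplicit false
set_option maxRecDepth 100000

namespace Cfsg.Agent.MonsterT

open Cfsg Cfsg.Agent.Golay Cfsg.Agent.Leech Cfsg.Agent.Leech.MatCert
open Cfsg.Agent.PermCert (allBelow allBelow_spec validElt)
open Cfsg.Agent.LatticeMod2 (Rootless Cong)
open Seven (b7)
open scoped commutatorElement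

namespace Seven

/-- The list of a coordinate axis. -/
def axL (i : ℕ) : List ℤ := (List.range 24).map fun j => if j = i then 8 else 0

/-- The checks on the inverting involution. -/
def tOK : Bool :=
  CentCert.twineB tMat Golay.Local.rep7 (Golay.Local.rep7.2, Golay.Local.rep7.1) && inCode tWord &&
    !Nat.beq tWord 0 && !Nat.beq tWord (2 ^ 24 - 1) &&
    allBelow (fun i => latB (axL i) && divL kMat (axL i) && latB (imgL kMat (axL i)) &&
      divL tMat (imgL kMat (axL i)) &&
      eqL (imgL tMat (imgL kMat (axL i)))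
        ((imgL kMat (axL i)).map fun a => if tWord.testBit i then -a else a)) 24

theorem tMat_ok : certOK tMat = true := by decide +kernel

theorem kMat_ok : certOK kMat = true := by decide +kernel

theorem t_ok : tOK = true := by decide +kernel

/-- The inverting involution. -/
noncomputable def nT : Co0 := CentCert.gOf tMat tMat_ok

/-- The element carrying the frames. -/
noncomputable def kT : Co0 := CentCert.gOf kMat kMat_ok

/-- The sign change. -/
noncomputable def epsT : Co0 :=
  mono (1, ⟨ofMask tWord, ofMask_mem_golayCode (by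
    have h := t_ok
    simp only [tOK, Bool.and_eq_true] at h
    exact h.1.1.1.2)⟩)

theorem nT_turn : nT * b7 = b7⁻¹ * nT := by
  have h := t_ok
  simp only [tOK, Bool.and_eq_true] at h
  obtain ⟨hv, hM, -⟩ := inv_facts
  have := CentCert.twine_spec tMat_ok rep7_valid hv Golay.Local.R7_mem hM h.1.1.1.1
  rwa [bOf_inv] at this

theorem epsT_mem : epsT ∈ diag := mem_diag.2 ⟨_, rfl⟩

theorem epsT_not_center : epsT ∉ Subgroup.center Co0 := by
  intro hc
  have h := t_ok
  simp only [tOK, Bool.and_eq_true, Bool.not_eq_true', ← Bool.not_eq_true, Nat.beq_eq] at h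
  obtain ⟨⟨⟨⟨-, hin⟩, h0⟩, h1⟩, -⟩ := h
  have hlt : tWord < 2 ^ 24 := by decide +kernel
  have key : ∀ s : ℤ, (∀ i : GolayPt, sgn (ofMask tWord) i = s) →
      (s = 1 → False) ∧ (s = -1 → False) := by
    intro s hs
    constructor <;> rintro rfl
    · refine h0 (Nat.eq_of_testBit_eq fun i => ?_)
      rw [Nat.zero_testBit]
      rcases Nat.lt_or_ge i 24 with hi | hi
      · have := hs (Golay.Local.ptN i)
        simp only [sgn, ofMask, Golay.Local.idx_ptN hi] at this
        by_contra hb
        simp [Bool.not_eq_false] at hb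
        simp [hb] at this
      · exact Nat.testBit_eq_false_of_lt (hlt.trans_le (Nat.pow_le_pow_right (by norm_num) hi))
    · refine h1 (Nat.eq_of_testBit_eq fun i => ?_)
      rw [Nat.testBit_two_pow_sub_one]
      rcases Nat.lt_or_ge i 24 with hi | hi
      · have := hs (Golay.Local.ptN i)
        simp only [sgn, ofMask, Golay.Local.idx_ptN hi] at this
        rw [decide_eq_true hi]
        by_contra hb
        simp [Bool.not_eq_true] at hb
        simp [hb] at this
      · rw [decide_eq_false (not_lt.2 hi)]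
        exact Nat.testBit_eq_false_of_lt (hlt.trans_le (Nat.pow_le_pow_right (by norm_num) hi))
  rcases mem_center_iff.1 hc with e | e
  · refine (key 1 fun i => ?_).1 rfl
    have e' := congrArg (fun u : Co0 => u • axis i) e
    simp only [epsT, mono_axis, one_smul, OneMemClass.coe_one, Equiv.Perm.one_apply] at e'
    exact (sgn_axis_inj (sgn_cases _ _) (e'.trans (one_smul ℤ _).symm)).2
  · refine (key (-1) fun i => ?_).2 rfl
    have e' := congrArg (fun u : Co0 => u • axis i) e
    simp only [epsT, mono_axis, negCo0_smul, OneMemClass.coe_one, Equiv.Perm.one_apply] at e'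
    exact (sgn_axis_inj (sgn_cases _ _) (e'.trans (neg_one_zsmul (axis i)).symm)).2

theorem nT_conj : nT * kT = kT * epsT := by
  have h := t_ok
  simp only [tOK, Bool.and_eq_true] at h
  refine co0_ext fun p => ?_
  have hax : ∀ hl : latB (axL (idx p)) = true, latV (axL (idx p)) hl = axis p := fun hl => by
    refine Subtype.ext (funext fun r => ?_)
    show toVec (axL (idx p)) r = _
    rw [coe_axis, toVec, axL, List.getD_eq_getElem _ _ (by simp [idx_lt]), List.getElem_map, List.getElem_range,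
      Pi.single_apply]
    exact if_congr (idx_injective.eq_iff (a := r) (b := p)) rfl rfl
  have hp := allBelow_spec _ _ h.2 (idx p) (idx_lt p)
  simp only [Bool.and_eq_true, eqL, decide_eq_true_eq] at hp
  obtain ⟨⟨⟨⟨hl, hd1⟩, hl2⟩, hd2⟩, heq⟩ := hp
  have e1 : kT • axis p = latV _ hl2 := by
    rw [← hax hl]
    exact smul_latV kMat_ok (CentCert.gOf_spec kMat_ok) hl hl2 hd1 rfl
  have hz : ∀ (n : ℤ) (v : leechLattice), kT • (n • v) = n • (kT • v) := fun n v => by
    rw [← hom0_apply, map_zsmul, hom0_apply]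
  rw [mul_smul, mul_smul, epsT, mono_axis, hz, OneMemClass.coe_one, Equiv.Perm.one_apply, e1]
  refine Subtype.ext (funext fun r => ?_)
  have hd' := (CentCert.gOf_spec tMat_ok (latV _ hl2)).symm.trans
    (img_spec (lengths (by have := tMat_ok; simp only [certOK, Bool.and_eq_true] at this; exact this.1.1.1)).1
      (lengths (by have := tMat_ok; simp only [certOK, Bool.and_eq_true] at this; exact this.1.1.1)).2
      (latB_length hl2) hd2)
  have hr := congrFun hd' r
  simp only [Pi.smul_apply, nsmul_eq_mul, heq] at hr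
  push_cast at hr
  have hlen : idx r < (imgL kMat (axL (idx p))).length := latB_length hl2 ▸ idx_lt r
  have hgoal : toVec ((imgL kMat (axL (idx p))).map fun a => if tWord.testBit (idx p) then -a else a) r =
      sgn (ofMask tWord) p * toVec (imgL kMat (axL (idx p))) r := by
    rw [toVec, toVec, List.getD_eq_getElem _ _ (by simpa using hlen), List.getElem_map,
      List.getD_eq_getElem _ _ hlen]
    cases hb : tWord.testBit (idx p) <;> simp [sgn, ofMask, hb]
  rw [hgoal] at hr
  show ((CentCert.gOf tMat tMat_ok • latV _ hl2 : leechLattice) : GolayPt → ℤ) r =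
    sgn (ofMask tWord) p * toVec (imgL kMat (axL (idx p))) r
  omega

end Seven

variable {G : Type*} [Group G] [Finite G] {z : G}
  {Q : Subgroup (Subgroup.centralizer ({z} : Set G))} [Q.Normal]
  {e : (Subgroup.centralizer ({z} : Set G)) ⧸ Q ≃* Spor.Co1} {ψ : leechLattice → Q ⧸ Subgroup.center Q}

namespace MT

variable (H : MT z Q e ψ)
include H

/-- Sign changes in the coordinates of a conjugate of the central involution lift to involutions. -/
theorem exists_involution_lift {g : G} {q₀ : Q} (hs : toG q₀ = g * z * g⁻¹) (hne : toG q₀ ≠ z) :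
    ∃ k : Co0, ∀ d ∈ diag, d ∉ Subgroup.center Co0 → ∃ x : Subgroup.centralizer ({z} : Set G),
      x * x = 1 ∧ piHom e x = QuotientGroup.mk (k⁻¹ * d * k) := by
  haveI : Fact (Nat.Prime 2) := ⟨Nat.prime_two⟩
  obtain ⟨v, k, -, -, -, heq, -⟩ := H.main hs hne
  refine ⟨k, fun d hd hdc => ?_⟩
  rw [← heq] at hd
  obtain ⟨n, ⟨x, hx, hxn⟩, rfl⟩ := hd
  have hn : k⁻¹ * (MulAut.conj k).toMonoidHom n * k = n := by
    show k⁻¹ * (k * n * k⁻¹) * k = n
    group
  rw [hn]
  have hxQ : x ∉ Q := fun hq => hdc (by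
    rw [piHom_mem e hq] at hxn
    have hnc := (QuotientGroup.eq_one_iff n).1 hxn.symm
    exact (inferInstance : (Subgroup.center Co0).Normal).conj_mem n hnc k)
  obtain ⟨a, ha⟩ := mem_conjInt.1 hx
  have hmul : ∀ u w : G, g * u * g⁻¹ * (g * w * g⁻¹) = g * (u * w) * g⁻¹ := fun u w => by group
  have hx2 : (x * x = 1) ∨ toG (a * a) = z := by
    rcases (H.center_iff _).1 (H.sq_mem a) with h | h
    · left
      refine Subtype.ext ?_
      show (x : G) * x = 1
      rw [ha, hmul]
      show g * toG (a * a) * g⁻¹ = 1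
      rw [h]; group
    · exact Or.inr h
  rcases hx2 with hx2 | hx2
  · exact ⟨x, hx2, hxn⟩
  -- the elements of the intersection in the coordinates of the conjugate
  let A : Subgroup Q := (conjInt Q g).subgroupOf Q
  let pull : ↥A → Q := fun y => (mem_conjInt.1 y.2).choose
  have hpull : ∀ y : A, toG y.1 = g * toG (pull y) * g⁻¹ := fun y => (mem_conjInt.1 y.2).choose_spec
  let φ : ↥A →* Q := MonoidHom.mk' pull fun y w => toG_inj (by
    have h1 := hpull (y * w)
    rw [show toG (y * w : A).1 = toG y.1 * toG w.1 from rfl, hpull y, hpull w, hmul] at h1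
    exact (mul_left_cancel (mul_right_cancel h1)).symm)
  have hφ : Function.Injective φ := fun y w h => Subtype.ext (toG_inj (by
    rw [hpull y, hpull w]; exact congrArg (fun r => g * toG r * g⁻¹) h))
  have hex : ∃ y : A, a * φ y ≠ φ y * a := by
    by_contra hall
    push Not at hall
    have hcomm : ∀ u ∈ φ.range ⊔ Subgroup.zpowers a, ∀ w ∈ φ.range ⊔ Subgroup.zpowers a, u * w = w * u := by
      have hle : φ.range ⊔ Subgroup.zpowers a ≤
          Subgroup.centralizer ((φ.range ⊔ Subgroup.zpowers a : Subgroup Q) : Set Q) := by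
        rw [← Subgroup.closure_eq φ.range, Subgroup.zpowers_eq_closure, ← Subgroup.closure_union,
          Subgroup.centralizer_closure, Subgroup.closure_le]
        rintro u hu
        refine Subgroup.mem_centralizer_iff.2 fun w hw => ?_
        rcases hu with ⟨y, rfl⟩ | hu <;> rcases hw with ⟨y', rfl⟩ | hw
        · rw [← map_mul, ← map_mul]
          exact congrArg φ (Subtype.ext (H.int_abelian hs hne y'.2 y.2))
        · rw [Set.mem_singleton_iff.1 hw]; exact hall y
        · rw [Set.mem_singleton_iff.1 hu]; exact (hall y').symm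
        · rw [Set.mem_singleton_iff.1 hu, Set.mem_singleton_iff.1 hw]
      exact fun u hu w hw => (Subgroup.mem_centralizer_iff.1 (hle hw) u hu)
    have hab : IsMulCommutative ↥(φ.range ⊔ Subgroup.zpowers a) :=
      ⟨⟨fun u w => Subtype.ext (hcomm u u.2 w w.2)⟩⟩
    have h1 := FGBasics.XS.card_abelian_sq_le H.setting.2.2.1 _ hab
    rw [H.setting.2.2.2.1] at h1
    have h2 : Nat.card φ.range = 2 ^ 13 := by
      rw [← Nat.card_congr (MonoidHom.ofInjective hφ).toEquiv]
      exact H.card_inter hs hne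
    have hnotin : a ∉ φ.range := fun ⟨y, hy⟩ => hxQ (by
      have : x = (y.1 : Subgroup.centralizer ({z} : Set G)) := Subtype.ext (by
        rw [ha, ← hy]; exact (hpull y).symm)
      rw [this]; exact y.1.2)
    have hlt : φ.range < φ.range ⊔ Subgroup.zpowers a :=
      lt_of_le_of_ne le_sup_left fun e1 => hnotin (e1 ▸ Subgroup.mem_sup_right (Subgroup.mem_zpowers a))
    have h3 : Nat.card φ.range < Nat.card ↥(φ.range ⊔ Subgroup.zpowers a) := by
      by_contra hge
      exact hlt.ne (Subgroup.eq_of_le_of_card_ge le_sup_left (not_lt.1 hge))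
    rw [h2] at h3
    have h4 : 8193 * 8193 ≤ Nat.card ↥(φ.range ⊔ Subgroup.zpowers a) * Nat.card ↥(φ.range ⊔ Subgroup.zpowers a) :=
      Nat.mul_le_mul (by omega) (by omega)
    norm_num at h1
    omega
  obtain ⟨y, hy⟩ := hex
  have hy2 : φ y * φ y = 1 := by
    have h1 : toG (y.1 * y.1) = g * toG (φ y * φ y) * g⁻¹ := by
      show toG y.1 * toG y.1 = _
      rw [hpull y, hmul]; rfl
    rcases (H.center_iff _).1 (H.sq_mem (φ y)) with h | h
    · exact toG_inj h
    · exfalso
      rw [h, ← hs] at h1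
      rcases (H.center_iff _).1 (H.sq_mem y.1) with h' | h'
      · rw [h'] at h1
        have hz := hs
        rw [← h1, eq_comm, mul_inv_eq_one, mul_eq_left] at hz
        exact H.z_ne_one hz
      · exact hne (h1.symm.trans h')
  refine ⟨x * (y.1 : Subgroup.centralizer ({z} : Set G)), Subtype.ext ?_, ?_⟩
  · show (x : G) * toG y.1 * ((x : G) * toG y.1) = 1
    rw [ha, hpull y, hmul, hmul]
    show g * toG (a * φ y * (a * φ y)) * g⁻¹ = 1
    have hc : toG (φ y * a * (φ y)⁻¹ * a⁻¹) = z := by
      rcases (H.center_iff _).1 (H.comm_mem a (φ y)) with h | h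
      · refine absurd ?_ hy
        have : φ y * a * (φ y)⁻¹ * a⁻¹ = 1 := toG_inj h
        rw [mul_inv_eq_one, mul_inv_eq_iff_eq_mul] at this
        exact this.symm
      · exact h
    have e1 : toG (a * φ y * (a * φ y)) = 1 := by
      have : a * φ y * (a * φ y) = a * (φ y * a * (φ y)⁻¹ * a⁻¹) * a * (φ y * φ y) := by group
      rw [this, hy2, mul_one]
      show toG a * toG (φ y * a * (φ y)⁻¹ * a⁻¹) * toG a = 1
      rw [hc]
      have hza : z * toG a = toG a * z := (Subgroup.mem_centralizer_singleton_iff.1 a.1.2).symm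
      rw [mul_assoc, hza, ← mul_assoc, show toG a * toG a = z from hx2, H.z_sq]
    rw [e1]; group
  · rw [map_mul, piHom_mem e y.1.2, mul_one, hxn]
    rfl

end MT

namespace Loc

variable {β : Subgroup.centralizer ({z} : Set G)} {q : Q} (D : Loc z Q e ψ b7 7 β q)
include D

/-- **An involution of the centralizer of the central involution inverting the element.** -/
theorem exists_inverting (hq : IsConj z (toG q)) (hne : toG q ≠ z) :
    ∃ t : Subgroup.centralizer ({z} : Set G), orderOf t = 2 ∧ t * β * t⁻¹ = β⁻¹ := by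
  haveI : Fact (Nat.Prime 2) := ⟨Nat.prime_two⟩
  haveI : Fact (Nat.Prime 7) := ⟨by norm_num⟩
  obtain ⟨g, hg⟩ := isConj_iff.1 hq
  obtain ⟨k, hk⟩ := D.mt.exists_involution_lift (g := g) hg.symm hne
  obtain ⟨x₀, hx0, hx0n⟩ := hk _ Seven.epsT_mem Seven.epsT_not_center
  obtain ⟨h, hh⟩ := D.mt.exists_lift (Seven.kT * k)
  set x := h * x₀ * h⁻¹ with hxdef
  have hx : x * x = 1 := by
    rw [hxdef, show h * x₀ * h⁻¹ * (h * x₀ * h⁻¹) = h * (x₀ * x₀) * h⁻¹ by group, hx0]; group
  have hxn : piHom e x = QuotientGroup.mk Seven.nT := by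
    rw [hxdef, map_mul, map_mul, map_inv, hh, hx0n, ← QuotientGroup.mk_inv, ← QuotientGroup.mk_mul,
      ← QuotientGroup.mk_mul]
    congr 1
    rw [show Seven.nT = Seven.kT * Seven.epsT * Seven.kT⁻¹ by rw [← Seven.nT_conj, mul_inv_cancel_right]]
    group
  have hxinv : x⁻¹ = x := inv_eq_of_mul_eq_one_right hx
  have hximg : piHom e (x * β * x⁻¹) = (piHom e β)⁻¹ := by
    rw [map_mul, map_mul, map_inv, hxn, D.img, ← QuotientGroup.mk_inv, ← QuotientGroup.mk_inv,
      ← QuotientGroup.mk_mul, ← QuotientGroup.mk_mul, Seven.nT_turn, mul_inv_cancel_right]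
  set y := x * (β * x * β⁻¹) with hydef
  have hyx : x * y * x⁻¹ = y⁻¹ := by
    rw [hydef, show (x * (β * x * β⁻¹))⁻¹ = β * x⁻¹ * β⁻¹ * x⁻¹ by group, hxinv,
      show x * (x * (β * x * β⁻¹)) * x = (x * x) * (β * x * β⁻¹) * x by group, hx, one_mul]
  have hyimg : piHom e y = ((piHom e β)⁻¹) ^ 2 := by
    have : y = x * β * x⁻¹ * β⁻¹ := by rw [hydef, hxinv]; group
    rw [this, map_mul, hximg, map_inv, pow_two]
  have hy7 : y ^ 7 ∈ Q := D.mt.mem_Q_of_piHom (by
    rw [map_pow, hyimg, ← pow_mul, inv_pow, inv_eq_one, pow_mul', ← map_pow, D.beta_pow, map_one, one_pow])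
  obtain ⟨m, hm⟩ := D.mt.setting.2.2.1.1.1 ⟨y ^ 7, hy7⟩
  have hm' : (y ^ 7) ^ 2 ^ m = 1 := congrArg Subtype.val hm
  set w := y ^ 2 ^ m with hwdef
  have hw7 : w ^ 7 = 1 := by rw [hwdef, ← pow_mul, mul_comm, pow_mul, hm']
  have hmk : orderOf (piHom e β) = 7 := by rw [D.img]; exact D.mk_order
  have hw1 : w ≠ 1 := by
    intro h1
    have h2 := congrArg (piHom e) h1
    rw [hwdef, map_pow, hyimg, ← pow_mul, inv_pow, map_one, inv_eq_one, ← orderOf_dvd_iff_pow_eq_one, hmk,
      ← pow_succ'] at h2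
    have := Nat.prime_dvd_prime_iff_eq (by norm_num : Nat.Prime 7) Nat.prime_two |>.1
      ((by norm_num : Nat.Prime 7).dvd_of_dvd_pow h2)
    omega
  have hwx : x * w * x⁻¹ = w⁻¹ := by rw [hwdef, ← conj_pow, hyx, inv_pow]
  set K := (Subgroup.zpowers (QuotientGroup.mk b7 : Spor.Co1)).comap (piHom e) with hKdef
  have hK : ¬ 7 ^ 2 ∣ Nat.card K := by
    haveI := finite_Co0
    have h1 := ((piHom e).comp K.subtype).ker.card_mul_index
    rw [Subgroup.index_ker] at h1
    have h2 : Nat.card ((piHom e).comp K.subtype).ker ∣ 2 ^ 25 := by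
      rw [← D.mt.setting.2.2.2.1, ← Subgroup.card_map_of_injective K.subtype_injective]
      refine Subgroup.card_dvd_of_le ?_
      rintro _ ⟨u, hu, rfl⟩
      exact D.mt.mem_Q_of_piHom hu
    have h3 : Nat.card ((piHom e).comp K.subtype).range ∣ 7 := by
      conv_rhs => rw [← D.mk_order, ← Nat.card_zpowers]
      refine Subgroup.card_dvd_of_le ?_
      rintro _ ⟨u, rfl⟩
      exact u.2
    intro hd
    rw [← h1] at hd
    have h4 := hd.trans (Nat.mul_dvd_mul h2 h3)
    norm_num at h4
  have hβK : β ∈ K := Subgroup.mem_comap.2 (by rw [D.img]; exact Subgroup.mem_zpowers _)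
  have hwK : w ∈ K := Subgroup.mem_comap.2 (by
    rw [hwdef, map_pow, hyimg, D.img]
    exact Subgroup.pow_mem _ (Subgroup.pow_mem _ (Subgroup.inv_mem _ (Subgroup.mem_zpowers _)) _) _)
  obtain ⟨u, a, hu⟩ := exists_conj_prime (by norm_num : Nat.Prime 7) hK (b := (⟨β, hβK⟩ : K)) (c := ⟨w, hwK⟩)
    (by rw [Subgroup.orderOf_mk, D.ord]) (by rw [Subgroup.orderOf_mk]; exact orderOf_eq_prime hw7 hw1)
  have hu' : (u : Subgroup.centralizer ({z} : Set G)) * w * (u : Subgroup.centralizer ({z} : Set G))⁻¹ = β ^ a := by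
    simpa using congrArg Subtype.val hu
  refine ⟨(u : Subgroup.centralizer ({z} : Set G)) * x * (u : Subgroup.centralizer ({z} : Set G))⁻¹, ?_, ?_⟩
  · refine orderOf_eq_prime ?_ fun h1 => ?_
    · rw [pow_two, show ∀ v : Subgroup.centralizer ({z} : Set G), v * x * v⁻¹ * (v * x * v⁻¹) = v * (x * x) * v⁻¹
        from fun v => by group, hx]
      group
    · have hx1 : x = 1 := by
        rw [mul_inv_eq_one, mul_eq_left] at h1; exact h1
      rw [hx1, one_mul, inv_one, mul_one] at hwx
      have : w ^ 2 = 1 := by rw [pow_two]; exact mul_eq_one_iff_eq_inv.2 hwx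
      exact hw1 (by
        have e7 : w ^ 7 = (w ^ 2) ^ 3 * w := by generalize w = v; rw [← pow_mul, ← pow_succ]
        rw [hw7, this, one_pow, one_mul] at e7
        exact e7.symm)
  · have hap : ¬ 7 ∣ a := fun ⟨j, hj⟩ => by
      rw [hj, pow_mul, D.beta_pow, one_pow, mul_inv_eq_one, mul_eq_left] at hu'
      exact hw1 hu'
    obtain ⟨j, -, hj⟩ := Nat.exists_mul_mod_eq_one_of_coprime ((Nat.Prime.coprime_iff_not_dvd (by norm_num)).2 hap).symm
      (by norm_num : 1 < 7)
    have hβj : β = (β ^ a) ^ j := by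
      rw [← pow_mul, ← Nat.mod_add_div (a * j) 7, hj, pow_add, pow_mul, D.beta_pow, one_pow, pow_one, mul_one]
    have hinv : ∀ v : Subgroup.centralizer ({z} : Set G), v * x * v⁻¹ * (v * w * v⁻¹) * (v * x * v⁻¹)⁻¹ =
        (v * w * v⁻¹)⁻¹ := fun v => by
      rw [show v * x * v⁻¹ * (v * w * v⁻¹) * (v * x * v⁻¹)⁻¹ = v * (x * w * x⁻¹) * v⁻¹ by group, hwx]; group
    have := hinv (u : Subgroup.centralizer ({z} : Set G))
    rw [hu'] at this
    rw [hβj, ← conj_pow, this, inv_pow]

/-- Every automorphism of the subgroup of order seven is induced. -/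
theorem exists_power (hq : IsConj z (toG q)) (hne : toG q ≠ z) {a : ℕ} (ha : a % 7 ≠ 0) :
    ∃ n : Subgroup.centralizer ({z} : Set G), n * β * n⁻¹ = β ^ a := by
  obtain ⟨g, -, hg2⟩ := exists_squarer
  obtain ⟨h, hh⟩ := D.mt.exists_lift g
  obtain ⟨n, -, hnb, -⟩ := D.lift ⊤ (Subgroup.mem_top _) hg2 (Subgroup.mem_top h) hh
  obtain ⟨t, -, ht⟩ := D.exists_inverting hq hne
  have key : ∀ i : ℕ, n ^ i * β * (n ^ i)⁻¹ = β ^ (2 ^ i) := by
    intro i
    induction i with
    | zero => simp
    | succ i ih =>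
      calc n ^ (i + 1) * β * (n ^ (i + 1))⁻¹ = n * (n ^ i * β * (n ^ i)⁻¹) * n⁻¹ := by rw [pow_succ']; group
        _ = _ := by rw [ih, ← conj_pow, hnb, ← pow_mul, ← pow_succ']
  have key' : ∀ i : ℕ, t * n ^ i * β * (t * n ^ i)⁻¹ = β ^ (6 * 2 ^ i) := by
    intro i
    rw [show t * n ^ i * β * (t * n ^ i)⁻¹ = t * (n ^ i * β * (n ^ i)⁻¹) * t⁻¹ by group, key, ← conj_pow, ht,
      pow_mul]
    congr 1
    exact inv_eq_of_mul_eq_one_right (by rw [← pow_succ']; exact D.beta_pow)
  have fin : ∀ {n' : Subgroup.centralizer ({z} : Set G)} {c : ℕ}, n' * β * n'⁻¹ = β ^ c → a % 7 = c % 7 →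
      ∃ n'' : Subgroup.centralizer ({z} : Set G), n'' * β * n''⁻¹ = β ^ a := fun {n' c} h1 h2 =>
    ⟨n', by rw [h1, pow_eq_pow_iff_modEq, D.ord]; exact h2.symm⟩
  have hlt := Nat.mod_lt a (show 7 > 0 by norm_num)
  interval_cases hr : (a % 7)
  · exact absurd rfl ha
  · exact fin (key 0) (by omega)
  · exact fin (key 1) (by omega)
  · exact fin (key' 2) (by omega)
  · exact fin (key 2) (by omega)
  · exact fin (key' 1) (by omega)
  · exact fin (key' 0) (by omega)

end Loc

end Cfsg.Agent.MonsterT
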