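/-
The layer of the centralizer of an element of order seven of a group of Monster type covers the centralizer of the
central involution.
-/
import Cfsg.Agent.Lib.MonsterT.SevenType
import Cfsg.Agent.Lib.MonsterT.HeldLayer
import Cfsg.Agent.Lib.MonsterT.CentralLayer
set_option autoImplicit false
set_option maxRecDepth 100000

namespace Cfsg.Agent.MonsterT

open Cfsg Cfsg.Agent.Golay Cfsg.Agent.Leech
open Cfsg.Agent.LatticeMod2 (Rootless Cong)
open Seven (b7)

variable {G : Type*} [Group G] [Finite G] {z : G}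
  {Q : Subgroup (Subgroup.centralizer ({z} : Set G))} [Q.Normal]
  {e : (Subgroup.centralizer ({z} : Set G)) ⧸ Q ≃* Spor.Co1} {ψ : leechLattice → Q ⧸ Subgroup.center Q}

namespace Seven

theorem basis_norm : CentCert.rl Seven.reps 0 = List.replicate 24 0 ∧
    (PermCert.allBelow (fun j => decide (MatCert.dotL (CentCert.rl Seven.reps (2 ^ j)) (CentCert.rl Seven.reps (2 ^ j)) = 64)) 6) = true := by
  decide +kernel

theorem basis_eight {j : ℕ} (hj : j < 6) (h : 2 ^ j < 2 ^ 6) :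
    ip (model7.R ⟨2 ^ j, h⟩) (model7.R ⟨2 ^ j, h⟩) = 8 := by
  rw [model7_R, CentCert.ip_eight_iff]
  exact PermCert.allBelow_spec _ _ basis_norm.2 j hj

end Seven

namespace Loc

variable {β : Subgroup.centralizer ({z} : Set G)} {q : Q} (D : Loc z Q e ψ b7 7 β q)
include D

/-- All conjugates of the central involution in the fixed subgroup are fused in the centralizer. -/
theorem fused_all {a : Q} (ha : a ∈ fixSub Q β) (haz : IsConj z (toG a)) (hane : toG a ≠ z) :
    ∃ h : G, h * (β : G) = (β : G) * h ∧ h * z * h⁻¹ = toG a := by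
  obtain ⟨e₂, ψ₂, β₂, D₂, hgen₂⟩ := D.mt.exists_loc (by norm_num : Nat.Prime 7) (by norm_num) Seven.b7_pow haz hane
    D.ord (mem_fixSub.1 ha) fun e' ψ' _ _ g hg hg1 _ => by
      haveI := finite_Co0
      haveI : Fact (Nat.Prime 7) := ⟨by norm_num⟩
      obtain ⟨u, i, hu⟩ := exists_conj_prime (by norm_num : Nat.Prime 7) (K := ↥crossStab)
        (b := (⟨b7, Seven.b7_mem⟩ : crossStab)) (c := g) (by rw [card_crossStab]; norm_num)
        (orderOf_eq_prime (Subtype.ext Seven.b7_pow) fun h1 => Seven.b7_ne (congrArg Subtype.val h1))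
        (orderOf_eq_prime hg hg1)
      exact ⟨u, i, by simpa using congrArg Subtype.val hu⟩
  obtain ⟨h', h1', h2'⟩ := D₂.fused_seven haz hane
  refine ⟨h', ?_, h2'⟩
  have hmem : (β : G) ∈ Subgroup.zpowers (β₂ : G) := by rw [hgen₂]; exact Subgroup.mem_zpowers _
  obtain ⟨i, hi⟩ := Subgroup.mem_zpowers_iff.1 hmem
  rw [← hi]
  exact ((show Commute h' (β₂ : G) from h1').zpow_right i).eq

/-- The fixed subgroup is generated by the conjugates of the central involution in it. -/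
theorem fix_generated {a : Q} (ha : a ∈ fixSub Q β) (S : Subgroup Q)
    (hS : ∀ b : Q, b ∈ fixSub Q β → IsConj z (toG b) → b ∈ S) : a ∈ S := by
  have hcen : ∀ c ∈ Subgroup.center Q, c ∈ S := by
    intro c hc
    rcases (D.mt.center_iff c).1 hc with h | h
    · rw [show c = 1 from toG_inj h]; exact S.one_mem
    · exact hS c (D.center_mem_fix hc) (by rw [h])
  have key : ∀ i : Fin (2 ^ 6), ∀ b ∈ fixSub Q β, ψ (Seven.model7.R i) = QuotientGroup.mk b → b ∈ S := by
    intro i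
    obtain ⟨n, hn⟩ := i
    induction n using Nat.strong_induction_on with
    | _ n ih =>
      intro b hb hψ
      rcases Nat.eq_zero_or_pos n with h0 | h0
      · subst h0
        rw [Seven.model7_R, CentCert.rv_zero _ _ rfl] at hψ
        exact hcen b (D.mt.mem_center_of_eq hψ)
      · set j := Nat.log2 n
        have hle : 2 ^ j ≤ n := Nat.log2_self_le (by omega)
        have hlt : n < 2 ^ (j + 1) := Nat.lt_log2_self
        have hj : j < 6 := by
          by_contra hcon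
          have := Nat.pow_le_pow_right (show 0 < 2 by norm_num) (not_lt.1 hcon)
          omega
        have hpj : 2 ^ j < 2 ^ 6 := lt_of_le_of_lt hle hn
        have hsmall : n ^^^ 2 ^ j < n := by
          refine Nat.lt_of_testBit j ?_ ?_ fun i hi => ?_
          · rw [Nat.testBit_xor, Nat.testBit_two_pow_self]
            rw [Nat.testBit_eq_decide_div_mod_eq, Nat.div_eq_of_lt_le (k := 1) (by omega) (by rw [pow_succ] at hlt; omega)]
            rfl
          · rw [Nat.testBit_eq_decide_div_mod_eq, Nat.div_eq_of_lt_le (k := 1) (by omega) (by rw [pow_succ] at hlt; omega)]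
            rfl
          · rw [Nat.testBit_xor, Nat.testBit_two_pow_of_ne (by omega), Bool.xor_false]
        obtain ⟨c, hc, hcψ⟩ := D.exists_rep_class Seven.model7 ⟨2 ^ j, hpj⟩
        obtain ⟨d, hd, hdψ⟩ := D.exists_rep_class Seven.model7 ⟨n ^^^ 2 ^ j, lt_trans hsmall hn⟩
        have hcS : c ∈ S := hS c hc (D.mt.conj_of_eight hcψ (Seven.basis_eight hj hpj)).1
        have hdS : d ∈ S := ih _ hsmall (lt_trans hsmall hn) d hd hdψ
        have hcong : Cong (Seven.model7.R ⟨n ^^^ 2 ^ j, lt_trans hsmall hn⟩ + Seven.model7.R ⟨2 ^ j, hpj⟩)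
            (Seven.model7.R ⟨n, hn⟩) := by
          have := CentCert.rv_add' Seven.fix_ok ⟨n ^^^ 2 ^ j, lt_trans hsmall hn⟩ ⟨2 ^ j, hpj⟩
          rwa [show CentCert.xorFin (⟨n ^^^ 2 ^ j, lt_trans hsmall hn⟩ : Fin (2 ^ 6)) ⟨2 ^ j, hpj⟩ = ⟨n, hn⟩ from
            Fin.ext (by show n ^^^ 2 ^ j ^^^ 2 ^ j = n; rw [Nat.xor_assoc, Nat.xor_self, Nat.xor_zero])] at this
        have he : (QuotientGroup.mk b : Q ⧸ Subgroup.center Q) = QuotientGroup.mk (d * c) := by
          rw [← hψ, QuotientGroup.mk_mul, ← hdψ, ← hcψ, ← D.mt.psi_add]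
          exact D.mt.psi_eq_iff.2 (cong_symm hcong)
        have hb' : b = d * c * ((d * c)⁻¹ * b) := by group
        rw [hb']
        exact S.mul_mem (S.mul_mem hdS hcS) (hcen _ (QuotientGroup.eq.1 he.symm))
  obtain ⟨i, hi⟩ := D.exists_class_of Seven.model7 ha
  exact key i a ha hi

/-- **The layer of the centralizer covers the centralizer of the involution.** -/
theorem layer_covers {B : Subgroup G} (hB : B = Subgroup.zpowers (β : G))
    (hq : IsConj z (toG q)) (hne : toG q ≠ z) : ∀ d : Subgroup.centralizer (B : Set G), (d : G) * z = z * (d : G) →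
    ∃ l ∈ layer ↥(Subgroup.centralizer (B : Set G)), ∃ i : ℕ, (d : G) = (l : G) * (β : G) ^ i := by
  classical
  set CT := Subgroup.centralizer (B : Set G) with hCT
  intro d hd
  have hcenN : B.subgroupOf CT ≤ Subgroup.center ↥CT := fun y hy => Subgroup.mem_center_iff.2 fun w =>
    Subtype.ext (Subgroup.mem_centralizer_iff.1 w.2 _ (Subgroup.mem_subgroupOf.1 hy)).symm
  haveI hN : (B.subgroupOf CT).Normal := ⟨fun y hy w => by
    rw [Subgroup.mem_center_iff.1 (hcenN hy) w, mul_inv_cancel_right]; exact hy⟩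
  obtain ⟨M, hM⟩ := Seven.exists_model7
  obtain ⟨h, hh1, hh2⟩ := D.fused_seven hq hne
  obtain ⟨zb, R, hR, hset, ⟨e₂⟩, -, ⟨hzCT, hzb⟩, hRfix, hfixR⟩ :=
    D.setting_of_full M (w := 3) rfl (by norm_num) hB ⟨h, hh1, hh2, hne⟩
  haveI := hR
  have memCT : ∀ x : G, x * (β : G) = (β : G) * x → x ∈ CT := by
    intro x hx
    rw [hCT, Subgroup.mem_centralizer_iff, hB]
    intro y hy
    obtain ⟨i, rfl⟩ := Subgroup.mem_zpowers_iff.1 hy
    exact ((show Commute x (β : G) from hx).zpow_right i).eq.symm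
  have hfixCT : ∀ a ∈ fixSub Q β, toG a ∈ CT := fun a ha =>
    memCT _ (mul_inv_eq_iff_eq_mul.1 (congrArg toG (mem_fixSub.1 ha) : (β : G) * toG a * (β : G)⁻¹ = toG a)).symm
  haveI := Seven.sl32_facts.1
  have hgen : ∀ x ∈ R, (x : ↥CT ⧸ B.subgroupOf CT) ∈ Subgroup.closure
      {y : ↥CT ⧸ B.subgroupOf CT | IsConj zb y ∧
        ∃ hy : y ∈ Subgroup.centralizer ({zb} : Set (↥CT ⧸ B.subgroupOf CT)),
          (⟨y, hy⟩ : Subgroup.centralizer ({zb} : Set (↥CT ⧸ B.subgroupOf CT))) ∈ R} := by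
    intro x hx
    obtain ⟨a, ha, haCT, hxa⟩ := hRfix x hx
    rw [hxa]
    let F : ↥(fixSub Q β) →* ↥CT ⧸ B.subgroupOf CT := (QuotientGroup.mk' _).comp
      (MonoidHom.mk' (fun c => (⟨toG c.1, hfixCT c.1 c.2⟩ : CT)) fun c c' => rfl)
    have hmem : a ∈ ((Subgroup.closure {y : ↥CT ⧸ B.subgroupOf CT | IsConj zb y ∧
        ∃ hy : y ∈ Subgroup.centralizer ({zb} : Set (↥CT ⧸ B.subgroupOf CT)),
          (⟨y, hy⟩ : Subgroup.centralizer ({zb} : Set (↥CT ⧸ B.subgroupOf CT))) ∈ R}).comap F).map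
        (fixSub Q β).subtype := by
      refine D.fix_generated ha _ fun c hc hcz => ⟨⟨c, hc⟩, ?_, rfl⟩
      refine Subgroup.mem_comap.2 (Subgroup.subset_closure ⟨?_, ?_⟩)
      · show IsConj zb (QuotientGroup.mk (⟨toG c, hfixCT c hc⟩ : CT))
        rw [hzb]
        by_cases hcz' : toG c = z
        · rw [show (⟨z, hzCT⟩ : CT) = ⟨toG c, hfixCT c hc⟩ from Subtype.ext hcz'.symm]
        · obtain ⟨g, hg1, hg2⟩ := D.fused_all hc hcz hcz'
          refine isConj_iff.2 ⟨QuotientGroup.mk (⟨g, memCT g hg1⟩ : CT), ?_⟩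
          rw [← QuotientGroup.mk_inv, ← QuotientGroup.mk_mul, ← QuotientGroup.mk_mul]
          exact congrArg QuotientGroup.mk (Subtype.ext hg2)
      · obtain ⟨w, hw, hwe⟩ := hfixR c hc (hfixCT c hc)
        have he : w.1 = F ⟨c, hc⟩ := hwe
        refine ⟨he ▸ w.2, ?_⟩
        have hw' : (⟨F ⟨c, hc⟩, he ▸ w.2⟩ : Subgroup.centralizer ({zb} : Set (↥CT ⧸ B.subgroupOf CT))) = w :=
          Subtype.ext he.symm
        exact hw'.symm ▸ hw
    obtain ⟨⟨a', ha'⟩, hF, rfl⟩ := hmem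
    exact Subgroup.mem_comap.1 hF
  have hDle := HeldLayer.centralizer_le_layer hset e₂ hgen
  have hdmem : (QuotientGroup.mk d : ↥CT ⧸ B.subgroupOf CT) ∈
      Subgroup.centralizer ({zb} : Set (↥CT ⧸ B.subgroupOf CT)) := by
    rw [Subgroup.mem_centralizer_singleton_iff, hzb, ← QuotientGroup.mk_mul, ← QuotientGroup.mk_mul]
    exact congrArg QuotientGroup.mk (Subtype.ext hd)
  obtain ⟨l, hl, hle⟩ := CentralLayer.layer_le_map _ hcenN (hDle hdmem)
  have hmem := QuotientGroup.eq.1 hle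
  rw [Subgroup.mem_subgroupOf] at hmem
  have hmem' : (l : G)⁻¹ * (d : G) ∈ Subgroup.zpowers ((β : G)) := hB ▸ hmem
  obtain ⟨i, hi⟩ := mem_powers_iff_mem_zpowers.2 hmem'
  refine ⟨l, hl, i, ?_⟩
  have hi' : (β : G) ^ i = (l : G)⁻¹ * (d : G) := hi
  rw [hi', mul_inv_cancel_left]

end Loc

end Cfsg.Agent.MonsterT
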