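/-
An element of order seven acts differently on the two halves of the fixed classes, which are exchanged by the
elements inverting the element of order seven of the lattice group.
-/
import Cfsg.Agent.Lib.MonsterT.SevenModel
set_option autoImplicit false
set_option maxRecDepth 100000

namespace Cfsg.Agent.MonsterT.Seven

open Cfsg Cfsg.Agent.Golay Cfsg.Agent.Leech Cfsg.Agent.Leech.MatCert CentCert
open Cfsg.Agent.PermCert (allBelow allBelow_spec)
open Cfsg.Agent.LatticeMod2 (Rootless Cong)

/-- The action of the cycling element on all classes. -/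
def gImg7All : List ℕ :=
  [0, 3, 5, 6, 2, 1, 7, 4, 56, 59, 61, 62, 58, 57, 63, 60, 8, 11, 13, 14, 10, 9, 15, 12, 48, 51, 53, 54, 50, 49, 55, 52, 40, 43, 45, 46, 42, 41, 47, 44, 16, 19, 21, 22, 18, 17, 23, 20, 32, 35, 37, 38, 34, 33, 39, 36, 24, 27, 29, 30, 26, 25, 31, 28]

theorem gImg7All_ok : actB gMat7 reps 64 64 gImg7All = true := by decide +kernel

/-- The polynomial of the cycling element on a class. -/
def sepVal (a : ℕ) : ℕ :=
  gImg7All.getD (gImg7All.getD (gImg7All.getD a 0) 0) 0 ^^^ gImg7All.getD (gImg7All.getD a 0) 0 ^^^ a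

theorem sep_ok : (Nat.beq (sepVal 1) 0 &&
    allBelow (fun j => !Nat.beq (sepVal (8 * (j + 1))) 0) 7) = true := by decide +kernel

theorem g7_act_all (a : Fin (2 ^ 6)) : (model7.act g7 a : ℕ) = gImg7All.getD a 0 := by
  obtain ⟨a', h1, h2⟩ := cong_act fix_ok g7_parts.1 gImg7All_ok a a.2
  rw [← h1, model7.act_eq (c := g7) (a := a) (a' := a') h2]

/-- An element inverting the element of order seven does not commute with the action of the cycling element. -/
theorem not_commutes {n : Co0} (hn : n * b7 = b7⁻¹ * n) {g : Subgroup.centralizer ({b7} : Set Co0)}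
    (hg : model7.act g = model7.act g7) : ¬ ∀ x : leechLattice, Cong (n • (g : Co0) • x) ((g : Co0) • n • x) := by
  intro hcomm
  have hfix : Fixed b7 (n • model7.R one6) := by
    show Cong (b7 • n • model7.R one6) (n • model7.R one6)
    have h2 : b7 * n = n * b7⁻¹ := by
      calc b7 * n = b7 * (n * b7) * b7⁻¹ := by group
        _ = b7 * (b7⁻¹ * n) * b7⁻¹ := by rw [hn]
        _ = n * b7⁻¹ := by group
    rw [← mul_smul, h2, mul_smul]
    refine co0_cong ?_
    have := co0_cong (g := b7⁻¹) (model7.fixed one6)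
    rw [inv_smul_smul] at this
    exact cong_symm this
  set k := model7.index _ hfix with hk
  have h0 : Cong (n • model7.R one6) (model7.R k) := model7.index_spec _ _
  have h8 : ip (model7.R k) (model7.R k) = 8 :=
    model7.norm_eight (by rw [co0_ip, R_one]; exact ip_axis_self none) h0
  have step : ∀ {a a' : Fin (2 ^ 6)}, Cong (n • model7.R a) (model7.R a') →
      Cong (n • model7.R (model7.act g a)) (model7.R (model7.act g a')) := by
    intro a a' h
    exact cong_trans (co0_cong (cong_symm (model7.act_spec g a)))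
      (cong_trans (hcomm _) (cong_trans (co0_cong h) (model7.act_spec g a')))
  have h2 := step (step h0)
  have h3 := step h2
  have hsum : Cong (n • model7.R (xorFin (xorFin (model7.act g (model7.act g (model7.act g one6)))
        (model7.act g (model7.act g one6))) one6))
      (model7.R (xorFin (xorFin (model7.act g (model7.act g (model7.act g k))) (model7.act g (model7.act g k))) k)) := by
    refine cong_trans (co0_cong (cong_symm (rv_add' fix_ok _ _))) ?_
    rw [co0_add]
    refine cong_trans (cong_add ?_ h0) (rv_add' fix_ok _ _)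
    refine cong_trans (co0_cong (cong_symm (rv_add' fix_ok _ _))) ?_
    rw [co0_add]
    exact cong_trans (cong_add h3 h2) (rv_add' fix_ok _ _)
  have hs := sep_ok
  simp only [Bool.and_eq_true, Nat.beq_eq] at hs
  rw [hg] at hsum
  have hz : (xorFin (xorFin (model7.act g7 (model7.act g7 (model7.act g7 one6)))
        (model7.act g7 (model7.act g7 one6))) one6 : ℕ) = 0 := by
    show (model7.act g7 _ : ℕ) ^^^ (model7.act g7 _ : ℕ) ^^^ (one6 : ℕ) = 0
    rw [g7_act_all, g7_act_all, g7_act_all]
    exact hs.1
  rw [model7_R, rv_zero fix_ok _ hz, ← hom0_apply, map_zero, ← rv_zero fix_ok ⟨0, by norm_num⟩ rfl,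
    ← model7_R] at hsum
  have hk0 := congrArg Fin.val (model7.inj _ _ hsum)
  change 0 = (model7.act g7 _ : ℕ) ^^^ (model7.act g7 _ : ℕ) ^^^ (k : ℕ) at hk0
  rw [g7_act_all, g7_act_all, g7_act_all] at hk0
  -- the class of the image lies in the second half
  have h := allBelow_spec _ _ eight_classes k k.2
  rw [model7_R, ip_eight_iff] at h8
  simp only [h8, Bool.not_true, Bool.false_or, Bool.or_eq_true, Bool.and_eq_true, Nat.blt_eq,
    Bool.not_eq_true', Nat.beq_eq] at h
  have hk00 : (k : ℕ) ≠ 0 := fun e => by rcases h with ⟨-, h2⟩ | ⟨-, h2⟩ <;> simp [e] at h2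
  rcases h with ⟨h1, -⟩ | ⟨h1, -⟩
  · obtain ⟨i, hi, hik⟩ := (exists_pow h1 hk00).1
    have hp := model7.act_spec (g7 ^ i) one6
    rw [show model7.act (g7 ^ i) one6 = k from Fin.ext (by rw [g7_pow_act i hi, hik]), R_one] at hp
    rw [R_one] at h0
    set c := g7 ^ i
    refine no_inverting_mono (c := (c : Co0)⁻¹ * n) ?_ ?_
    · rw [← classStab_axis, mem_classStab, mul_smul]
      have := co0_cong (g := (c : Co0)⁻¹) (cong_trans h0 (cong_symm hp))
      rwa [inv_smul_smul] at this
    · have hc : (c : Co0)⁻¹ * b7⁻¹ = b7⁻¹ * (c : Co0)⁻¹ :=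
        ((show Commute (c : Co0) b7 from Subgroup.mem_centralizer_singleton_iff.1 c.2).inv_left.inv_right).eq
      rw [mul_assoc, hn, ← mul_assoc, hc, mul_assoc]
  · have := allBelow_spec _ _ hs.2 ((k : ℕ) / 8 - 1) (by have := k.2; omega)
    rw [show 8 * ((k : ℕ) / 8 - 1 + 1) = k by omega] at this
    simp only [Bool.not_eq_true', ← Bool.not_eq_true, Nat.beq_eq] at this
    exact this hk0.symm

end Cfsg.Agent.MonsterT.Seven
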