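/-
The normalizer of the subgroup of order seven of a group of Monster type.
-/
import Cfsg.Agent.Lib.MonsterT.SevenLayer
import Cfsg.Agent.Lib.MonsterT.SevenSep
import Cfsg.Agent.Lib.MonsterT.SevenInvert
set_option autoImplicit false
set_option maxRecDepth 100000

namespace Cfsg.Agent.MonsterT

open Cfsg Cfsg.Agent.Golay Cfsg.Agent.Leech
open Cfsg.Agent.LatticeMod2 (Rootless Cong)
open Seven (b7)

variable {G : Type*} [Group G] [Finite G] {z : G}
  {Q : Subgroup (Subgroup.centralizer ({z} : Set G))} [Q.Normal]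
  {e : (Subgroup.centralizer ({z} : Set G)) ⧸ Q ≃* Spor.Co1} {ψ : leechLattice → Q ⧸ Subgroup.center Q}

namespace Loc

variable {β : Subgroup.centralizer ({z} : Set G)} {q : Q} (D : Loc z Q e ψ b7 7 β q)
include D

theorem ord_coe : orderOf (β : G) = 7 := (Subgroup.orderOf_coe β).trans D.ord

theorem mem_cent_iff {x : G} :
    x ∈ Subgroup.centralizer (Subgroup.zpowers (β : G) : Set G) ↔ x * (β : G) = (β : G) * x := by
  rw [Subgroup.mem_centralizer_iff]
  refine ⟨fun h => (h _ (Subgroup.mem_zpowers _)).symm, fun h y hy => ?_⟩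
  obtain ⟨i, rfl⟩ := Subgroup.mem_zpowers_iff.1 hy
  exact ((show Commute x (β : G) from h).zpow_right i).eq.symm

theorem mem_normalizer_of_conj {n : G} {a : ℕ} (ha : a % 7 ≠ 0) (hn : n * (β : G) * n⁻¹ = (β : G) ^ a) :
    n ∈ Subgroup.normalizer (Subgroup.zpowers (β : G) : Set G) := by
  have hle : (Subgroup.zpowers (β : G)).map (MulAut.conj n).toMonoidHom = Subgroup.zpowers (β : G) := by
    rw [MonoidHom.map_zpowers]
    show Subgroup.zpowers (n * (β : G) * n⁻¹) = _
    rw [hn]
    refine le_antisymm (Subgroup.zpowers_le.2 (Subgroup.pow_mem _ (Subgroup.mem_zpowers _) a)) ?_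
    refine Subgroup.zpowers_le.2 ?_
    obtain ⟨j, -, hj⟩ := Nat.exists_mul_mod_eq_one_of_coprime
      ((Nat.Prime.coprime_iff_not_dvd (p := 7) (by norm_num)).2 fun h => ha (Nat.mod_eq_zero_of_dvd h)).symm
      (by norm_num : 1 < 7)
    have e1 : (β : G) = ((β : G) ^ a) ^ j := by
      rw [← pow_mul, ← pow_mod_orderOf, D.ord_coe, hj, pow_one]
    have h : ((β : G) ^ a) ^ j ∈ Subgroup.zpowers ((β : G) ^ a) := Subgroup.pow_mem _ (Subgroup.mem_zpowers _) _
    rwa [← e1] at h
  rw [Subgroup.mem_normalizer_iff]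
  intro x
  conv_rhs => rw [← SetLike.mem_coe, ← hle]
  exact ⟨fun h => ⟨x, h, rfl⟩, fun ⟨y, hy, hyx⟩ => (MulAut.conj n).injective hyx ▸ hy⟩

/-- **The centralizer has index six in the normalizer.** -/
theorem relIndex_six (hq : IsConj z (toG q)) (hne : toG q ≠ z) :
    (Subgroup.centralizer (Subgroup.zpowers (β : G) : Set G)).relIndex
      (Subgroup.normalizer (Subgroup.zpowers (β : G) : Set G)) = 6 := by
  classical
  haveI : Fact (Nat.Prime 7) := ⟨by norm_num⟩
  set B := Subgroup.zpowers (β : G) with hB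
  set N := Subgroup.normalizer (B : Set G) with hN
  set C := Subgroup.centralizer (B : Set G) with hC
  have hcard : Nat.card B = 7 := by rw [hB, Nat.card_zpowers, D.ord_coe]
  -- the orbit of the generator under the normalizer
  let f : ↥N ⧸ C.subgroupOf N → {y : B // y ≠ 1} := fun r => Quotient.liftOn' r
    (fun n => ⟨⟨(n : G) * (β : G) * (n : G)⁻¹, ((Subgroup.mem_normalizer_iff.1 n.2) _).1 (Subgroup.mem_zpowers _)⟩,
      fun h => by
        have h' : (n : G) * (β : G) * (n : G)⁻¹ = 1 := congrArg Subtype.val h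
        rw [mul_inv_eq_one, mul_eq_left] at h'
        exact absurd D.ord_coe (by rw [h', orderOf_one]; norm_num)⟩)
    fun n m hnm => by
      rw [QuotientGroup.leftRel_apply, Subgroup.mem_subgroupOf, hC, D.mem_cent_iff] at hnm
      refine Subtype.ext (Subtype.ext ?_)
      show (n : G) * (β : G) * (n : G)⁻¹ = (m : G) * (β : G) * (m : G)⁻¹
      have e1 : (m : G) = (n : G) * (((n⁻¹ * m : N) : G)) := by simp
      rw [e1, mul_inv_rev, show (n : G) * ((n⁻¹ * m : N) : G) * (β : G) = (n : G) * (((n⁻¹ * m : N) : G) * (β : G))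
        from mul_assoc _ _ _, hnm]
      group
  have hf : Function.Bijective f := by
    constructor
    · intro r r'
      induction r using QuotientGroup.induction_on with
      | _ n =>
        induction r' using QuotientGroup.induction_on with
        | _ m =>
          intro h
          have h' : (n : G) * (β : G) * (n : G)⁻¹ = (m : G) * (β : G) * (m : G)⁻¹ :=
            congrArg (fun y : {y : B // y ≠ 1} => ((y.1 : B) : G)) h
          refine QuotientGroup.eq.2 ?_
          rw [Subgroup.mem_subgroupOf, hC, D.mem_cent_iff]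
          show (n : G)⁻¹ * (m : G) * (β : G) = (β : G) * ((n : G)⁻¹ * (m : G))
          calc (n : G)⁻¹ * (m : G) * (β : G) = (n : G)⁻¹ * ((m : G) * (β : G) * (m : G)⁻¹) * (m : G) := by group
            _ = _ := by rw [← h']; group
    · rintro ⟨⟨y, hy⟩, hy1⟩
      obtain ⟨a, rfl⟩ := mem_powers_iff_mem_zpowers.2 hy
      have ha : a % 7 ≠ 0 := fun h => hy1 (Subtype.ext (by
        show (β : G) ^ a = 1
        rw [← pow_mod_orderOf, D.ord_coe, h, pow_zero]))
      obtain ⟨n, hn⟩ := D.exists_power hq hne ha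
      have hn' : (n : G) * (β : G) * (n : G)⁻¹ = (β : G) ^ a := by simpa using congrArg Subtype.val hn
      exact ⟨QuotientGroup.mk (⟨n, D.mem_normalizer_of_conj ha hn'⟩ : N), Subtype.ext (Subtype.ext hn')⟩
  rw [Subgroup.relIndex, Subgroup.index, Nat.card_eq_of_bijective f hf]
  haveI := Fintype.ofFinite B
  rw [Nat.card_eq_fintype_card, Fintype.card_subtype_compl, Fintype.card_subtype_eq, ← Nat.card_eq_fintype_card,
    hcard]

/-- An inverting element does not induce an inner automorphism of the layer. -/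
theorem not_inner (hq : IsConj z (toG q)) (hne : toG q ≠ z) {t : Subgroup.centralizer ({z} : Set G)}
    (ht : t * β * t⁻¹ = β⁻¹) {l : ↥(Subgroup.centralizer (Subgroup.zpowers (β : G) : Set G))}
    (hl : l ∈ layer ↥(Subgroup.centralizer (Subgroup.zpowers (β : G) : Set G))) :
    ¬ ∀ x ∈ layer ↥(Subgroup.centralizer (Subgroup.zpowers (β : G) : Set G)),
      (t : G) * (x : G) * (t : G)⁻¹ = (l : G) * (x : G) * (l : G)⁻¹ := by
  classical
  intro hall
  haveI := finite_Co0
  have hβz : (β : G) * z = z * (β : G) := Subgroup.mem_centralizer_singleton_iff.1 β.2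
  have hzCT : z ∈ Subgroup.centralizer (Subgroup.zpowers (β : G) : Set G) := D.mem_cent_iff.2 hβz.symm
  have hcov := D.layer_covers rfl hq hne
  -- the central involution lies in the layer
  have hzl : (⟨z, hzCT⟩ : Subgroup.centralizer (Subgroup.zpowers (β : G) : Set G)) ∈ layer _ := by
    obtain ⟨l', hl', i, hi⟩ := hcov ⟨z, hzCT⟩ rfl
    have hi' : z = (l' : G) * (β : G) ^ i := hi
    have hcomm : Commute (l' : G) ((β : G) ^ i) := Commute.pow_right (D.mem_cent_iff.1 l'.2) i
    have h7 : (⟨z, hzCT⟩ : Subgroup.centralizer (Subgroup.zpowers (β : G) : Set G)) = l' ^ 7 := by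
      refine Subtype.ext ?_
      show z = ((l' ^ 7 : Subgroup.centralizer (Subgroup.zpowers (β : G) : Set G)) : G)
      have e1 : z ^ 7 = (l' : G) ^ 7 := by
        conv_lhs => rw [hi']
        rw [hcomm.mul_pow, ← pow_mul, mul_comm i, pow_mul, ← SubmonoidClass.coe_pow β, D.beta_pow,
          OneMemClass.coe_one, one_pow, mul_one]
      rw [SubmonoidClass.coe_pow, ← e1]
      rw [pow_succ, show z ^ 6 = (z * z) ^ 3 by rw [← pow_two, ← pow_mul], D.mt.z_sq, one_pow, one_mul]
    rw [h7]; exact Subgroup.pow_mem _ hl' 7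
  have hlz : (l : G) * z = z * (l : G) := by
    have h := hall _ hzl
    rw [show ((⟨z, hzCT⟩ : Subgroup.centralizer (Subgroup.zpowers (β : G) : Set G)) : G) = z from rfl, Subgroup.mem_centralizer_singleton_iff.1 t.2,
      mul_inv_cancel_right, eq_mul_inv_iff_mul_eq] at h
    exact h.symm
  let lz : Subgroup.centralizer ({z} : Set G) := ⟨l, Subgroup.mem_centralizer_singleton_iff.2 hlz⟩
  set n := lz⁻¹ * t with hndef
  have hlzβ : lz * β = β * lz := Subtype.ext (D.mem_cent_iff.1 l.2)
  have hn : n * β * n⁻¹ = β⁻¹ := by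
    rw [hndef, show lz⁻¹ * t * β * (lz⁻¹ * t)⁻¹ = lz⁻¹ * (t * β * t⁻¹) * lz by group, ht]
    calc lz⁻¹ * β⁻¹ * lz = (β * lz)⁻¹ * lz := by group
      _ = β⁻¹ := by rw [← hlzβ]; group
  obtain ⟨nh, hnh⟩ := QuotientGroup.mk_surjective (piHom e n)
  have hnb : nh * b7 = b7⁻¹ * nh := by
    have h1 : (QuotientGroup.mk (nh * b7 * nh⁻¹) : Spor.Co1) = QuotientGroup.mk (b7⁻¹) := by
      rw [QuotientGroup.mk_mul, QuotientGroup.mk_mul, QuotientGroup.mk_inv, QuotientGroup.mk_inv, hnh, ← D.img,
        ← map_mul, ← map_inv, ← map_mul, hn, map_inv]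
    have h2 := odd_lift_unique (p := 7) (by norm_num) (by rw [conj_pow, D.bpow, mul_one, mul_inv_cancel])
      (by rw [inv_pow, D.bpow, inv_one]) h1
    exact (mul_inv_eq_iff_eq_mul.1 h2.symm)
  -- the element of order seven of the lattice group
  obtain ⟨h, hh⟩ := D.mt.exists_lift (Seven.g7 : Co0)
  have hg7 : (Seven.g7 : Co0) * b7 = b7 * (Seven.g7 : Co0) := Subgroup.mem_centralizer_singleton_iff.1 Seven.g7.2
  obtain ⟨d, -, hdβ, i, hdi⟩ := D.lift ⊤ (Subgroup.mem_top _) (g := (Seven.g7 : Co0)) (a := 1)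
    (by rw [pow_one, mul_inv_eq_iff_eq_mul, hg7]) (Subgroup.mem_top h) hh
  rw [pow_one, mul_inv_eq_iff_eq_mul] at hdβ
  have hdCT : (d : G) ∈ Subgroup.centralizer (Subgroup.zpowers (β : G) : Set G) := D.mem_cent_iff.2 (congrArg Subtype.val hdβ)
  obtain ⟨el, hel, j, hj⟩ := hcov ⟨d, hdCT⟩ (Subgroup.mem_centralizer_singleton_iff.1 d.2)
  set d' := d * (β ^ j)⁻¹ with hd'def
  have hd'el : (d' : G) = (el : G) := by
    have hj' : (d : G) = (el : G) * (β : G) ^ j := hj
    show (d : G) * ((β : G) ^ j)⁻¹ = _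
    rw [hj', mul_inv_cancel_right]
  set bC : Subgroup.centralizer ({b7} : Set Co0) := ⟨b7, Subgroup.mem_centralizer_singleton_iff.2 rfl⟩
  set g' := bC ^ i * Seven.g7 * (bC ^ j)⁻¹ with hg'def
  have hact : Seven.model7.act g' = Seven.model7.act Seven.g7 := by
    rw [hg'def, map_mul, map_mul, map_inv, map_pow, map_pow, Seven.model7.act_central (Or.inr rfl), one_pow, one_pow,
      inv_one, one_mul, mul_one]
  have hpi : piHom e d' = QuotientGroup.mk (g' : Co0) := by
    rw [hd'def, map_mul, map_inv, map_pow, hdi, D.img, ← QuotientGroup.mk_pow, ← QuotientGroup.mk_inv,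
      ← QuotientGroup.mk_mul]
    rfl
  have hfix : n * d' * n⁻¹ = d' := by
    refine Subtype.ext ?_
    show (l : G)⁻¹ * (t : G) * (d' : G) * ((l : G)⁻¹ * (t : G))⁻¹ = (d' : G)
    rw [hd'el, show (l : G)⁻¹ * (t : G) * (el : G) * ((l : G)⁻¹ * (t : G))⁻¹ =
      (l : G)⁻¹ * ((t : G) * (el : G) * (t : G)⁻¹) * (l : G) by group, hall el hel]
    group
  rw [mul_inv_eq_iff_eq_mul] at hfix
  have hmk : (QuotientGroup.mk (nh * (g' : Co0)) : Spor.Co1) = QuotientGroup.mk ((g' : Co0) * nh) := by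
    rw [QuotientGroup.mk_mul, QuotientGroup.mk_mul, hnh, ← hpi, ← map_mul, hfix, map_mul]
  refine Seven.not_commutes hnb hact fun x => ?_
  rw [← mul_smul, ← mul_smul]
  rcases mk_eq_mk hmk with r | r
  · rw [← r]; exact ⟨0, by simp⟩
  · rw [r, mul_smul negCo0]; exact cong_symm (smul_cong_neg _)

end Loc

end Cfsg.Agent.MonsterT
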