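/-
The centralizer of the element of order seven modulo it is the Held group.
-/
import Cfsg.Agent.Lib.MonsterT.SevenPure
import Cfsg.Agent.Lib.MonsterT.HeldLayer
import Cfsg.Agent.Lib.HeUniq.Cent.Setting
import Cfsg.Agent.Lib.HeUniq.Fus.Pure
import Cfsg.Agent.Lib.TransvUniq.Assemble.Main
import Cfsg.Agent.Lib.TransvUniq.M24.Main
import Cfsg.Agent.Lib.MathieuOut.Congr
import Cfsg.Agent.S2064
import Cfsg.Agent.S5418
set_option autoImplicit false
set_option maxRecDepth 20000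

namespace Cfsg.Agent.MonsterT

open Cfsg Cfsg.Agent.Golay Cfsg.Agent.Leech
open Seven (b7)
open scoped commutatorElement

/-- A normalising element is inner on the layer when the simple central quotient has no outer automorphism. -/
theorem inner_on_layer {G : Type*} [Group G] [Finite G] (C : Subgroup G) (N : Subgroup C) [N.Normal]
    (hN : ∀ n ∈ N, ∀ x : C, n * x = x * n) [IsSimpleGroup (↥C ⧸ N)] (hout : Nat.card (Out (↥C ⧸ N)) = 1) (t : G)
    (hC : ∀ x : G, x ∈ C ↔ t * x * t⁻¹ ∈ C) (hNt : ∀ x ∈ N.map C.subtype, t * x * t⁻¹ ∈ N.map C.subtype) :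
    ∃ l ∈ (layer ↥C).map C.subtype, ∀ x ∈ (layer ↥C).map C.subtype, t * x * t⁻¹ = l * x * l⁻¹ := by
  classical
  haveI hEn : (layer ↥C).Normal := Components.layer_normal
  let σ : ↥C ≃* ↥C :=
    { toFun := fun x => ⟨t * x * t⁻¹, (hC x).1 x.2⟩
      invFun := fun x => ⟨t⁻¹ * x * t, (hC _).2 (by
        rw [show t * (t⁻¹ * (x : G) * t) * t⁻¹ = x by group]; exact x.2)⟩
      left_inv := fun x => Subtype.ext (by show t⁻¹ * (t * (x : G) * t⁻¹) * t = x; group)
      right_inv := fun x => Subtype.ext (by show t * (t⁻¹ * (x : G) * t) * t⁻¹ = x; group)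
      map_mul' := fun x y => Subtype.ext (by
        show t * ((x : G) * y) * t⁻¹ = t * x * t⁻¹ * (t * y * t⁻¹)
        group) }
  have hσN : N.map σ.toMonoidHom = N := by
    refine Subgroup.eq_of_le_of_card_ge ?_ (by rw [Subgroup.card_map_of_injective σ.injective])
    rintro _ ⟨x, hx, rfl⟩
    obtain ⟨y, hy, hyx⟩ := hNt _ ⟨x, hx, rfl⟩
    rwa [show σ.toMonoidHom x = y from Subtype.ext hyx.symm]
  let τ : MulAut (↥C ⧸ N) := QuotientGroup.congr N N σ hσN
  have hinn : τ ∈ Inn (↥C ⧸ N) := by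
    haveI := (Nat.card_eq_one_iff_unique.1 hout).1
    exact (QuotientGroup.eq_one_iff τ).1 (Subsingleton.elim _ _)
  obtain ⟨db, hdb⟩ := hinn
  obtain ⟨d, rfl⟩ := QuotientGroup.mk_surjective db
  have hn : ∀ x : C, ∃ n ∈ N, σ x = d * x * d⁻¹ * n := fun x => by
    have h := DFunLike.congr_fun hdb (QuotientGroup.mk x)
    change (QuotientGroup.mk d : ↥C ⧸ N) * QuotientGroup.mk x * (QuotientGroup.mk d)⁻¹ = QuotientGroup.mk (σ x) at h
    rw [← QuotientGroup.mk_inv, ← QuotientGroup.mk_mul, ← QuotientGroup.mk_mul] at h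
    exact ⟨_, QuotientGroup.eq.1 h, (mul_inv_cancel_left _ _).symm⟩
  have hd : ∀ x ∈ layer ↥C, σ x = d * x * d⁻¹ := by
    have hle : ⁅layer ↥C, layer ↥C⁆ ≤ σ.toMonoidHom.eqLocus (MulAut.conj d).toMonoidHom := by
      refine Subgroup.commutator_le.2 fun x _ y _ => ?_
      show σ ⁅x, y⁆ = d * ⁅x, y⁆ * d⁻¹
      obtain ⟨n, hnN, hx⟩ := hn x
      obtain ⟨m, hmN, hy⟩ := hn y
      rw [map_commutatorElement, hx, hy, commutatorElement_def, commutatorElement_def, mul_inv_rev _ n, mul_inv_rev _ m]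
      calc d * x * d⁻¹ * n * (d * y * d⁻¹ * m) * (n⁻¹ * (d * x * d⁻¹)⁻¹) * (m⁻¹ * (d * y * d⁻¹)⁻¹)
          = d * x * d⁻¹ * (n * (d * y * d⁻¹ * m)) * n⁻¹ * (d * x * d⁻¹)⁻¹ * m⁻¹ * (d * y * d⁻¹)⁻¹ := by group
        _ = d * x * d⁻¹ * (d * y * d⁻¹) * (m * (d * x * d⁻¹)⁻¹) * m⁻¹ * (d * y * d⁻¹)⁻¹ := by
            rw [hN n hnN (d * y * d⁻¹ * m)]; group
        _ = d * (x * y * x⁻¹ * y⁻¹) * d⁻¹ := by rw [hN m hmN (d * x * d⁻¹)⁻¹]; group
    intro x hx
    rw [← Components.layer_commutator_eq] at hx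
    exact hle hx
  by_cases hbot : layer ↥C = ⊥
  · refine ⟨1, one_mem _, ?_⟩
    rintro _ ⟨x, hx, rfl⟩
    rw [hbot] at hx
    rw [Subgroup.mem_bot.1 hx]
    simp
  haveI : ((layer ↥C).map (QuotientGroup.mk' N)).Normal :=
    Subgroup.Normal.map hEn _ (QuotientGroup.mk'_surjective N)
  have htop : (layer ↥C).map (QuotientGroup.mk' N) = ⊤ := by
    rcases (inferInstance : ((layer ↥C).map (QuotientGroup.mk' N)).Normal).eq_bot_or_eq_top with h | h
    · refine absurd ?_ hbot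
      rw [Subgroup.map_eq_bot_iff, QuotientGroup.ker_mk'] at h
      rw [← Components.layer_commutator_eq, eq_bot_iff, Subgroup.commutator_le]
      intro x hx y _
      rw [Subgroup.mem_bot, commutatorElement_eq_one_iff_mul_comm]
      exact hN x (h hx) y
    · exact h
  obtain ⟨l, hl, hle⟩ : (QuotientGroup.mk' N) d ∈ (layer ↥C).map (QuotientGroup.mk' N) := htop ▸ Subgroup.mem_top _
  refine ⟨l, ⟨l, hl, rfl⟩, ?_⟩
  rintro _ ⟨x, hx, rfl⟩
  have h := hd x hx
  obtain ⟨n, hnN, rfl⟩ : ∃ n ∈ N, d = l * n := ⟨l⁻¹ * d, QuotientGroup.eq.1 hle, by group⟩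
  rw [show l * n * x * (l * n)⁻¹ = l * (n * x * n⁻¹) * l⁻¹ by group, hN n hnN x, mul_inv_cancel_right] at h
  exact congrArg Subtype.val h

variable {G : Type*} [Group G] [Finite G] {z : G}
  {Q : Subgroup (Subgroup.centralizer ({z} : Set G))} [Q.Normal]
  {e : (Subgroup.centralizer ({z} : Set G)) ⧸ Q ≃* Spor.Co1} {ψ : leechLattice → Q ⧸ Subgroup.center Q}

/-- **The centralizer of the subgroup of order seven modulo it is the Held group.** -/
theorem MT.iso_he (H : MT z Q e ψ) {s : G} {q : Q} (hqs : toG q = s) (hs : IsConj z s) (hs1 : s ≠ z) {B : Subgroup G}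
    (hB : B ≤ Subgroup.centralizer ({z, s} : Set G))
    (hBp : Nat.card B = 7 ^ (Nat.card ↥(Subgroup.centralizer ({z, s} : Set G))).factorization 7)
    [hN : (B.subgroupOf (Subgroup.centralizer (B : Set G))).Normal] :
    Spor.IsoHe (↥(Subgroup.centralizer (B : Set G)) ⧸ B.subgroupOf (Subgroup.centralizer (B : Set G))) := by
  classical
  haveI : Fact (Nat.Prime 7) := ⟨by norm_num⟩
  have hM : IsOfMonsterType z Q := ⟨H.setting, e, ψ, H.iso⟩
  have houter := (S5418.result z Q hM s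
    ⟨hqs ▸ q.1.2, by
      have h1 : (⟨s, hqs ▸ q.1.2⟩ : Subgroup.centralizer ({z} : Set G)) = q := Subtype.ext hqs.symm
      rw [h1]; exact q.2⟩ hs hs1 B hB hBp).2
  have hq : IsConj z (toG q) := by rw [hqs]; exact hs
  have hne : toG q ≠ z := by rw [hqs]; exact hs1
  obtain ⟨e', ψ', β, D, hgen⟩ := H.generator_of_sylow (by norm_num) (by norm_num) Seven.b7_pow Seven.b7_ne
    Seven.b7_mem (by norm_num) hqs hq hne hB hBp
  obtain ⟨M, hMfm⟩ := Seven.exists_model7
  obtain ⟨h, hh1, hh2⟩ := D.fused_seven hq hne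
  obtain ⟨zb, R, hRn, hset, ⟨eR⟩, hcount, ⟨hzC, hzb⟩, hRfix, -⟩ :=
    D.setting_of_full M (w := 3) rfl (by norm_num) hgen ⟨h, hh1, hh2, hne⟩
  haveI := hRn
  have hfus : ∀ a ∈ fixSub Q β, IsConj z (toG a) → toG a ≠ z →
      ∃ h : G, h * (β : G) = (β : G) * h ∧ h * z * h⁻¹ = toG a := by
    intro a ha haz hane
    obtain ⟨e₂, ψ₂, β₂, D₂, hgen₂⟩ := H.exists_loc (by norm_num : Nat.Prime 7) (by norm_num) Seven.b7_pow haz hane
      D.ord (mem_fixSub.1 ha) fun e' ψ' _ _ g hg hg1 _ => by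
        haveI := finite_Co0
        obtain ⟨u, i, hu⟩ := exists_conj_prime (by norm_num : Nat.Prime 7) (K := ↥crossStab)
          (b := (⟨b7, Seven.b7_mem⟩ : crossStab)) (c := g) (by rw [card_crossStab]; norm_num)
          (orderOf_eq_prime (Subtype.ext Seven.b7_pow) fun h1 => Seven.b7_ne (congrArg Subtype.val h1))
          (orderOf_eq_prime hg hg1)
        exact ⟨u, i, by simpa using congrArg Subtype.val hu⟩
    obtain ⟨h', h1', h2'⟩ := D₂.fused_seven haz hane
    refine ⟨h', ?_, h2'⟩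
    have hmem : (β : G) ∈ Subgroup.zpowers (β₂ : G) := by rw [hgen₂]; exact Subgroup.mem_zpowers _
    obtain ⟨i, hi⟩ := Subgroup.mem_zpowers_iff.1 hmem
    rw [← hi]
    exact ((show Commute h' (β₂ : G) from h1').zpow_right i).eq
  have h29 := hcount hfus
  rw [hMfm, Seven.card_eight] at h29
  -- involutions congruent modulo the element of order seven
  have hBp7 : ∀ y ∈ B, y * y = 1 → y = 1 := by
    intro y hy h2
    rw [hgen] at hy
    obtain ⟨i, rfl⟩ := Subgroup.mem_zpowers_iff.1 hy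
    have h7 : ((β : G) ^ i) ^ (7 : ℕ) = 1 := by
      rw [← zpow_natCast, ← zpow_mul, mul_comm, zpow_mul, zpow_natCast, ← SubmonoidClass.coe_pow, D.beta_pow,
        OneMemClass.coe_one, one_zpow]
    calc (β : G) ^ i = ((β : G) ^ i) ^ (7 : ℕ) * (((β : G) ^ i * (β : G) ^ i) ^ (3 : ℕ))⁻¹ := by group
      _ = 1 := by rw [h7, h2, one_pow, inv_one, mul_one]
  have hcen : ∀ n ∈ (B.subgroupOf (Subgroup.centralizer (B : Set G))), ∀ x : (Subgroup.centralizer (B : Set G)), n * x = x * n := fun n hn x => Subtype.ext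
    (Subgroup.mem_centralizer_iff.1 x.2 (n : G) (Subgroup.mem_subgroupOf.1 hn))
  have hlift : ∀ x y : (Subgroup.centralizer (B : Set G)), x * x = 1 → y * y = 1 → (QuotientGroup.mk x : ↥(Subgroup.centralizer (B : Set G)) ⧸ (B.subgroupOf (Subgroup.centralizer (B : Set G)))) = QuotientGroup.mk y → x = y := by
    intro x y hx hy hxy
    have hn := QuotientGroup.eq.1 hxy
    have hsq : x⁻¹ * y * (x⁻¹ * y) = 1 := by
      calc x⁻¹ * y * (x⁻¹ * y) = x⁻¹ * (y * (x⁻¹ * y)) := by group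
        _ = x⁻¹ * (x⁻¹ * y * y) := by rw [hcen _ hn y]
        _ = (x * x)⁻¹ * (y * y) := by group
        _ = 1 := by rw [hx, hy]; group
    have h1 := hBp7 _ (Subgroup.mem_subgroupOf.1 hn) (congrArg Subtype.val hsq)
    exact inv_mul_eq_one.1 (Subtype.ext h1)
  set zC : (Subgroup.centralizer (B : Set G)) := ⟨z, hzC⟩ with hzCdef
  have hzC2 : zC * zC = 1 := Subtype.ext H.z_sq
  have hinvol : ∀ a : Q, ∀ ha : toG a ∈ (Subgroup.centralizer (B : Set G)), IsConj zb (QuotientGroup.mk ⟨toG a, ha⟩) →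
      (⟨toG a, ha⟩ : (Subgroup.centralizer (B : Set G))) * ⟨toG a, ha⟩ = 1 := by
    intro a ha hc
    obtain ⟨g, hg⟩ := isConj_iff.1 hc
    have h1 : ((QuotientGroup.mk (⟨toG a, ha⟩ : (Subgroup.centralizer (B : Set G))) : ↥(Subgroup.centralizer (B : Set G)) ⧸ (B.subgroupOf (Subgroup.centralizer (B : Set G)))) * QuotientGroup.mk ⟨toG a, ha⟩) = 1 := by
      rw [← hg, conj_mul, hzb, ← QuotientGroup.mk_mul, hzC2, QuotientGroup.mk_one, mul_one, mul_inv_cancel]
    rw [← QuotientGroup.mk_mul, QuotientGroup.eq_one_iff, Subgroup.mem_subgroupOf] at h1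
    refine Subtype.ext ?_
    show toG a * toG a = 1
    rcases (H.center_iff _).1 (H.sq_mem a) with h2 | h2
    · exact h2
    · change toG a * toG a ∈ B at h1
      rw [show toG a * toG a = z from h2] at h1
      exact absurd (hBp7 z h1 H.z_sq) H.z_ne_one
  -- the frame
  obtain ⟨s₅, hs₅⟩ : ∃ s₅ : HeCent.L5, (s₅ : Matrix (Fin 5) (Fin 5) (ZMod 2)) = Matrix.transvection 0 4 1 :=
    ⟨⟨_, Matrix.det_transvection_of_ne (0 : Fin 5) 4 (by decide) 1⟩, rfl⟩
  obtain ⟨ec⟩ := HeCent.cent_iso_setting zb R hset (HeldLayer.cent_R hset) eR (by rw [h29]; norm_num) s₅ hs₅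
  obtain ⟨F⟩ := HeUniq.Model.exists_frame zb hset.1 s₅ hs₅ ec
  have hl := HeUniq.Fus.mask_cases F
  simp only [List.mem_cons, List.not_mem_nil, or_false] at hl
  have hnopure : ¬ (HeUniq.Fus.mask F = 48 ∨ HeUniq.Fus.mask F = 96 ∨ HeUniq.Fus.mask F = 113) := by
    refine HeUniq.Fus.not_mask_pure F R (fun K hK hc => ?_) ?_
    · haveI := hc
      letI : CommGroup ↥K := { (inferInstance : Group ↥K) with mul_comm := fun a b => hc.is_comm.comm a b }
      exact HeldLayer.nilpotent_le hset hK CommGroup.isNilpotent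
    intro a b y ha hb hac hbc hane _ hbna hbnza g hg hy hyR
    obtain ⟨a', ha', haC, hax⟩ := hRfix a ha
    obtain ⟨b', hb', hbC, hbx⟩ := hRfix b hb
    obtain ⟨y', -, hyC, hyx⟩ := hRfix y hyR
    obtain ⟨g, rfl⟩ := QuotientGroup.mk_surjective g
    have hyconj : IsConj zb (y : ↥(Subgroup.centralizer (B : Set G)) ⧸ (B.subgroupOf (Subgroup.centralizer (B : Set G)))) := hbc.trans (isConj_iff.2 ⟨(QuotientGroup.mk g)⁻¹, by rw [hy, inv_inv]⟩)
    have ha2 := hinvol a' haC (hax ▸ hac)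
    have hb2 := hinvol b' hbC (hbx ▸ hbc)
    have hy2 := hinvol y' hyC (hyx ▸ hyconj)
    have e1 : g * zC * g⁻¹ = ⟨toG a', haC⟩ := by
      refine hlift _ _ (by rw [conj_mul, hzC2, mul_one, mul_inv_cancel]) ha2 ?_
      rw [← hax, ← hg, hzb]
      rfl
    have e2 : g * ⟨toG y', hyC⟩ * g⁻¹ = ⟨toG b', hbC⟩ := by
      refine hlift _ _ (by rw [conj_mul, hy2, mul_one, mul_inv_cancel]) hb2 ?_
      rw [← hbx, QuotientGroup.mk_mul, QuotientGroup.mk_mul, QuotientGroup.mk_inv, ← hyx, hy]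
      group
    have hga : toG a' = (g : G) * z * (g : G)⁻¹ := (congrArg Subtype.val e1).symm
    have hgb : toG b' = (g : G) * toG y' * (g : G)⁻¹ := (congrArg Subtype.val e2).symm
    have hzy : IsConj z (toG y') → IsConj z (toG b') := fun h' =>
      h'.trans (isConj_iff.2 ⟨g, hgb.symm⟩)
    have haz : toG a' ≠ z := fun e0 => hane (by rw [hax, hzb]; exact congrArg _ (Subtype.ext e0))
    have hbconj : IsConj z (toG b') := by
      obtain ⟨k, hk⟩ := isConj_iff.1 hbc
      obtain ⟨k, rfl⟩ := QuotientGroup.mk_surjective k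
      refine isConj_iff.2 ⟨k, congrArg Subtype.val (hlift (k * zC * k⁻¹) _ ?_ hb2 ?_)⟩
      · rw [conj_mul, hzC2, mul_one, mul_inv_cancel]
      · rw [← hbx, ← hk, hzb]; rfl
    have hbz : toG b' ≠ z := fun e0 => by
      apply ‹(b : ↥(Subgroup.centralizer (B : Set G)) ⧸ (B.subgroupOf (Subgroup.centralizer (B : Set G)))) ≠ zb›
      rw [hbx, hzb]
      exact congrArg _ (Subtype.ext e0)
    have hres := D.pure_seven ha' hb' (isConj_iff.2 ⟨g, hga.symm⟩) haz hbconj hbz hga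
      (mem_conjInt.2 ⟨y', hgb⟩)
    rcases hres with r | r
    · exact hbna (by rw [hax, hbx]; exact congrArg _ (Subtype.ext r))
    · refine hbnza ?_
      rw [hax, hbx, hzb, ← QuotientGroup.mk_mul]
      exact congrArg _ (Subtype.ext r)
  have hno24 : ¬ (HeUniq.Fus.mask F = 115 ∨ HeUniq.Fus.mask F = 121) := by
    intro hm
    obtain ⟨f⟩ := TransvUniq.M24.iso_m24 F hm
    haveI := isSimpleGroup_M24
    haveI : IsSimpleGroup (↥(Subgroup.centralizer (B : Set G)) ⧸ (B.subgroupOf (Subgroup.centralizer (B : Set G)))) := f.isSimpleGroup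
    obtain ⟨t, -, hinv, -, hnot⟩ := houter
    have hC : ∀ x : G, x ∈ (Subgroup.centralizer (B : Set G)) ↔ t * x * t⁻¹ ∈ (Subgroup.centralizer (B : Set G)) := by
      intro x
      simp only [Subgroup.mem_centralizer_iff, SetLike.mem_coe]
      constructor
      · intro hx b hb
        have h1 := hx b⁻¹ (B.inv_mem hb)
        calc b * (t * x * t⁻¹) = t * b⁻¹ * t⁻¹ * (t * x * t⁻¹) := by rw [hinv _ (B.inv_mem hb), inv_inv]
          _ = t * (b⁻¹ * x) * t⁻¹ := by group
          _ = t * (x * b⁻¹) * t⁻¹ := by rw [h1]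
          _ = t * x * t⁻¹ * (t * b⁻¹ * t⁻¹) := by group
          _ = t * x * t⁻¹ * b := by rw [hinv _ (B.inv_mem hb), inv_inv]
      · intro hx b hb
        have h1 := hx (t * b * t⁻¹) (by rw [hinv b hb]; exact B.inv_mem hb)
        calc b * x = t⁻¹ * (t * b * t⁻¹ * (t * x * t⁻¹)) * t := by group
          _ = x * b := by rw [h1]; group
    refine hnot (inner_on_layer (Subgroup.centralizer (B : Set G)) (B.subgroupOf (Subgroup.centralizer (B : Set G))) hcen ?_ t hC ?_)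
    · rw [MathieuOut.card_out_congr f]; exact S2064.result
    · rintro _ ⟨n, hn, rfl⟩
      refine ⟨n⁻¹, (B.subgroupOf (Subgroup.centralizer (B : Set G))).inv_mem hn, ?_⟩
      show ((n : G))⁻¹ = t * (n : G) * t⁻¹
      rw [hinv _ (Subgroup.mem_subgroupOf.1 hn)]
  rcases hl with h | h | h | h | h | h | h
  · exfalso
    obtain ⟨g, ⟨hq', -⟩, hne'⟩ := hset.2.2.2.2
    exact hne' (TransvUniq.Assemble.eq_of_32 F h (Subgroup.mem_centralizer_singleton_iff.1 hq'))
  · exact absurd (Or.inl h) hnopure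
  · exact absurd (Or.inr (Or.inl h)) hnopure
  · exact absurd (Or.inr (Or.inr h)) hnopure
  · exact absurd (Or.inl h) hno24
  · exact absurd (Or.inr h) hno24
  · exact TransvUniq.He.isoHe_of_mask F h

end Cfsg.Agent.MonsterT
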