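/-
Checks on lists for classes modulo two of the Leech lattice fixed by a monomial automorphism of order three.
-/
import Cfsg.Agent.Lib.MonsterT.FixModel
import Cfsg.Agent.Lib.MonsterT.Consequences
import Cfsg.Agent.Lib.Leech.MatCert
import Cfsg.Agent.Lib.Golay.Local.Classes
set_option autoImplicit false

namespace Cfsg.Agent.MonsterT.Three

open Cfsg Cfsg.Agent.Golay Cfsg.Agent.Leech Cfsg.Agent.Leech.MatCert
open Cfsg.Agent.PermCert (allBelow allBelow_spec validElt get Elt)
open Cfsg.Agent.LatticeMod2 (Rootless Cong)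
open Cfsg.Agent.Golay.Local (eltOK₂ eltOK_spec code_permOf_inv)

/-- Sum of two lists. -/
def addL (a b : List ℤ) : List ℤ := List.zipWith (· + ·) a b

/-- Half the difference of two lists. -/
def halfL (a b : List ℤ) : List ℤ := List.zipWith (fun x y => (x - y) / 2) a b

/-- Congruence modulo twice the lattice, decided on lists. -/
def congB (a b : List ℤ) : Bool :=
  Nat.beq a.length 24 && Nat.beq b.length 24 &&
    (List.zipWith (fun x y => decide ((x - y) % 2 = 0)) a b).all id && latB (halfL a b)

theorem getD_zipWith {α β γ : Type*} (f : α → β → γ) {a : List α} {b : List β} {i : ℕ} (da : α) (db : β)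
    (d : γ) (ha : i < a.length) (hb : i < b.length) :
    (List.zipWith f a b).getD i d = f (a.getD i da) (b.getD i db) := by
  rw [List.getD_eq_getElem _ _ (by simp [ha, hb]), List.getElem_zipWith, List.getD_eq_getElem _ _ ha,
    List.getD_eq_getElem _ _ hb]

theorem latV_add {a b : List ℤ} (ha : latB a = true) (hb : latB b = true) :
    toVec (addL a b) = ((latV a ha + latV b hb : leechLattice) : GolayPt → ℤ) := by
  funext p
  show (addL a b).getD (idx p) 0 = toVec a p + toVec b p
  rw [addL, getD_zipWith _ 0 0 0 (latB_length ha ▸ idx_lt p) (latB_length hb ▸ idx_lt p)]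
  rfl

theorem cong_of_congB {x y : leechLattice} {a b : List ℤ} (hx : toVec a = (x : GolayPt → ℤ))
    (hy : toVec b = (y : GolayPt → ℤ)) (h : congB a b = true) : Cong x y := by
  simp only [congB, Bool.and_eq_true, Nat.beq_eq] at h
  obtain ⟨⟨⟨la, lb⟩, he⟩, hh⟩ := h
  refine ⟨latV _ hh, Subtype.ext (funext fun p => ?_)⟩
  have hi : idx p < a.length := la ▸ idx_lt p
  have hi' : idx p < b.length := lb ▸ idx_lt p
  have hev : decide ((a.getD (idx p) 0 - b.getD (idx p) 0) % 2 = 0) = true := by
    rw [List.getD_eq_getElem _ _ hi, List.getD_eq_getElem _ _ hi']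
    have hz : idx p < (List.zipWith (fun x y : ℤ => decide ((x - y) % 2 = 0)) a b).length := by simp [hi, hi']
    simpa using List.all_eq_true.1 he _ (List.getElem_mem hz)
  rw [decide_eq_true_eq] at hev
  have e1 : (halfL a b).getD (idx p) 0 = (a.getD (idx p) 0 - b.getD (idx p) 0) / 2 :=
    getD_zipWith _ 0 0 0 hi hi'
  have ex : (x : GolayPt → ℤ) p = a.getD (idx p) 0 := (congrFun hx p).symm
  have ey : (y : GolayPt → ℤ) p = b.getD (idx p) 0 := (congrFun hy p).symm
  show (x : GolayPt → ℤ) p - (y : GolayPt → ℤ) p = (2 • (halfL a b).getD (idx p) 0 : ℤ)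
  rw [ex, ey, e1, two_nsmul]
  omega

theorem cong_latV {a b : List ℤ} (ha : latB a = true) (hb : latB b = true) (h : congB a b = true) :
    Cong (latV a ha) (latV b hb) := cong_of_congB (x := latV a ha) (y := latV b hb) rfl rfl h

theorem ip_latV' {a b : List ℤ} (ha : latB a = true) (hb : latB b = true) :
    ip (latV a ha) (latV b hb) = dotL a b / 8 := by
  rw [dotL_vec (latB_length ha) (latB_length hb)]
  rfl

/-- The image of a list under a monomial map. -/
def monoL (e : Elt) (c : ℕ) (l : List ℤ) : List ℤ :=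
  (List.range 24).map fun i => (if c.testBit i then -1 else 1) * l.getD (get 5 e.2 i) 0

/-- A permutation of the code with a word. -/
def monoOK (g : Elt × ℕ) : Bool := eltOK₂ g.1 && inCode g.2

/-- The monomial automorphism of a checked pair. -/
noncomputable def monoElt (g : Elt × ℕ) (h : monoOK g = true) : Co0 :=
  mono (⟨permOf g.1, (eltOK_spec ((Bool.and_eq_true _ _ ▸ h).1)).2⟩,
    ⟨ofMask g.2, ofMask_mem_golayCode ((Bool.and_eq_true _ _ ▸ h).2)⟩)

theorem monoElt_vec {g : Elt × ℕ} (h : monoOK g = true) {a : List ℤ} (ha : latB a = true) :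
    toVec (monoL g.1 g.2 a) = ((monoElt g h • latV a ha : leechLattice) : GolayPt → ℤ) := by
  have h' : eltOK₂ g.1 = true ∧ inCode g.2 = true := by simpa [monoOK, Bool.and_eq_true] using h
  funext p
  rw [monoElt, mono_smul]
  show (monoL g.1 g.2 a).getD (idx p) 0 = monoFun _ _ (toVec a) p
  rw [monoL, List.getD_eq_getElem _ _ (by simp [idx_lt])]
  simp only [List.getElem_map, List.getElem_range, monoFun, sgn, ofMask]
  have hp : get 5 g.1.2 (idx p) = idx ((permOf g.1).symm p) := code_permOf_inv (eltOK_spec h'.1).1 p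
  rw [hp]
  by_cases hb : g.2.testBit (idx p) = true <;> simp [hb, toVec]

/-- The matrix automorphism of a checked matrix. -/
noncomputable def matElt (M : List (List ℤ)) (h : certOK M = true) : Co0 := (exists_co0_mat h).choose

theorem matElt_vec {M : List (List ℤ)} (h : certOK M = true) {a : List ℤ} (ha : latB a = true)
    (hd : divL M a = true) : toVec (imgL M a) = ((matElt M h • latV a ha : leechLattice) : GolayPt → ℤ) := by
  have hs := (exists_co0_mat h).choose_spec (latV a ha)
  obtain ⟨hl, hr⟩ := lengths (M := M) (by simp only [certOK, Bool.and_eq_true] at h; exact h.1.1.1)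
  have e := hs.symm.trans (img_spec hl hr (latB_length ha) hd)
  funext p
  have := congrFun e p
  simp only [Pi.smul_apply, nsmul_eq_mul] at this
  push_cast at this
  show toVec (imgL M a) p = (((exists_co0_mat h).choose • latV a ha : leechLattice) : GolayPt → ℤ) p
  omega

/-- The coded representatives. -/
def repL (reps : List ℕ) (a : ℕ) : List ℤ := decV (reps.getD a 0)

theorem leech_induction {P : leechLattice → Prop} (hgen : ∀ (l : List ℤ) (hl : latB l = true), l ∈ genL → P (latV l hl))
    (h0 : P 0) (hadd : ∀ x y, P x → P y → P (x + y)) (hneg : ∀ x, P x → P (-x)) (x : leechLattice) : P x := by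
  suffices ∀ (v : GolayPt → ℤ) (hv : v ∈ span), ∃ hv' : v ∈ leechLattice, P ⟨v, hv'⟩ by
    exact (this x (leech_le x.2)).choose_spec
  intro v hv
  induction hv using AddSubgroup.closure_induction with
  | mem z hz =>
    obtain ⟨l, hl, rfl⟩ := hz
    exact ⟨latB_spec (List.all_eq_true.1 genL_ok l hl), hgen l (List.all_eq_true.1 genL_ok l hl) hl⟩
  | zero => exact ⟨zero_mem _, h0⟩
  | add a b _ _ ha hb =>
    obtain ⟨ha, pa⟩ := ha
    obtain ⟨hb, pb⟩ := hb
    exact ⟨add_mem ha hb, hadd _ _ pa pb⟩
  | neg a _ ha =>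
    obtain ⟨ha, pa⟩ := ha
    exact ⟨neg_mem ha, hneg _ pa⟩

/-- The checks on the representatives: lattice vectors, short, fixed, additive. -/
def repsOK (e : Elt) (reps : List ℕ) (r : ℕ) : Bool :=
  allBelow (fun a => latB (repL reps a) && decide (dotL (repL reps a) (repL reps a) ≤ 64) &&
      congB (monoL e 0 (repL reps a)) (repL reps a)) (2 ^ r) &&
    allBelow (fun a => allBelow (fun j =>
      congB (addL (repL reps a) (repL reps (2 ^ j))) (repL reps (a ^^^ 2 ^ j))) r) (2 ^ r) &&
    eqL (repL reps 0) (List.replicate 24 0)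

/-- The orbit sum on lists. -/
def sumL (e : Elt) (l : List ℤ) : List ℤ := addL (addL l (monoL e 0 l)) (monoL e 0 (monoL e 0 l))

/-- The orbit sums of the generators lie in the listed classes. -/
def sumOK (e : Elt) (reps sums : List ℕ) (r : ℕ) : Bool :=
  allBelow (fun k => latB (monoL e 0 (genL.getD k [])) && latB (monoL e 0 (monoL e 0 (genL.getD k []))) &&
    latB (addL (genL.getD k []) (monoL e 0 (genL.getD k []))) &&
    Nat.blt (sums.getD k 0) (2 ^ r) && congB (sumL e (genL.getD k [])) (repL reps (sums.getD k 0))) genL.length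

/-- Parities against the generators. -/
def parKey (l : List ℤ) : ℕ :=
  mkMask (fun k => decide (dotL l (genL.getD k []) / 8 % 2 = 1)) genL.length

/-- The classes are different. -/
def injOK (reps : List ℕ) (r : ℕ) : Bool :=
  PermCert.distinctKeys ((List.range (2 ^ r)).map fun a => parKey (repL reps a))

section Model

variable {e : Elt} {reps sums : List ℕ} {r : ℕ} (hR : repsOK e reps r = true)
include hR

theorem rep_in (a : Fin (2 ^ r)) : latB (repL reps a) = true := by
  simp only [repsOK, Bool.and_eq_true] at hR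
  have := allBelow_spec _ _ hR.1.1 a a.2
  simp only [Bool.and_eq_true] at this
  exact this.1.1

/-- A representative. -/
noncomputable def rv (a : Fin (2 ^ r)) : leechLattice := latV (repL reps a) (rep_in hR a)

theorem rv_short (a : Fin (2 ^ r)) : ip (rv hR a) (rv hR a) ≤ 8 := by
  have h := hR
  simp only [repsOK, Bool.and_eq_true] at h
  have := allBelow_spec _ _ h.1.1 a a.2
  simp only [Bool.and_eq_true, decide_eq_true_eq] at this
  rw [rv, ip_latV']
  omega

theorem rv_fixed (hm : monoOK (e, 0) = true) (a : Fin (2 ^ r)) : Fixed (monoElt (e, 0) hm) (rv hR a) := by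
  have h := hR
  simp only [repsOK, Bool.and_eq_true] at h
  have := allBelow_spec _ _ h.1.1 a a.2
  simp only [Bool.and_eq_true] at this
  exact cong_of_congB (monoElt_vec hm (rep_in hR a)) rfl this.2

theorem rv_zero : rv hR ⟨0, Nat.two_pow_pos r⟩ = 0 := by
  have h := hR
  simp only [repsOK, Bool.and_eq_true, eqL, decide_eq_true_eq] at h
  refine Subtype.ext (funext fun p => ?_)
  show toVec (repL reps 0) p = 0
  rw [h.2, toVec, List.getD_eq_getElem _ _ (by simp [idx_lt]), List.getElem_replicate]

theorem rv_step (a : Fin (2 ^ r)) {j : ℕ} (hj : j < r) {c : Fin (2 ^ r)} (hc : (c : ℕ) = a ^^^ 2 ^ j) :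
    Cong (rv hR a + rv hR ⟨2 ^ j, Nat.pow_lt_pow_right (by norm_num) hj⟩) (rv hR c) := by
  have h := hR
  simp only [repsOK, Bool.and_eq_true] at h
  have := allBelow_spec _ _ (allBelow_spec _ _ h.1.2 a a.2) j hj
  rw [← hc] at this
  exact cong_of_congB (latV_add (rep_in hR a) (rep_in hR ⟨2 ^ j, _⟩)) rfl this

theorem rv_add (a c : Fin (2 ^ r)) :
    Cong (rv hR a + rv hR c) (rv hR ⟨a ^^^ c, Nat.xor_lt_two_pow a.2 c.2⟩) := by
  suffices ∀ n : ℕ, ∀ c : Fin (2 ^ r), (c : ℕ) = n → ∀ a : Fin (2 ^ r),
      Cong (rv hR a + rv hR c) (rv hR ⟨a ^^^ c, Nat.xor_lt_two_pow a.2 c.2⟩) from this _ c rfl a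
  intro n
  induction n using Nat.strong_induction_on with
  | _ n ih =>
    intro c hcn a
    by_cases h0 : (c : ℕ) = 0
    · rw [show c = ⟨0, Nat.two_pow_pos r⟩ from Fin.ext h0, rv_zero hR, add_zero]
      refine cong_symm ?_
      rw [show (⟨(a : ℕ) ^^^ 0, _⟩ : Fin (2 ^ r)) = a from Fin.ext (Nat.xor_zero _)]
      exact cong_rfl _
    obtain ⟨j, hj, hlt⟩ := Nat.exists_most_significant_bit h0
    have hjr : j < r := by
      by_contra hcon
      rw [Nat.testBit_lt_two_pow (lt_of_lt_of_le c.2 (Nat.pow_le_pow_right (by norm_num) (not_lt.1 hcon)))] at hj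
      exact absurd hj (by simp)
    have hd : (c : ℕ) ^^^ 2 ^ j < 2 ^ r := Nat.xor_lt_two_pow c.2 (Nat.pow_lt_pow_right (by norm_num) hjr)
    set d : Fin (2 ^ r) := ⟨_, hd⟩ with hddef
    have hsmall : (d : ℕ) < n := by
      rw [← hcn]
      refine Nat.lt_of_testBit j ?_ hj fun i hi => ?_
      · simp [hddef, hj, Nat.testBit_xor]
      · simp [hddef, Nat.testBit_xor, hi.ne]
    have e1 := rv_step hR d hjr (c := c) (by simp [hddef])
    have e2 := ih _ hsmall d rfl a
    have e3 := rv_step hR ⟨(a : ℕ) ^^^ d, Nat.xor_lt_two_pow a.2 d.2⟩ hjr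
      (c := ⟨a ^^^ c, Nat.xor_lt_two_pow a.2 c.2⟩) (by simp [hddef, Nat.xor_assoc])
    refine cong_trans (cong_trans ?_ (cong_add e2 (cong_rfl _))) e3
    rw [add_assoc]
    exact cong_add (cong_rfl _) (cong_symm e1)

variable (hS : sumOK e reps sums r = true)
include hS

theorem cover (hm : monoOK (e, 0) = true) (x : leechLattice)
    (hx : Fixed (monoElt (e, 0) hm) x) : ∃ a, Cong x (rv hR a) := by
  set b := monoElt (e, 0) hm with hb
  suffices key : ∀ y : leechLattice, ∃ a, Cong (∑ i ∈ Finset.range 3, b ^ i • y) (rv hR a) by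
    obtain ⟨a, ha⟩ := key x
    exact ⟨a, cong_trans (fixed_eq_sum (b := b) (p := 3) rfl hx) ha⟩
  intro y
  refine leech_induction (P := fun y => ∃ a, Cong (∑ i ∈ Finset.range 3, b ^ i • y) (rv hR a)) ?_ ?_ ?_ ?_ y
  · intro l hl hlg
    obtain ⟨k, hk, rfl⟩ := List.mem_iff_getElem.1 hlg
    have h := allBelow_spec _ _ hS k hk
    simp only [Bool.and_eq_true, Nat.blt_eq, List.getD_eq_getElem _ _ hk] at h
    obtain ⟨⟨⟨⟨h1, h2⟩, h3⟩, h4⟩, h5⟩ := h
    refine ⟨⟨_, h4⟩, cong_of_congB ?_ rfl h5⟩
    have v1 : b • latV genL[k] hl = latV _ h1 := Subtype.ext (monoElt_vec hm hl).symm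
    have v2 : b ^ 2 • latV genL[k] hl = latV _ h2 := by
      rw [pow_two, mul_smul, v1]; exact Subtype.ext (monoElt_vec hm h1).symm
    have v3 : latV genL[k] hl + latV _ h1 = latV _ h3 := Subtype.ext (latV_add hl h1).symm
    rw [Finset.sum_range_succ, Finset.sum_range_succ, Finset.sum_range_one, pow_zero, one_smul, pow_one, v1, v2,
      v3]
    exact latV_add h3 h2
  · refine ⟨⟨0, Nat.two_pow_pos r⟩, ?_⟩
    rw [rv_zero hR, Finset.sum_eq_zero fun i _ => by rw [← hom0_apply, map_zero]]
    exact cong_rfl _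
  · rintro u v ⟨a, ha⟩ ⟨c, hc⟩
    refine ⟨_, cong_trans ?_ (rv_add hR a c)⟩
    rw [Finset.sum_congr rfl fun i _ => co0_add (b ^ i) u v, Finset.sum_add_distrib]
    exact cong_add ha hc
  · rintro u ⟨a, ha⟩
    refine ⟨a, cong_trans ?_ ha⟩
    rw [Finset.sum_congr rfl fun i _ => show b ^ i • (-u) = -(b ^ i • u) by rw [← hom0_apply, map_neg]; rfl,
      Finset.sum_neg_distrib]
    exact ⟨-(∑ i ∈ Finset.range 3, b ^ i • u), by rw [two_nsmul]; abel⟩

omit hS in
theorem inj (hI : injOK reps r = true) (a a' : Fin (2 ^ r)) (h : Cong (rv hR a) (rv hR a')) : a = a' := by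
  have hk : parKey (repL reps a) = parKey (repL reps a') := by
    refine Nat.eq_of_testBit_eq fun k => ?_
    simp only [parKey, testBit_mkMask]
    rcases Nat.lt_or_ge k genL.length with hk | hk
    · have hl : latB (genL.getD k []) = true := by
        rw [List.getD_eq_getElem _ _ hk]
        exact List.all_eq_true.1 genL_ok _ (List.getElem_mem hk)
      have := cong_parity (w := latV _ hl) h
      rw [rv, rv, ip_latV', ip_latV', Int.dvd_iff_emod_eq_zero, Int.dvd_iff_emod_eq_zero] at this
      congr 1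
      refine decide_eq_decide.2 ?_
      omega
    · simp [Nat.not_lt.2 hk]
  have hnd := PermCert.distinctKeys_spec _ hI
  exact Fin.ext (List.inj_on_of_nodup_map hnd (List.mem_range.2 a.2) (List.mem_range.2 a'.2) hk)

/-- The model of the fixed classes. -/
noncomputable def model (hm : monoOK (e, 0) = true) (hI : injOK reps r = true) :
    FixModel (monoElt (e, 0) hm) r where
  R := rv hR
  fixed := rv_fixed hR hm
  cover := cover hR hS hm
  inj := inj hR hI
  short := rv_short hR

end Model

end Cfsg.Agent.MonsterT.Three
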