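/-
Checked models of fixed classes from a basis with a dual family, products of checked matrices, and the action of a
centraliser on fixed classes.
-/
import Cfsg.Agent.Lib.MonsterT.ThreeTools
set_option autoImplicit false

namespace Cfsg.Agent.MonsterT.Three

open Cfsg Cfsg.Agent.Golay Cfsg.Agent.Leech Cfsg.Agent.Leech.MatCert
open Cfsg.Agent.PermCert (allBelow allBelow_spec get Elt)
open Cfsg.Agent.LatticeMod2 (Rootless Cong)

theorem cong_sum {ι : Type*} (s : Finset ι) {f g : ι → leechLattice} (h : ∀ i ∈ s, Cong (f i) (g i)) :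
    Cong (∑ i ∈ s, f i) (∑ i ∈ s, g i) := by
  classical
  induction s using Finset.induction_on with
  | empty => simp [cong_rfl]
  | insert a s ha ih =>
    rw [Finset.sum_insert ha, Finset.sum_insert ha]
    exact cong_add (h a (Finset.mem_insert_self _ _)) (ih fun i hi => h i (Finset.mem_insert_of_mem hi))

/-! ### Models from a basis -/

/-- A representative is in the lattice and short. -/
def shortB (rep : ℕ → List ℤ) (a : ℕ) : Bool := latB (rep a) && decide (dotL (rep a) (rep a) ≤ 64)

/-- The representatives are combinations of the basis: the block of classes with top bit `j`. -/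
def chainB (rep : ℕ → List ℤ) (j : ℕ) : Bool :=
  allBelow (fun a => congB (addL (rep a) (rep (2 ^ j))) (rep (a + 2 ^ j))) (2 ^ j)

/-- The basis is fixed, and has a dual family. -/
def basisB (e : Elt) (rep : ℕ → List ℤ) (dual : List ℕ) (r : ℕ) : Bool :=
  eqL (rep 0) (List.replicate 24 0) &&
    allBelow (fun j => congB (monoL e 0 (rep (2 ^ j))) (rep (2 ^ j))) r &&
    allBelow (fun k => Nat.blt (dual.getD k 0) (2 ^ r) && allBelow (fun j =>
      decide (dotL (rep (2 ^ j)) (rep (dual.getD k 0)) / 8 % 2 = if j = k then 1 else 0)) r) r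

/-- The orbit sums of the generators lie in the listed classes. -/
def sumsB (e : Elt) (rep : ℕ → List ℤ) (sums : List ℕ) (r : ℕ) : Bool :=
  allBelow (fun k => latB (monoL e 0 (genL.getD k [])) && latB (monoL e 0 (monoL e 0 (genL.getD k []))) &&
    latB (addL (genL.getD k []) (monoL e 0 (genL.getD k []))) &&
    Nat.blt (sums.getD k 0) (2 ^ r) && congB (sumL e (genL.getD k [])) (rep (sums.getD k 0))) genL.length

section Basis

variable {e : Elt} {rep : ℕ → List ℤ} {dual sums : List ℕ} {r : ℕ}
  (hs : ∀ a < 2 ^ r, shortB rep a = true) (hc : ∀ j < r, chainB rep j = true) (hb : basisB e rep dual r = true)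

include hs

theorem rl (a : Fin (2 ^ r)) : latB (rep a) = true := (Bool.and_eq_true _ _ ▸ hs a a.2).1

/-- A representative. -/
noncomputable def rep2V (a : Fin (2 ^ r)) : leechLattice := latV (rep a) (rl hs a)

theorem rep2V_short (a : Fin (2 ^ r)) : ip (rep2V hs a) (rep2V hs a) ≤ 8 := by
  have h := hs a a.2
  simp only [shortB, Bool.and_eq_true, decide_eq_true_eq] at h
  rw [rep2V, ip_latV']
  omega

/-- The combination of the basis with the digits of a class. -/
noncomputable def comb (a : Fin (2 ^ r)) : leechLattice :=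
  ∑ j : Fin r, if (a : ℕ).testBit j then rep2V hs ⟨2 ^ (j : ℕ), Nat.pow_lt_pow_right (by norm_num) j.2⟩ else 0

include hc hb

theorem rep2V_zero : rep2V hs ⟨0, Nat.two_pow_pos r⟩ = 0 := by
  have h := hb
  simp only [basisB, Bool.and_eq_true, eqL, decide_eq_true_eq] at h
  refine Subtype.ext (funext fun p => ?_)
  show toVec (rep 0) p = 0
  rw [h.1.1, toVec, List.getD_eq_getElem _ _ (by simp [idx_lt]), List.getElem_replicate]

theorem rep2V_comb (a : Fin (2 ^ r)) : Cong (rep2V hs a) (comb hs a) := by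
  suffices ∀ n, ∀ a : Fin (2 ^ r), (a : ℕ) = n → Cong (rep2V hs a) (comb hs a) from this _ a rfl
  intro n
  induction n using Nat.strong_induction_on with
  | _ n ih =>
    intro a han
    by_cases h0 : (a : ℕ) = 0
    · rw [show a = ⟨0, Nat.two_pow_pos r⟩ from Fin.ext h0, rep2V_zero hs hc hb]
      simp only [comb, Nat.zero_testBit]
      simp [cong_rfl]
    obtain ⟨j, hj, hlt⟩ := Nat.exists_most_significant_bit h0
    have hjr : j < r := by
      by_contra hcon
      rw [Nat.testBit_lt_two_pow (lt_of_lt_of_le a.2 (Nat.pow_le_pow_right (by norm_num) (not_lt.1 hcon)))] at hj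
      exact absurd hj (by simp)
    have hlow : (a : ℕ) ^^^ 2 ^ j < 2 ^ j := by
      refine Nat.lt_of_testBit j ?_ (Nat.testBit_two_pow_self) fun i hi => ?_
      · simp [Nat.testBit_xor, hj]
      · simp [Nat.testBit_xor, hlt i hi, hi.ne]
    set d : Fin (2 ^ r) := ⟨(a : ℕ) ^^^ 2 ^ j, hlow.trans (Nat.pow_lt_pow_right (by norm_num) hjr)⟩ with hd
    have hsum : (a : ℕ) = (d : ℕ) + 2 ^ j := by
      refine Nat.eq_of_testBit_eq fun i => ?_
      rcases lt_trichotomy i j with hij | rfl | hij
      · rw [Nat.add_comm, Nat.testBit_two_pow_add_gt hij]; simp [hd, hij.ne']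
      · rw [Nat.add_comm, Nat.testBit_two_pow_add_eq, Nat.testBit_lt_two_pow hlow, hj]; rfl
      · rw [hlt i hij, Nat.testBit_lt_two_pow]
        calc (d : ℕ) + 2 ^ j < 2 ^ j + 2 ^ j := Nat.add_lt_add_right hlow _
          _ = 2 ^ (j + 1) := by rw [pow_succ]; ring
          _ ≤ 2 ^ i := Nat.pow_le_pow_right (by norm_num) hij
    have h := allBelow_spec _ _ (hc j hjr) (d : ℕ) hlow
    rw [← hsum] at h
    have hpj := rl hs ⟨2 ^ j, Nat.pow_lt_pow_right (by norm_num) hjr⟩
    have e1 : Cong (rep2V hs d + rep2V hs ⟨2 ^ j, Nat.pow_lt_pow_right (by norm_num) hjr⟩) (rep2V hs a) :=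
      cong_of_congB (latV_add (rl hs d) hpj) rfl h
    refine cong_trans (cong_symm e1) (cong_trans (cong_add (ih _ (by
      have := Nat.two_pow_pos j
      omega) d rfl) (cong_rfl _)) ?_)
    have e2 : comb hs a = comb hs d + rep2V hs ⟨2 ^ j, Nat.pow_lt_pow_right (by norm_num) hjr⟩ := by
      simp only [comb]
      rw [← Finset.sum_erase_add _ _ (Finset.mem_univ (⟨j, hjr⟩ : Fin r)),
        ← Finset.sum_erase_add _ _ (Finset.mem_univ (⟨j, hjr⟩ : Fin r)), if_pos hj,
        if_neg (by simp [hd, hj]), add_zero]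
      refine congrArg (· + _) (Finset.sum_congr rfl fun i hi => ?_)
      have hne : (i : ℕ) ≠ j := fun h => (Finset.mem_erase.1 hi).1 (Fin.ext h)
      rw [show ((d : Fin (2 ^ r)) : ℕ).testBit i = (a : ℕ).testBit i by simp [hd, hne.symm]]
    rw [e2]
    exact cong_rfl _

theorem rep2V_add (a c : Fin (2 ^ r)) :
    Cong (rep2V hs a + rep2V hs c) (rep2V hs ⟨a ^^^ c, Nat.xor_lt_two_pow a.2 c.2⟩) := by
  refine cong_trans (cong_add (rep2V_comb hs hc hb a) (rep2V_comb hs hc hb c))
    (cong_trans ?_ (cong_symm (rep2V_comb hs hc hb _)))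
  simp only [comb]
  refine ⟨∑ j : Fin r, if (a : ℕ).testBit j ∧ (c : ℕ).testBit j then
      rep2V hs ⟨2 ^ (j : ℕ), Nat.pow_lt_pow_right (by norm_num) j.2⟩ else 0, ?_⟩
  rw [← Finset.sum_add_distrib, ← Finset.sum_sub_distrib, Finset.smul_sum]
  refine Finset.sum_congr rfl fun j _ => ?_
  cases ha : (a : ℕ).testBit j <;> cases hcj : (c : ℕ).testBit j <;>
    simp [Nat.testBit_xor, ha, hcj, two_nsmul]

theorem rep2V_inj (a c : Fin (2 ^ r)) (h : Cong (rep2V hs a) (rep2V hs c)) : a = c := by
  by_contra hne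
  have hx0 : (a : ℕ) ^^^ (c : ℕ) ≠ 0 := fun h0 => hne (Fin.ext (Nat.eq_of_testBit_eq fun i => by
    have := congrArg (fun n => Nat.testBit n i) h0
    simpa [Nat.testBit_xor] using this))
  set d : Fin (2 ^ r) := ⟨_, Nat.xor_lt_two_pow a.2 c.2⟩ with hd
  have hd0 : Cong (rep2V hs d) 0 := by
    refine cong_trans (cong_symm (rep2V_add hs hc hb a c)) (cong_trans (cong_add h (cong_rfl _)) ?_)
    exact ⟨rep2V hs c, by rw [two_nsmul, sub_zero]⟩
  obtain ⟨k, hk⟩ := Nat.exists_testBit_of_ne_zero hx0
  have hkr : k < r := by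
    by_contra hcon
    rw [Nat.testBit_lt_two_pow (lt_of_lt_of_le d.2 (Nat.pow_le_pow_right (by norm_num) (not_lt.1 hcon)))] at hk
    exact absurd hk (by simp)
  have hb' := hb
  simp only [basisB, Bool.and_eq_true] at hb'
  have hdk := allBelow_spec _ _ hb'.2 k hkr
  simp only [Bool.and_eq_true, Nat.blt_eq] at hdk
  set w := rep2V hs ⟨_, hdk.1⟩
  have hpar : ∀ j : Fin r, ((ip (rep2V hs ⟨2 ^ (j : ℕ), Nat.pow_lt_pow_right (by norm_num) j.2⟩) w : ℤ) : ZMod 2) =
      if (j : ℕ) = k then 1 else 0 := by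
    intro j
    have := allBelow_spec _ _ hdk.2 j j.2
    rw [decide_eq_true_eq] at this
    rw [show w = latV _ (rl hs ⟨_, hdk.1⟩) from rfl, rep2V, ip_latV', ← ZMod.intCast_mod _ 2]
    show ((dotL (rep (2 ^ (j : ℕ))) (rep (dual.getD k 0)) / 8 % ((2 : ℕ) : ℤ) : ℤ) : ZMod 2) = _
    rw [show ((2 : ℕ) : ℤ) = 2 from rfl, this]
    split_ifs <;> simp
  have h1 := cong_parity (w := w) (cong_trans (cong_symm (rep2V_comb hs hc hb d)) hd0)
  rw [LatticeMod2.map_zero_left rootless_ip, show ((2 : ℤ)) = ((2 : ℕ) : ℤ) from rfl,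
    ← ZMod.intCast_zmod_eq_zero_iff_dvd, comb, ip_sum_left, Int.cast_sum] at h1
  have h2 := h1.2 (dvd_zero _)
  rw [Finset.sum_eq_single (⟨k, hkr⟩ : Fin r)] at h2
  · rw [if_pos hk, hpar, if_pos rfl] at h2
    exact one_ne_zero h2
  · intro j _ hj
    have hjk : (j : ℕ) ≠ k := fun h => hj (Fin.ext h)
    cases (d : ℕ).testBit j with
    | false => simp [LatticeMod2.map_zero_left rootless_ip]
    | true => rw [if_pos rfl, hpar, if_neg hjk]
  · simp

variable (hm : monoOK (e, 0) = true)

theorem rep2V_fixed (a : Fin (2 ^ r)) : Fixed (monoElt (e, 0) hm) (rep2V hs a) := by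
  have h := hb
  simp only [basisB, Bool.and_eq_true] at h
  refine cong_trans (co0_cong (rep2V_comb hs hc hb a)) (cong_trans ?_ (cong_symm (rep2V_comb hs hc hb a)))
  simp only [comb]
  rw [← hom0_apply, map_sum]
  simp only [hom0_apply]
  refine cong_sum _ fun j _ => ?_
  cases (a : ℕ).testBit j with
  | false => simp only [Bool.false_eq_true, if_false]; rw [← hom0_apply, map_zero]; exact cong_rfl _
  | true =>
    simp only [if_true]
    exact cong_of_congB (monoElt_vec hm (rl hs _)) rfl (allBelow_spec _ _ h.1.2 j j.2)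

variable (hS : sumsB e rep sums r = true)
include hS

theorem rep2V_cover (x : leechLattice) (hx : Fixed (monoElt (e, 0) hm) x) : ∃ a, Cong x (rep2V hs a) := by
  set b := monoElt (e, 0) hm with hbdef
  suffices key : ∀ y : leechLattice, ∃ a, Cong (∑ i ∈ Finset.range 3, b ^ i • y) (rep2V hs a) by
    obtain ⟨a, ha⟩ := key x
    exact ⟨a, cong_trans (fixed_eq_sum (b := b) (p := 3) rfl hx) ha⟩
  intro y
  refine leech_induction (P := fun y => ∃ a, Cong (∑ i ∈ Finset.range 3, b ^ i • y) (rep2V hs a)) ?_ ?_ ?_ ?_ y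
  · intro l hl hlg
    obtain ⟨k, hk, rfl⟩ := List.mem_iff_getElem.1 hlg
    have h := allBelow_spec _ _ hS k hk
    simp only [Bool.and_eq_true, Nat.blt_eq, List.getD_eq_getElem _ _ hk] at h
    obtain ⟨⟨⟨⟨h1, h2⟩, h3⟩, h4⟩, h5⟩ := h
    refine ⟨⟨_, h4⟩, cong_of_congB ?_ rfl h5⟩
    have v1 : b • latV genL[k] hl = latV _ h1 := Subtype.ext (monoElt_vec hm hl).symm
    have v2 : b ^ 2 • latV genL[k] hl = latV _ h2 := by
      rw [pow_two, mul_smul, v1]; exact Subtype.ext (monoElt_vec hm h1).symm
    have v3 : latV genL[k] hl + latV _ h1 = latV _ h3 := Subtype.ext (latV_add hl h1).symm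
    rw [Finset.sum_range_succ, Finset.sum_range_succ, Finset.sum_range_one, pow_zero, one_smul, pow_one, v1, v2,
      v3]
    exact latV_add h3 h2
  · refine ⟨⟨0, Nat.two_pow_pos r⟩, ?_⟩
    rw [rep2V_zero hs hc hb, Finset.sum_eq_zero fun i _ => by rw [← hom0_apply, map_zero]]
    exact cong_rfl _
  · rintro u v ⟨a, ha⟩ ⟨c, hc'⟩
    refine ⟨_, cong_trans ?_ (rep2V_add hs hc hb a c)⟩
    rw [Finset.sum_congr rfl fun i _ => co0_add (b ^ i) u v, Finset.sum_add_distrib]
    exact cong_add ha hc'
  · rintro u ⟨a, ha⟩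
    refine ⟨a, cong_trans ?_ ha⟩
    rw [Finset.sum_congr rfl fun i _ => show b ^ i • (-u) = -(b ^ i • u) by rw [← hom0_apply, map_neg]; rfl,
      Finset.sum_neg_distrib]
    exact ⟨-(∑ i ∈ Finset.range 3, b ^ i • u), by rw [two_nsmul]; abel⟩

/-- The model of the fixed classes from a checked basis. -/
noncomputable def basisModel : FixModel (monoElt (e, 0) hm) r where
  R := rep2V hs
  fixed := rep2V_fixed hs hc hb hm
  cover := rep2V_cover hs hc hb hm hS
  inj := rep2V_inj hs hc hb
  short := rep2V_short hs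

end Basis

/-! ### Products of checked matrices -/

/-- The images under a product of matrices, checked along the way. -/
def prodL : List (List (List ℤ)) → List ℤ → List ℤ
  | [], l => l
  | M :: Ms, l => imgL M (prodL Ms l)

/-- All the intermediate images are lattice vectors. -/
def prodOK : List (List (List ℤ)) → List ℤ → Bool
  | [], l => latB l
  | M :: Ms, l => prodOK Ms l && divL M (prodL Ms l) && latB (imgL M (prodL Ms l))

theorem all_cert {M : List (List ℤ)} {Ms : List (List (List ℤ))} (h : (M :: Ms).all certOK = true) :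
    certOK M = true ∧ Ms.all certOK = true := by
  simpa only [List.all_cons, Bool.and_eq_true] using h

/-- The product of the automorphisms of checked matrices. -/
noncomputable def prodElt : (Ms : List (List (List ℤ))) → Ms.all certOK = true → Co0
  | [], _ => 1
  | M :: Ms, h => matElt M (all_cert h).1 * prodElt Ms (all_cert h).2

theorem prodL_lat : ∀ (Ms : List (List (List ℤ))) {l : List ℤ}, prodOK Ms l = true → latB (prodL Ms l) = true
  | [], _, h => h
  | _ :: _, _, h => by simp only [prodOK, Bool.and_eq_true] at h; exact h.2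

theorem prodElt_vec : ∀ (Ms : List (List (List ℤ))) (hM : Ms.all certOK = true) {l : List ℤ} (hl : latB l = true)
    (hok : prodOK Ms l = true), prodElt Ms hM • latV l hl = latV (prodL Ms l) (prodL_lat Ms hok)
  | [], _, l, hl, _ => by rw [prodElt, one_smul]; rfl
  | M :: Ms, hM, l, hl, hok => by
    have h := hok
    simp only [prodOK, Bool.and_eq_true] at h
    rw [prodElt, mul_smul, prodElt_vec Ms _ hl h.1.1]
    exact Subtype.ext (matElt_vec _ (prodL_lat Ms h.1.1) h.1.2).symm

/-- Two products agree on the generators of the lattice. -/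
def prodEqB (As Bs : List (List (List ℤ))) : Bool :=
  genL.all fun l => prodOK As l && prodOK Bs l && eqL (prodL As l) (prodL Bs l)

theorem co0_ext_gen {g h : Co0} (H : ∀ (l : List ℤ) (hl : latB l = true), l ∈ genL → g • latV l hl = h • latV l hl) :
    g = h := by
  refine co0_ext fun i => ?_
  refine leech_induction (P := fun x => g • x = h • x) H ?_ ?_ ?_ (axis i)
  · rw [← hom0_apply, ← hom0_apply, map_zero, map_zero]
  · intro u v hu hv
    rw [co0_add, co0_add, hu, hv]
  · intro u hu
    rw [← hom0_apply, ← hom0_apply, map_neg, map_neg, hom0_apply, hom0_apply, hu]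

theorem prodElt_eq {As Bs : List (List (List ℤ))} (hA : As.all certOK = true) (hB : Bs.all certOK = true)
    (h : prodEqB As Bs = true) : prodElt As hA = prodElt Bs hB := by
  refine co0_ext_gen fun l hl hlg => ?_
  have h' := List.all_eq_true.1 h l hlg
  simp only [Bool.and_eq_true, eqL, decide_eq_true_eq] at h'
  rw [prodElt_vec As hA hl h'.1.1, prodElt_vec Bs hB hl h'.1.2]
  exact Subtype.ext (congrArg toVec h'.2)

/-! ### The action of a centraliser on fixed classes -/

variable {b : Co0} {r : ℕ}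

theorem cent_fixed {c : Co0} (hc : c ∈ Subgroup.centralizer ({b} : Set Co0)) {x : leechLattice} (hx : Fixed b x) :
    Fixed b (c • x) := by
  show Cong (b • c • x) (c • x)
  rw [← mul_smul, ← Subgroup.mem_centralizer_singleton_iff.1 hc, mul_smul]
  exact co0_cong hx

variable (fm : FixModel b r)

/-- The image of a class. -/
noncomputable def classFun (c : Subgroup.centralizer ({b} : Set Co0)) (a : Fin (2 ^ r)) : Fin (2 ^ r) :=
  fm.index ((c : Co0) • fm.R a) (cent_fixed c.2 (fm.fixed a))

theorem classFun_spec (c : Subgroup.centralizer ({b} : Set Co0)) (a : Fin (2 ^ r)) :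
    Cong ((c : Co0) • fm.R a) (fm.R (classFun fm c a)) :=
  fm.index_spec _ _

theorem classFun_eq {c : Subgroup.centralizer ({b} : Set Co0)} {a a' : Fin (2 ^ r)}
    (h : Cong ((c : Co0) • fm.R a) (fm.R a')) : classFun fm c a = a' :=
  fm.index_eq h

theorem classFun_mul (c d : Subgroup.centralizer ({b} : Set Co0)) (a : Fin (2 ^ r)) :
    classFun fm (c * d) a = classFun fm c (classFun fm d a) := by
  refine classFun_eq fm ?_
  rw [Subgroup.coe_mul, mul_smul]
  exact cong_trans (co0_cong (classFun_spec fm d a)) (classFun_spec fm c _)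

theorem classFun_one (a : Fin (2 ^ r)) : classFun fm 1 a = a :=
  classFun_eq fm (by rw [Subgroup.coe_one, one_smul]; exact cong_rfl _)

/-- The action on the fixed classes. -/
noncomputable def classHom : Subgroup.centralizer ({b} : Set Co0) →* Equiv.Perm (Fin (2 ^ r)) :=
  MonoidHom.mk' (fun c => ⟨classFun fm c, classFun fm c⁻¹,
      fun a => by rw [← classFun_mul, inv_mul_cancel, classFun_one],
      fun a => by rw [← classFun_mul, mul_inv_cancel, classFun_one]⟩)
    fun c d => Equiv.ext fun a => classFun_mul fm c d a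

theorem classHom_triv {c : Subgroup.centralizer ({b} : Set Co0)} :
    classHom fm c = 1 ↔ ∀ a, Cong ((c : Co0) • fm.R a) (fm.R a) := by
  constructor
  · intro h a
    have h1 := classFun_spec fm c a
    rwa [show classFun fm c a = a from DFunLike.congr_fun h a] at h1
  · exact fun h => Equiv.ext fun a => classFun_eq fm (h a)

end Cfsg.Agent.MonsterT.Three
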