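/-
The coded representatives of the fixed classes of the element with six fixed points.
-/
import Cfsg.Agent.Lib.MonsterT.ThreeFixed
import Cfsg.Agent.Lib.MonsterT.ThreeAData
set_option autoImplicit false
set_option maxRecDepth 100000

namespace Cfsg.Agent.MonsterT.ThreeA

open Cfsg.Agent.Leech.MatCert Cfsg.Agent.MonsterT.Three
open Cfsg.Agent.PermCert

/-- The representative of a class. -/
def rep (a : ℕ) : List ℤ := decV ((reps.getD (a / 64) []).getD (a % 64) 0)

theorem allBelow_intro {f : ℕ → Bool} : ∀ {n : ℕ}, (∀ i < n, f i = true) → allBelow f n = true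
  | 0, _ => rfl
  | n + 1, h => by
    show (allBelow f n && f n) = true
    rw [allBelow_intro fun i hi => h i (by omega), h n (by omega)]
    rfl

/-- A check on an interval of classes. -/
def chunkB (f : ℕ → Bool) (k : ℕ) : Bool := allBelow (fun a => f (256 * k + a)) 256

theorem chunk_spec {f : ℕ → Bool} {n : ℕ} (h : ∀ k < n, chunkB f k = true) : ∀ a < 256 * n, f a = true := by
  intro a ha
  have h1 := allBelow_spec _ _ (h (a / 256) (by omega)) (a % 256) (Nat.mod_lt _ (by norm_num))
  rwa [Nat.div_add_mod] at h1

end Cfsg.Agent.MonsterT.ThreeA
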