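/-
Kernel checks: the low representatives are combinations of the basis.
-/
import Cfsg.Agent.Lib.MonsterT.ThreeARep
set_option autoImplicit false
set_option maxRecDepth 100000
set_option Elab.async false

namespace Cfsg.Agent.MonsterT.ThreeA

open Cfsg.Agent.Leech.MatCert Cfsg.Agent.MonsterT.Three
open Cfsg.Agent.PermCert

theorem chain_0 : chainB rep 0 = true := by decide +kernel
theorem chain_1 : chainB rep 1 = true := by decide +kernel
theorem chain_2 : chainB rep 2 = true := by decide +kernel
theorem chain_3 : chainB rep 3 = true := by decide +kernel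
theorem chain_4 : chainB rep 4 = true := by decide +kernel
theorem chain_5 : chainB rep 5 = true := by decide +kernel
theorem chain_6 : chainB rep 6 = true := by decide +kernel
theorem chain_7 : chainB rep 7 = true := by decide +kernel
theorem chain_8 : chainB rep 8 = true := by decide +kernel
theorem chunk9_0 : chunkB (fun a => congB (addL (rep a) (rep (2 ^ 9))) (rep (a + 2 ^ 9))) 0 = true := by decide +kernel
theorem chunk9_1 : chunkB (fun a => congB (addL (rep a) (rep (2 ^ 9))) (rep (a + 2 ^ 9))) 1 = true := by decide +kernel

theorem chunk9 : ∀ k < 2, chunkB (fun a => congB (addL (rep a) (rep (2 ^ 9))) (rep (a + 2 ^ 9))) k = true := by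
  intro k hk
  interval_cases k
  · exact chunk9_0
  · exact chunk9_1

theorem chunk10_0 : chunkB (fun a => congB (addL (rep a) (rep (2 ^ 10))) (rep (a + 2 ^ 10))) 0 = true := by decide +kernel
theorem chunk10_1 : chunkB (fun a => congB (addL (rep a) (rep (2 ^ 10))) (rep (a + 2 ^ 10))) 1 = true := by decide +kernel
theorem chunk10_2 : chunkB (fun a => congB (addL (rep a) (rep (2 ^ 10))) (rep (a + 2 ^ 10))) 2 = true := by decide +kernel
theorem chunk10_3 : chunkB (fun a => congB (addL (rep a) (rep (2 ^ 10))) (rep (a + 2 ^ 10))) 3 = true := by decide +kernel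

theorem chunk10 : ∀ k < 4, chunkB (fun a => congB (addL (rep a) (rep (2 ^ 10))) (rep (a + 2 ^ 10))) k = true := by
  intro k hk
  interval_cases k
  · exact chunk10_0
  · exact chunk10_1
  · exact chunk10_2
  · exact chunk10_3

theorem chain_low : ∀ j < 11, chainB rep j = true := by
  intro j hj
  interval_cases j
  · exact chain_0
  · exact chain_1
  · exact chain_2
  · exact chain_3
  · exact chain_4
  · exact chain_5
  · exact chain_6
  · exact chain_7
  · exact chain_8
  · exact allBelow_of_chunks (n := 2) chunk9
  · exact allBelow_of_chunks (n := 4) chunk10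
where
  allBelow_of_chunks {f : ℕ → Bool} {n : ℕ} (h : ∀ k < n, chunkB f k = true) : allBelow f (256 * n) = true :=
    allBelow_intro (chunk_spec h)

end Cfsg.Agent.MonsterT.ThreeA
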