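/-
Kernel checks: the high representatives are combinations of the basis.
-/
import Cfsg.Agent.Lib.MonsterT.ThreeARep
set_option autoImplicit false
set_option maxRecDepth 100000
set_option Elab.async false

namespace Cfsg.Agent.MonsterT.ThreeA

open Cfsg.Agent.Leech.MatCert Cfsg.Agent.MonsterT.Three
open Cfsg.Agent.PermCert

theorem chunk11_0 : chunkB (fun a => congB (addL (rep a) (rep (2 ^ 11))) (rep (a + 2 ^ 11))) 0 = true := by decide +kernel
theorem chunk11_1 : chunkB (fun a => congB (addL (rep a) (rep (2 ^ 11))) (rep (a + 2 ^ 11))) 1 = true := by decide +kernel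
theorem chunk11_2 : chunkB (fun a => congB (addL (rep a) (rep (2 ^ 11))) (rep (a + 2 ^ 11))) 2 = true := by decide +kernel
theorem chunk11_3 : chunkB (fun a => congB (addL (rep a) (rep (2 ^ 11))) (rep (a + 2 ^ 11))) 3 = true := by decide +kernel
theorem chunk11_4 : chunkB (fun a => congB (addL (rep a) (rep (2 ^ 11))) (rep (a + 2 ^ 11))) 4 = true := by decide +kernel
theorem chunk11_5 : chunkB (fun a => congB (addL (rep a) (rep (2 ^ 11))) (rep (a + 2 ^ 11))) 5 = true := by decide +kernel
theorem chunk11_6 : chunkB (fun a => congB (addL (rep a) (rep (2 ^ 11))) (rep (a + 2 ^ 11))) 6 = true := by decide +kernel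
theorem chunk11_7 : chunkB (fun a => congB (addL (rep a) (rep (2 ^ 11))) (rep (a + 2 ^ 11))) 7 = true := by decide +kernel

theorem chunk11 : ∀ k < 8, chunkB (fun a => congB (addL (rep a) (rep (2 ^ 11))) (rep (a + 2 ^ 11))) k = true := by
  intro k hk
  interval_cases k
  · exact chunk11_0
  · exact chunk11_1
  · exact chunk11_2
  · exact chunk11_3
  · exact chunk11_4
  · exact chunk11_5
  · exact chunk11_6
  · exact chunk11_7

theorem chain_top : chainB rep 11 = true := allBelow_intro (n := 256 * 8) (chunk_spec chunk11)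

end Cfsg.Agent.MonsterT.ThreeA
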