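/-
Kernel checks: the representatives are short lattice vectors.
-/
import Cfsg.Agent.Lib.MonsterT.ThreeARep
set_option autoImplicit false
set_option maxRecDepth 100000
set_option Elab.async false

namespace Cfsg.Agent.MonsterT.ThreeA

open Cfsg.Agent.Leech.MatCert Cfsg.Agent.MonsterT.Three
open Cfsg.Agent.PermCert

theorem short_chunk_0 : chunkB (shortB rep) 0 = true := by decide +kernel
theorem short_chunk_1 : chunkB (shortB rep) 1 = true := by decide +kernel
theorem short_chunk_2 : chunkB (shortB rep) 2 = true := by decide +kernel
theorem short_chunk_3 : chunkB (shortB rep) 3 = true := by decide +kernel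
theorem short_chunk_4 : chunkB (shortB rep) 4 = true := by decide +kernel
theorem short_chunk_5 : chunkB (shortB rep) 5 = true := by decide +kernel
theorem short_chunk_6 : chunkB (shortB rep) 6 = true := by decide +kernel
theorem short_chunk_7 : chunkB (shortB rep) 7 = true := by decide +kernel
theorem short_chunk_8 : chunkB (shortB rep) 8 = true := by decide +kernel
theorem short_chunk_9 : chunkB (shortB rep) 9 = true := by decide +kernel
theorem short_chunk_10 : chunkB (shortB rep) 10 = true := by decide +kernel
theorem short_chunk_11 : chunkB (shortB rep) 11 = true := by decide +kernel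
theorem short_chunk_12 : chunkB (shortB rep) 12 = true := by decide +kernel
theorem short_chunk_13 : chunkB (shortB rep) 13 = true := by decide +kernel
theorem short_chunk_14 : chunkB (shortB rep) 14 = true := by decide +kernel
theorem short_chunk_15 : chunkB (shortB rep) 15 = true := by decide +kernel

theorem short_chunk : ∀ k < 16, chunkB (shortB rep) k = true := by
  intro k hk
  interval_cases k
  · exact short_chunk_0
  · exact short_chunk_1
  · exact short_chunk_2
  · exact short_chunk_3
  · exact short_chunk_4
  · exact short_chunk_5
  · exact short_chunk_6
  · exact short_chunk_7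
  · exact short_chunk_8
  · exact short_chunk_9
  · exact short_chunk_10
  · exact short_chunk_11
  · exact short_chunk_12
  · exact short_chunk_13
  · exact short_chunk_14
  · exact short_chunk_15

theorem short_ok : ∀ a < 4096, shortB rep a = true := chunk_spec short_chunk

end Cfsg.Agent.MonsterT.ThreeA
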