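/-
Kernel checks for the centraliser of a monomial element of order three with six fixed points.
-/
import Cfsg.Agent.Lib.MonsterT.ThreeARep
import Cfsg.Agent.Lib.MonsterT.ThreeAShort
import Cfsg.Agent.Lib.MonsterT.ThreeAChainLow
import Cfsg.Agent.Lib.MonsterT.ThreeAChainTop
import Cfsg.Agent.Lib.Golay.Local.CentChecks
import Cfsg.Agent.Lib.SchurMult.U43Group
set_option autoImplicit false
set_option maxRecDepth 100000

namespace Cfsg.Agent.MonsterT.ThreeA

open Cfsg Cfsg.Agent.Golay Cfsg.Agent.Leech.MatCert Cfsg.Agent.MonsterT.Three
open Cfsg.Agent.PermCert
open Cfsg.Agent.Golay.Local (rep3A searchB prConj sameF cmpF idC threeAChainLevels)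
open Cfsg.Agent.SchurMult (u43Gens)



theorem basis_ok : basisB rep3A rep dualIdx 12 = true := by decide +kernel
theorem sums_ok : sumsB rep3A rep sumIdx 12 = true := by decide +kernel
theorem rep3A_ok : monoOK (rep3A, 0) = true := by decide +kernel

theorem axis_ok : (Nat.blt axisIdx 4096 && eqL (rep axisIdx) ((List.range 24).map fun i => if i = 23 then 8 else 0) &&
    Nat.ble ((List.range 4096).countP fun a => decide (dotL (rep a) (rep a) / 8 = 8)) 1701) = true := by
  decide +kernel

/-- The fixed code words. -/
theorem fixCode_ok : Nat.ble ((codeList.filter fun m =>
    allBelow (fun i => m.testBit (get 5 rep3A.1 i) == m.testBit i) 24).length) 64 = true := by decide +kernel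

theorem cen_cert : checkCert 5 24 cenGens cenDerived cenLevels = true := by decide +kernel
theorem cen_order : certOrder cenLevels = 1080 := by decide +kernel

/-- Commuting elements sift into the listed centraliser. -/
def leafC (e : ℕ) : Bool := !(sameF (cmpF e rep3A.1) (cmpF rep3A.1 e)) || sift 5 24 cenLevels e

theorem cen_search : searchB (prConj rep3A.1 rep3A.1) leafC threeAChainLevels [] idC = true := by decide +kernel

theorem mats_ok : [matA, matB, matW, matT, matS].all certOK = true := by decide +kernel

/-- The matrix is the monomial element. -/
theorem matS_ok : (genL.all fun l => divL matS l && eqL (imgL matS l) (monoL rep3A 0 l)) = true := by decide +kernel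

theorem commAS : prodEqB [matA, matS] [matS, matA] = true := by decide +kernel
theorem commBS : prodEqB [matB, matS] [matS, matB] = true := by decide +kernel
theorem commWS : prodEqB [matW, matS] [matS, matW] = true := by decide +kernel
theorem commTS : prodEqB [matT, matS] [matS, matT] = true := by decide +kernel
theorem commAW : prodEqB [matA, matW] [matW, matA] = true := by decide +kernel
theorem commBW : prodEqB [matB, matW] [matW, matB] = true := by decide +kernel
theorem invertT : prodEqB [matT, matW] [matS, matS, matW, matW, matT] = true := by decide +kernel
theorem cubeW : prodEqB [matW, matW, matW] [] = true := by decide +kernel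

/-- The element moves the class one. -/
theorem moveW : (divL matW (rep 1) && latB (imgL matW (rep 1)) &&
    !(Nat.beq (parKey (imgL matW (rep 1))) (parKey (rep 1)))) = true := by decide +kernel

/-- An object of the unitary action. -/
def obj (i : ℕ) : List ℤ := decV (objs.getD i 0)

/-- The residues modulo three of an object moved by the difference of one and the square. -/
def objKey (s : ℤ) (i : ℕ) : ℕ :=
  ((addL (obj i) ((imgL matW (imgL matW (obj i))).map fun x => -x)).foldr (fun x acc => acc * 3 + ((s * x) % 3).toNat) 0)

/-- The objects are fixed lattice vectors with different residues. -/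
theorem objs_ok : (allBelow (fun i => latB (obj i) && eqL (monoL rep3A 0 (obj i)) (obj i) &&
      divL matW (obj i) && latB (imgL matW (obj i)) && divL matW (imgL matW (obj i))) 112 &&
    distinctKeys (((List.range 112).map (objKey 1)) ++ ((List.range 112).map (objKey (-1))))) = true := by
  decide +kernel

/-- The difference of an image and a signed object, and a third of its image under one minus the square. -/
def moveB (M : List (List ℤ)) (sg i j : ℕ) : Bool :=
  let d := addL (imgL M (obj i)) ((obj j).map fun x => if sg.testBit i then x else -x)
  let e := addL d ((imgL matW (imgL matW d)).map fun x => -x)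
  divL M (obj i) && latB (imgL M (obj i)) && latB d && divL matW d && latB (imgL matW d) &&
    divL matW (imgL matW d) && e.all (fun x => decide (x % 3 = 0)) && latB (e.map (· / 3))

theorem moveA_ok : allBelow (fun i => moveB matA (signs.getD 0 0) i (get 7 (u43Gens.getD 0 (0, 0)).1 i)) 112 = true := by
  decide +kernel
theorem moveB_ok : allBelow (fun i => moveB matB (signs.getD 1 0) i (get 7 (u43Gens.getD 1 (0, 0)).1 i)) 112 = true := by
  decide +kernel
theorem moveW_ok : allBelow (fun i => moveB matW (signs.getD 2 0) i i) 112 = true := by decide +kernel

end Cfsg.Agent.MonsterT.ThreeA
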