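/-
The centraliser of a monomial element of order three with six fixed points acts on the fixed classes as the
extension of the four-dimensional unitary group over nine elements with a normal subgroup of order three and a
group of order two.
-/
import Cfsg.Agent.Lib.MonsterT.ThreeAChecks
import Cfsg.Agent.Lib.MonsterT.LocalType
import Cfsg.Agent.Lib.Golay.Local.Cents
import Cfsg.Agent.Lib.SchurMult.U43Hom
import Cfsg.Agent.Lib.Classical.UnitaryStd
set_option autoImplicit false
set_option maxRecDepth 100000

namespace Cfsg.Agent.MonsterT.ThreeA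

open Cfsg Cfsg.Agent.Golay Cfsg.Agent.Leech Cfsg.Agent.Leech.MatCert Cfsg.Agent.MonsterT.Three
open Cfsg.Agent.PermCert
open Cfsg.Agent.LatticeMod2 (Rootless Cong)
open Cfsg.Agent.SchurMult (u43Gens)
open Cfsg.Agent.Golay.Local (rep3A R3A reps_spec code_R3A searchB prConj prConj_spec sameF cmpF idC sameF_iff
  threeAChainLevels threeAChainGens threeAChain_cert chains_bases chains_gens search_chain mem_genPerm_of_sift
  card_genPerm code_permOf eltOK_spec facts)

theorem allBelow_of {f : ℕ → Bool} : ∀ {n : ℕ}, (∀ i < n, f i = true) → allBelow f n = true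
  | 0, _ => rfl
  | n + 1, h => by
    show (allBelow f n && f n) = true
    rw [allBelow_of fun i hi => h i (by omega), h n (by omega)]
    rfl

/-- The permutation of the points. -/
noncomputable def sigS : ↥M24 := ⟨R3A, reps_spec.2.2.1.2⟩

/-- The element of order three. -/
noncomputable def bA : Co0 := monoElt (rep3A, 0) rep3A_ok

theorem bA_eq : bA = mono (sigS, 0) :=
  congrArg mono (Prod.ext (Subtype.ext rfl) (Subtype.ext ofMask_zero))

theorem bA_sec : bA = (secHom sigS : Co0) := bA_eq

theorem sigS_pow : sigS ^ 3 = 1 := Subtype.ext facts.2.2.1.1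

theorem sigS_ne : sigS ≠ 1 := fun h => facts.2.2.1.2.1 (congrArg Subtype.val h)

theorem bA_pow : bA ^ 3 = 1 := by
  rw [bA_sec, ← SubmonoidClass.coe_pow, ← map_pow, sigS_pow, map_one]
  rfl

theorem bA_ne : bA ≠ 1 := fun h => sigS_ne (by
  have h' : secHom sigS = 1 := Subtype.ext (bA_sec ▸ h)
  rw [← rho_secHom sigS, h', map_one])

/-- The centraliser of the permutation in the group of the code. -/
theorem commute_mem {c : Equiv.Perm GolayPt} (hc : c ∈ M24) (h : c * R3A = R3A * c) : c ∈ genPerm cenGens := by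
  have hb := chains_bases
  simp only [Bool.and_eq_true] at hb
  obtain ⟨e, he, hleaf⟩ := search_chain chains_gens.2.1 threeAChain_cert hb.1.2 cen_search hc
    fun F f hF hf => prConj_spec code_R3A code_R3A h hF hf
  simp only [leafC, Bool.or_eq_true, Bool.not_eq_true'] at hleaf
  rcases hleaf with h' | h'
  · exact absurd ((sameF_iff (he.cmp code_R3A) (code_R3A.cmp he)).2 h) (by rw [h']; simp)
  · exact mem_genPerm_of_sift cen_cert he h'

theorem card_centM24 : Nat.card (Subgroup.centralizer ({sigS} : Set ↥M24)) ≤ 1080 := by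
  rw [← cen_order, ← card_genPerm cen_cert, ← Subgroup.card_map_of_injective M24.subtype_injective]
  refine Subgroup.card_le_of_le ?_
  rintro _ ⟨c, hc, rfl⟩
  exact commute_mem c.2 (congrArg Subtype.val (Subgroup.mem_centralizer_singleton_iff.1 hc))

/-- The centraliser. -/
noncomputable abbrev Cb : Subgroup Co0 := Subgroup.centralizer ({bA} : Set Co0)

theorem card_cross_cent : Nat.card (Cb ⊓ crossStab : Subgroup Co0) ≤ 1080 * 64 := by
  classical
  haveI := finite_Co0
  set X : Subgroup Co0 := Cb ⊓ crossStab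
  let f : X →* ↥M24 := rho.comp (Subgroup.inclusion (inf_le_right : X ≤ crossStab))
  have h := f.ker.card_mul_index
  rw [Subgroup.index_ker] at h
  rw [← h, mul_comm]
  refine Nat.mul_le_mul ?_ ?_
  · refine le_trans (Subgroup.card_le_of_le ?_) card_centM24
    rintro _ ⟨x, rfl⟩
    have hx : (Subgroup.inclusion (inf_le_right : X ≤ crossStab) x) * secHom sigS =
        secHom sigS * Subgroup.inclusion inf_le_right x := Subtype.ext (by
      show (x : Co0) * (secHom sigS : Co0) = (secHom sigS : Co0) * (x : Co0)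
      rw [← bA_sec]
      exact Subgroup.mem_centralizer_singleton_iff.1 x.2.1)
    have h' := congrArg rho hx
    rw [map_mul, map_mul, rho_secHom] at h'
    exact Subgroup.mem_centralizer_singleton_iff.2 h'
  · let S : Finset (GolayPt → ZMod 2) :=
      ((codeList.filter fun m =>
        allBelow (fun i => m.testBit (get 5 rep3A.1 i) == m.testBit i) 24).map ofMask).toFinset
    have hS : S.card ≤ 64 := by
      refine le_trans (List.toFinset_card_le _) ?_
      rw [List.length_map]
      exact Nat.le_of_ble_eq_true fixCode_ok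
    have key : ∀ x : f.ker, ∃ c : golayCode, (c : GolayPt → ZMod 2) ∈ S ∧
        mono (1, c) = ((x : X) : Co0) := by
      intro x
      obtain ⟨c, hc⟩ := rho_spec (Subgroup.inclusion (inf_le_right : X ≤ crossStab) x.1)
      rw [show rho (Subgroup.inclusion (inf_le_right : X ≤ crossStab) x.1) = 1 from x.2] at hc
      refine ⟨c, ?_, hc⟩
      have hcomm := Subgroup.mem_centralizer_singleton_iff.1 x.1.2.1
      rw [show ((x : X) : Co0) = mono (1, c) from hc.symm, bA_eq] at hcomm
      obtain ⟨m, hm, hmc⟩ := mem_golayCode.1 c.2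
      refine List.mem_toFinset.2 (List.mem_map.2 ⟨m, List.mem_filter.2 ⟨hm, ?_⟩, hmc⟩)
      refine allBelow_of fun i hi => ?_
      have h2 := congrArg (fun g : Co0 => g • axis (Golay.Local.ptN i)) hcomm
      have hz : ∀ (g : Co0) (n : ℤ) (v : leechLattice), g • (n • v) = n • (g • v) := fun g n v => by
        rw [← hom0_apply, map_zsmul, hom0_apply]
      have h0 : ∀ j, sgn ((0 : golayCode) : GolayPt → ZMod 2) j = 1 := fun j => by simp [sgn]
      change (mono (1, c) * mono (sigS, 0)) • axis (Golay.Local.ptN i) =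
        (mono (sigS, 0) * mono (1, c)) • axis (Golay.Local.ptN i) at h2
      rw [mul_smul, mul_smul, mono_axis, mono_axis, hz, hz, mono_axis, mono_axis, smul_smul, smul_smul,
        h0, h0, one_mul, mul_one, OneMemClass.coe_one, Equiv.Perm.one_apply, Equiv.Perm.one_apply] at h2
      have h3 := (sgn_axis_inj (sgn_cases _ _) h2).2
      have e1 : ofMask m (sigS.1 (Golay.Local.ptN i)) = ofMask m (Golay.Local.ptN i) := by
        rw [hmc]
        rcases zmod2_cases ((c : GolayPt → ZMod 2) (sigS.1 (Golay.Local.ptN i))) with q | q <;>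
          rcases zmod2_cases ((c : GolayPt → ZMod 2) (Golay.Local.ptN i)) with q' | q' <;>
          simp [sgn, q, q'] at h3 ⊢
      have hget : idx (sigS.1 (Golay.Local.ptN i)) = get 5 rep3A.1 i := (code_R3A.get hi).symm
      unfold ofMask at e1
      rw [hget, Golay.Local.idx_ptN hi] at e1
      generalize m.testBit (get 5 rep3A.1 i) = a at e1 ⊢
      generalize m.testBit i = a' at e1 ⊢
      revert e1
      cases a <;> cases a' <;> decide
    choose c hcS hc using key
    calc Nat.card f.ker ≤ Nat.card S :=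
          Nat.card_le_card_of_injective (fun x => ⟨_, hcS x⟩) fun x y e => by
            have e' : c x = c y := Subtype.ext (congrArg (fun w : S => w.1) e)
            exact Subtype.ext (Subtype.ext (by rw [← hc x, ← hc y, e']))
      _ = S.card := by simp
      _ ≤ 64 := hS

theorem short_all : ∀ a < 2 ^ 12, shortB rep a = true := fun a ha => short_ok a ha

theorem chain_all : ∀ j < 12, chainB rep j = true := fun j hj => by
  rcases Nat.lt_or_ge j 11 with h | h
  · exact chain_low j h
  · rw [show j = 11 by omega]; exact chain_top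

/-- The model of the fixed classes. -/
noncomputable def fm : FixModel bA 12 := basisModel short_all chain_all basis_ok rep3A_ok sums_ok

theorem fm_R (a : Fin (2 ^ 12)) : fm.R a = rep2V short_all a := rfl

/-- The action on the fixed classes. -/
noncomputable abbrev theta : Cb →* Equiv.Perm (Fin (2 ^ 12)) := classHom fm

/-- The class of the axis. -/
def axC : Fin (2 ^ 12) := ⟨axisIdx % 2 ^ 12, Nat.mod_lt _ (Nat.two_pow_pos 12)⟩

theorem axis_facts : (axC : ℕ) = axisIdx ∧
    rep axisIdx = ((List.range 24).map fun i => if i = 23 then (8 : ℤ) else 0) ∧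
    ((List.range 4096).countP fun a => decide (dotL (rep a) (rep a) / 8 = 8)) ≤ 1701 := by
  obtain ⟨h12, h3⟩ := (Bool.and_eq_true _ _).mp axis_ok
  obtain ⟨h1, h2⟩ := (Bool.and_eq_true _ _).mp h12
  refine ⟨?_, of_decide_eq_true h2, ?_⟩
  · show axisIdx % 2 ^ 12 = axisIdx
    exact Nat.mod_eq_of_lt (Nat.le_of_ble_eq_true h1)
  · generalize (List.range 4096).countP (fun a => decide (dotL (rep a) (rep a) / 8 = 8)) = n at h3 ⊢
    exact Nat.le_of_ble_eq_true h3

theorem fm_axis : fm.R axC = axis none := by
  refine Subtype.ext (funext fun p => ?_)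
  show toVec (rep axC) p = _
  rw [axis_facts.1, axis_facts.2.1, coe_axis, toVec, List.getD_eq_getElem _ _ (by simp [idx_lt]),
    List.getElem_map, List.getElem_range]
  by_cases hp : p = none
  · subst hp; simp [idx]
  · rw [Pi.single_eq_of_ne hp, if_neg]
    exact fun h => hp (idx_injective h)

theorem stab_cross {c : Cb} (h : theta c axC = axC) : (c : Co0) ∈ crossStab := by
  rw [← classStab_axis, mem_classStab, ← fm_axis]
  have h2 := classFun_spec fm c axC
  rwa [show classFun fm c axC = axC from h] at h2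

theorem card_Cb_le : Nat.card Cb ≤ 1701 * (1080 * 64) := by
  classical
  haveI := finite_Co0
  letI : MulAction Cb (Fin (2 ^ 12)) := MulAction.compHom _ theta
  rw [← (MulAction.stabilizer Cb axC).card_mul_index, mul_comm, MulAction.index_stabilizer]
  refine Nat.mul_le_mul ?_ ?_
  · let S : Finset (Fin (2 ^ 12)) := Finset.filter
      (fun a : Fin (2 ^ 12) => decide (dotL (rep (a : ℕ)) (rep (a : ℕ)) / 8 = 8) = true) Finset.univ
    have hS : S.card ≤ 1701 := by
      refine le_trans ?_ axis_facts.2.2
      rw [List.countP_eq_length_filter, ← List.toFinset_card_of_nodup (List.nodup_range.filter _)]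
      refine Finset.card_le_card_of_injOn (fun a : Fin (2 ^ 12) => (a : ℕ)) (fun a ha => ?_)
        fun a _ b _ h => Fin.ext h
      have ha' := (Finset.mem_filter.1 ha).2
      exact List.mem_toFinset.2 (List.mem_filter.2 ⟨List.mem_range.2 a.2, ha'⟩)
    refine le_trans (Set.ncard_le_ncard (t := (S : Set (Fin (2 ^ 12)))) ?_) (by rw [Set.ncard_coe_finset]; exact hS)
    rintro _ ⟨c, rfl⟩
    have h8 : ip ((c : Co0) • fm.R axC) ((c : Co0) • fm.R axC) = 8 := by
      rw [co0_ip, fm_axis]; exact ip_axis_self none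
    have h := fm.norm_eight h8 (classFun_spec fm c axC)
    rw [fm_R, rep2V, ip_latV'] at h
    exact Finset.mem_filter.2 ⟨Finset.mem_univ _, decide_eq_true h⟩
  · exact le_trans (Nat.card_le_card_of_injective
      (fun c => (⟨((c : Cb) : Co0), c.1.2, stab_cross c.2⟩ : (Cb ⊓ crossStab : Subgroup Co0)))
      fun a b h => Subtype.ext (Subtype.ext (congrArg Subtype.val h :))) card_cross_cent

theorem card_theta_ker : Nat.card theta.ker ≤ 1080 * 64 := by
  haveI := finite_Co0
  exact le_trans (Nat.card_le_card_of_injective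
    (fun c => (⟨((c : Cb) : Co0), c.1.2, stab_cross (DFunLike.congr_fun c.2 axC)⟩ : (Cb ⊓ crossStab : Subgroup Co0)))
    fun a b h => Subtype.ext (Subtype.ext (congrArg Subtype.val h :))) card_cross_cent

/-! ### The elements -/

theorem certs : certOK matA = true ∧ certOK matB = true ∧ certOK matW = true ∧ certOK matT = true ∧
    certOK matS = true := by
  have h := mats_ok
  simp only [List.all_cons, List.all_nil, Bool.and_eq_true, and_true] at h
  exact h

/-- The first generator. -/
noncomputable def gA : Co0 := matElt matA certs.1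
/-- The second generator. -/
noncomputable def gB : Co0 := matElt matB certs.2.1
/-- The element of the normal subgroup of order three. -/
noncomputable def gW : Co0 := matElt matW certs.2.2.1
/-- The outer element. -/
noncomputable def gT : Co0 := matElt matT certs.2.2.2.1

theorem gS_eq : matElt matS certs.2.2.2.2 = bA := by
  refine co0_ext_gen fun l hl hlg => Subtype.ext ?_
  have h := List.all_eq_true.1 matS_ok l hlg
  simp only [Bool.and_eq_true, eqL, decide_eq_true_eq] at h
  rw [← matElt_vec certs.2.2.2.2 hl h.1, h.2]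
  exact monoElt_vec rep3A_ok hl

theorem all_two {M N : List (List ℤ)} (h : certOK M = true) (h' : certOK N = true) : [M, N].all certOK = true := by
  simp [h, h']

theorem comm_of {M N : List (List ℤ)} (h : certOK M = true) (h' : certOK N = true)
    (hc : prodEqB [M, N] [N, M] = true) : matElt M h * matElt N h' = matElt N h' * matElt M h := by
  simpa [prodElt] using prodElt_eq (all_two h h') (all_two h' h) hc

theorem gA_b : gA * bA = bA * gA := gS_eq ▸ comm_of certs.1 certs.2.2.2.2 commAS
theorem gB_b : gB * bA = bA * gB := gS_eq ▸ comm_of certs.2.1 certs.2.2.2.2 commBS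
theorem gW_b : gW * bA = bA * gW := gS_eq ▸ comm_of certs.2.2.1 certs.2.2.2.2 commWS
theorem gT_b : gT * bA = bA * gT := gS_eq ▸ comm_of certs.2.2.2.1 certs.2.2.2.2 commTS
theorem gA_W : gA * gW = gW * gA := comm_of certs.1 certs.2.2.1 commAW
theorem gB_W : gB * gW = gW * gB := comm_of certs.2.1 certs.2.2.1 commBW

theorem gT_W : gT * gW = bA * bA * gW * gW * gT := by
  obtain ⟨-, -, hw, ht, hs⟩ := certs
  have h := prodElt_eq (all_two ht hw) (Bs := [matS, matS, matW, matW, matT]) (by simp [hs, hw, ht]) invertT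
  simp only [prodElt, mul_one] at h
  rw [gT, gW, ← gS_eq]
  simpa only [mul_assoc] using h

theorem gW_cube : gW ^ 3 = 1 := by
  obtain ⟨-, -, hw, -, -⟩ := certs
  have h := prodElt_eq (As := [matW, matW, matW]) (by simp [hw]) (Bs := []) (by simp) cubeW
  simp only [prodElt, mul_one] at h
  rw [gW, pow_succ', pow_two]
  exact h

theorem negCo0_comm (g : Co0) : g * negCo0 = negCo0 * g := Subgroup.mem_center_iff.1 negCo0_mem_center g

/-! ### The objects -/

theorem obj_facts (i : Fin 112) : latB (obj i) = true ∧ monoL rep3A 0 (obj i) = obj i ∧ divL matW (obj i) = true ∧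
    latB (imgL matW (obj i)) = true ∧ divL matW (imgL matW (obj i)) = true := by
  have h := objs_ok
  simp only [Bool.and_eq_true] at h
  have h' := allBelow_spec _ _ h.1 i i.2
  simp only [Bool.and_eq_true, eqL, decide_eq_true_eq] at h'
  exact ⟨h'.1.1.1.1, h'.1.1.1.2, h'.1.1.2, h'.1.2, h'.2⟩

/-- An object of the unitary action. -/
noncomputable def objV (i : Fin 112) : leechLattice := latV (obj i) (obj_facts i).1

theorem bA_objV (i : Fin 112) : bA • objV i = objV i :=
  Subtype.ext ((monoElt_vec rep3A_ok (obj_facts i).1).symm.trans (by rw [(obj_facts i).2.1]; rfl))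

/-- One minus the square sends the vector into thrice the lattice. -/
def InD (d : leechLattice) : Prop := ∃ y : leechLattice, d - gW • gW • d = y + y + y

theorem co0_sub (g : Co0) (x y : leechLattice) : g • (x - y) = g • x - g • y := by
  rw [← hom0_apply, map_sub]; rfl

theorem co0_zero (g : Co0) : g • (0 : leechLattice) = 0 := by rw [← hom0_apply, map_zero]

theorem InD.add {d d' : leechLattice} : InD d → InD d' → InD (d + d') := by
  rintro ⟨y, hy⟩ ⟨y', hy'⟩
  refine ⟨y + y', ?_⟩
  rw [co0_add, co0_add, show d + d' - (gW • gW • d + gW • gW • d') = (d - gW • gW • d) + (d' - gW • gW • d') by abel,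
    hy, hy']
  abel

theorem InD.neg {d : leechLattice} : InD d → InD (-d) := by
  rintro ⟨y, hy⟩
  refine ⟨-y, ?_⟩
  rw [co0_neg, co0_neg, show -d - -(gW • gW • d) = -(d - gW • gW • d) by abel, hy]
  abel

theorem InD.smul {g : Co0} (hg : g * gW = gW * g) {d : leechLattice} : InD d → InD (g • d) := by
  rintro ⟨y, hy⟩
  refine ⟨g • y, ?_⟩
  have hs : ∀ x : leechLattice, gW • g • x = g • gW • x := fun x => by rw [← mul_smul, ← hg, mul_smul]
  rw [hs, hs, ← co0_add, ← co0_add, ← hy, co0_sub]

/-- Congruence of objects up to sign. -/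
def Rel (x y : leechLattice) : Prop := InD (x - y) ∨ InD (x + y)

theorem Rel.symm {x y : leechLattice} : Rel x y → Rel y x := by
  rintro (h | h)
  · left; simpa using h.neg
  · right; rwa [add_comm]

theorem Rel.neg_left {x y : leechLattice} : Rel (-x) y → Rel x y := by
  rintro (h | h)
  · right; have := h.neg; rwa [show -(-x - y) = x + y by abel] at this
  · left; have := h.neg; rwa [show -(-x + y) = x - y by abel] at this

theorem Rel.trans {x y w : leechLattice} : Rel x y → Rel y w → Rel x w := by
  rintro (h | h) (h' | h')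
  · left; simpa using h.add h'
  · right; have := h.add h'; rwa [show x - y + (y + w) = x + w by abel] at this
  · right; have := h.add h'.neg; rwa [show x + y + -(y - w) = x + w by abel] at this
  · left; have := h.add h'.neg; rwa [show x + y + -(y + w) = x - w by abel] at this

theorem Rel.smul {g : Co0} (hg : g * gW = gW * g) {x y : leechLattice} : Rel x y → Rel (g • x) (g • y) := by
  rintro (h | h)
  · left
    have := InD.smul hg h
    rwa [← hom0_apply, map_sub] at this
  · right
    have := InD.smul hg h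
    rwa [co0_add] at this

/-- The vector with the residues of the key. -/
def keyL (i : ℕ) : List ℤ := addL (obj i) ((imgL matW (imgL matW (obj i))).map fun x => -x)

theorem keyL_vec (i : Fin 112) (p : GolayPt) :
    (keyL i).getD (idx p) 0 = ((objV i - gW • gW • objV i : leechLattice) : GolayPt → ℤ) p ∧ (keyL i).length = 24 := by
  obtain ⟨h1, -, h2, h3, h4⟩ := obj_facts i
  have v1 : gW • objV i = latV _ h3 := Subtype.ext (matElt_vec certs.2.2.1 h1 h2).symm
  have v2 : toVec (imgL matW (imgL matW (obj i))) = ((gW • gW • objV i : leechLattice) : GolayPt → ℤ) := by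
    rw [v1]; exact matElt_vec certs.2.2.1 h3 h4
  have l1 := latB_length h1
  have l2 : (imgL matW (imgL matW (obj i))).length = 24 := by
    rw [imgL, List.length_map]
    have := certs.2.2.1
    simp only [certOK, Bool.and_eq_true] at this
    exact (lengths this.1.1.1).1
  have hlen : (keyL i).length = 24 := by simp [keyL, addL, l1, l2]
  refine ⟨?_, hlen⟩
  have v3 := congrFun v2 p
  simp only [toVec] at v3
  rw [keyL, addL, getD_zipWith _ 0 0 0 (l1 ▸ idx_lt p) (by rw [List.length_map, l2]; exact idx_lt p),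
    List.getD_eq_getElem _ _ (show idx p < ((imgL matW (imgL matW (obj i))).map fun x => -x).length by
      rw [List.length_map, l2]; exact idx_lt p), List.getElem_map]
  rw [List.getD_eq_getElem _ _ (show idx p < _ by rw [l2]; exact idx_lt p)] at v3
  rw [v3]
  show (obj i).getD (idx p) 0 + -_ = (objV i : GolayPt → ℤ) p - _
  rw [sub_eq_add_neg]
  rfl

theorem objKey_congr {i j : Fin 112} {s : ℤ}
    (h : ∀ p : GolayPt, (3 : ℤ) ∣ (keyL i).getD (idx p) 0 - s * (keyL j).getD (idx p) 0) :
    objKey 1 i = objKey s j := by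
  have e : ∀ (s : ℤ) (k : ℕ), objKey s k =
      ((keyL k).map fun x => ((s * x) % 3).toNat).foldr (fun v acc => acc * 3 + v) 0 := fun s k => by
    rw [List.foldr_map]; rfl
  rw [e, e]
  congr 1
  have hi := (keyL_vec i none).2
  have hj := (keyL_vec j none).2
  refine List.ext_getElem (by simp [hi, hj]) fun k h1 h2 => ?_
  rw [List.length_map, hi] at h1
  have := h (pt ⟨k, h1⟩)
  rw [idx_pt, List.getD_eq_getElem _ _ (show k < _ by rw [hi]; exact h1),
    List.getD_eq_getElem _ _ (show k < _ by rw [hj]; exact h1)] at this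
  rw [List.getElem_map, List.getElem_map, one_mul]
  congr 1
  exact Int.emod_eq_emod_iff_emod_sub_eq_zero.2 (Int.emod_eq_zero_of_dvd this)

theorem Rel.eq_index {i j : Fin 112} (h : Rel (objV i) (objV j)) : i = j := by
  have hd := objs_ok
  simp only [Bool.and_eq_true] at hd
  obtain ⟨n1, -, n3⟩ := List.nodup_append.1 (distinctKeys_spec _ hd.2)
  rcases h with h | h <;> obtain ⟨y, hy⟩ := h
  · refine Fin.ext (List.inj_on_of_nodup_map n1 (List.mem_range.2 i.2) (List.mem_range.2 j.2) ?_)
    refine objKey_congr fun p => ⟨(y : GolayPt → ℤ) p, ?_⟩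
    rw [one_mul, (keyL_vec i p).1, (keyL_vec j p).1]
    have := congrArg (fun v : leechLattice => (v : GolayPt → ℤ) p) hy
    simp only [co0_sub, AddSubgroup.coe_sub, AddSubgroup.coe_add, Pi.sub_apply, Pi.add_apply] at this ⊢
    omega
  · refine absurd ?_ (n3 (objKey 1 i) (List.mem_map.2 ⟨i, List.mem_range.2 i.2, rfl⟩) (objKey (-1) j)
      (List.mem_map.2 ⟨j, List.mem_range.2 j.2, rfl⟩))
    refine objKey_congr fun p => ⟨(y : GolayPt → ℤ) p, ?_⟩
    rw [(keyL_vec i p).1, (keyL_vec j p).1]
    have := congrArg (fun v : leechLattice => (v : GolayPt → ℤ) p) hy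
    simp only [co0_add, AddSubgroup.coe_sub, AddSubgroup.coe_add, Pi.sub_apply, Pi.add_apply] at this ⊢
    omega

theorem move_rel {M : List (List ℤ)} (hM : certOK M = true) {sg : ℕ} {i j : Fin 112}
    (h : moveB M sg i j = true) : Rel (matElt M hM • objV i) (objV j) := by
  obtain ⟨hi, -⟩ := obj_facts i
  have hlj := latB_length (obj_facts j).1
  simp only [moveB, Bool.and_eq_true] at h
  obtain ⟨⟨⟨⟨⟨⟨⟨g1, g2⟩, g3⟩, g4⟩, g5⟩, g6⟩, g7⟩, g8⟩ := h
  generalize hd : addL (imgL M (obj i)) ((obj j).map fun x => if sg.testBit i then x else -x) = d at g3 g4 g5 g6 g7 g8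
  have key : InD (latV d g3) := by
    refine ⟨latV _ g8, Subtype.ext (funext fun p => ?_)⟩
    have ev1 : gW • latV d g3 = latV _ g5 := Subtype.ext (matElt_vec certs.2.2.1 g3 g4).symm
    have ev : ((gW • gW • latV d g3 : leechLattice) : GolayPt → ℤ) = toVec (imgL matW (imgL matW d)) := by
      rw [ev1]; exact (matElt_vec certs.2.2.1 g5 g6).symm
    have le := latB_length g8
    rw [List.length_map] at le
    have hp : idx p < (addL d ((imgL matW (imgL matW d)).map fun x => -x)).length := le ▸ idx_lt p
    have hdiv := List.all_eq_true.1 g7 _ (List.getElem_mem hp)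
    rw [decide_eq_true_eq] at hdiv
    simp only [addL, List.length_zipWith, List.length_map, lt_min_iff] at hp
    have e1 : (addL d ((imgL matW (imgL matW d)).map fun x => -x)).getD (idx p) 0 =
        d.getD (idx p) 0 + -(imgL matW (imgL matW d)).getD (idx p) 0 := by
      rw [addL, getD_zipWith _ 0 0 0 hp.1 (by rw [List.length_map]; exact hp.2),
        List.getD_eq_getElem _ _ (show idx p < ((imgL matW (imgL matW d)).map fun x => -x).length by
          rw [List.length_map]; exact hp.2), List.getElem_map, ← List.getD_eq_getElem _ (0 : ℤ) hp.2]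
    show toVec d p - ((gW • gW • latV d g3 : leechLattice) : GolayPt → ℤ) p = toVec _ p + toVec _ p + toVec _ p
    rw [ev]
    simp only [toVec]
    rw [List.getD_eq_getElem _ _ (show idx p < ((addL d ((imgL matW (imgL matW d)).map fun x => -x)).map
      (· / 3)).length by rw [List.length_map, le]; exact idx_lt p), List.getElem_map]
    rw [List.getD_eq_getElem _ _ (show idx p < (addL d ((imgL matW (imgL matW d)).map fun x => -x)).length by
      rw [le]; exact idx_lt p)] at e1
    omega
  have hl : (imgL M (obj i)).length = 24 := latB_length g2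
  have ev : matElt M hM • objV i = latV _ g2 := Subtype.ext (matElt_vec hM hi g1).symm
  cases hb : sg.testBit i
  · left
    have he : latV d g3 = matElt M hM • objV i - objV j := Subtype.ext (funext fun p => by
      rw [ev]
      show toVec d p = toVec (imgL M (obj i)) p - toVec (obj j) p
      simp only [toVec, ← hd, addL, hb, Bool.false_eq_true, if_false]
      rw [getD_zipWith _ 0 0 0 (hl ▸ idx_lt p) (by rw [List.length_map, hlj]; exact idx_lt p),
        List.getD_eq_getElem _ _ (show idx p < ((obj j).map fun x => -x).length by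
          rw [List.length_map, hlj]; exact idx_lt p), List.getElem_map, ← List.getD_eq_getElem _ (0 : ℤ)]
      ring)
    rwa [he] at key
  · right
    have he : latV d g3 = matElt M hM • objV i + objV j := Subtype.ext (funext fun p => by
      rw [ev]
      show toVec d p = toVec (imgL M (obj i)) p + toVec (obj j) p
      simp only [toVec, ← hd, addL, hb, if_true, List.map_id']
      rw [getD_zipWith _ 0 0 0 (hl ▸ idx_lt p) (hlj ▸ idx_lt p)])
    rwa [he] at key

/-! ### The hom to the unitary group -/

/-- The unitary group on the totally isotropic lines. -/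
abbrev U43 : Subgroup (Equiv.Perm (Fin 112)) := genGroup 7 112 u43Gens

theorem u43_equiv (F : Type) [Field F] [Fintype F] (hF : Fintype.card F = 9) :
    Nonempty (Cfsg.PSU 4 F 3 ≃* ↥U43) := by
  obtain ⟨φ, hr, hk, -⟩ := SchurMult.exists_u43_hom hF
  exact ⟨((QuotientGroup.quotientMulEquivOfEq hk.symm).trans (QuotientGroup.quotientKerEquivRange φ)).trans
    (MulEquiv.subgroupCongr hr)⟩

theorem u43_simple : IsSimpleGroup ↥U43 := by
  have hK : Fintype.card SchurMult.K9 = 9 := SchurMult.K9.card
  obtain ⟨e⟩ := u43_equiv SchurMult.K9 hK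
  obtain ⟨σ, -, hf, -⟩ := UnitaryStd.exists_setup (F := SchurMult.K9) (q := 3) (n := 4) (by rw [hK]; norm_num) (by norm_num)
  have := UnitaryStd.isSimpleGroup_psu hf (show 3 ≤ 4 by norm_num) (fun h => absurd h (by norm_num))
  exact e.symm.isSimpleGroup

theorem u43_card' : Nat.card ↥U43 = 3265920 := (cert_card SchurMult.u43_cert).trans SchurMult.u43_order

/-- The pairs of an element and a permutation of the objects. -/
noncomputable def graph : Subgroup (Co0 × Equiv.Perm (Fin 112)) where
  carrier := {x | x.1 * gW = gW * x.1 ∧ x.1 * bA = bA * x.1 ∧ ∀ i, Rel (x.1 • objV i) (objV (x.2 i))}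
  one_mem' := ⟨by simp, by simp, fun i => Or.inl ⟨0, by simp [co0_zero]⟩⟩
  mul_mem' := fun {x y} hx hy => ⟨(Commute.mul_left hx.1 hy.1).eq, (Commute.mul_left hx.2.1 hy.2.1).eq, fun i => by
    show Rel ((x.1 * y.1) • objV i) (objV (x.2 (y.2 i)))
    rw [mul_smul]
    exact (Rel.smul hx.1 (hy.2.2 i)).trans (hx.2.2 _)⟩
  inv_mem' := fun {x} hx => ⟨(Commute.inv_left hx.1).eq, (Commute.inv_left hx.2.1).eq, fun i => by
    show Rel (x.1⁻¹ • objV i) (objV (x.2⁻¹ i))
    have h := Rel.smul (g := x.1⁻¹) (Commute.inv_left hx.1).eq (hx.2.2 (x.2⁻¹ i))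
    rw [inv_smul_smul, show x.2 (x.2⁻¹ i) = i from x.2.apply_symm_apply i] at h
    exact h.symm⟩

theorem graph_funct {x : Co0 × Equiv.Perm (Fin 112)} (hx : x ∈ graph) (h : x.1 = 1) : x.2 = 1 := by
  refine Equiv.ext fun i => ?_
  have := hx.2.2 i
  rw [h, one_smul] at this
  exact this.eq_index.symm

theorem valid_u43 : ∀ k < 2, validElt 7 112 (u43Gens.getD k (0, 0)) = true := by decide +kernel

/-- The paired generators. -/
noncomputable def pairs : Set (Co0 × Equiv.Perm (Fin 112)) :=
  {(gA, toPerm 7 112 (u43Gens.getD 0 (0, 0))), (gB, toPerm 7 112 (u43Gens.getD 1 (0, 0))), (gW, 1), (bA, 1),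
    (negCo0, 1)}

theorem pairs_le : pairs ⊆ graph := by
  have hv : ∀ k < 2, ∀ i : Fin 112, (toPerm 7 112 (u43Gens.getD k (0, 0)) i : ℕ) = get 7 (u43Gens.getD k (0, 0)).1 i :=
    fun k hk i => ((rep_toPerm (valid_u43 k hk)) i).1.symm
  rintro x (rfl | rfl | rfl | rfl | rfl)
  · refine ⟨gA_W, gA_b, fun i => move_rel certs.1 (sg := signs.getD 0 0) ?_⟩
    rw [hv 0 (by norm_num)]
    exact allBelow_spec _ _ moveA_ok i i.2
  · refine ⟨gB_W, gB_b, fun i => move_rel certs.2.1 (sg := signs.getD 1 0) ?_⟩
    rw [hv 1 (by norm_num)]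
    exact allBelow_spec _ _ moveB_ok i i.2
  · exact ⟨rfl, gW_b, fun i => move_rel certs.2.2.1 (sg := signs.getD 2 0) (allBelow_spec _ _ moveW_ok i i.2)⟩
  · refine ⟨gW_b.symm, rfl, fun i => Or.inl ⟨0, ?_⟩⟩
    show bA • objV i - objV i - gW • gW • (bA • objV i - objV i) = _
    rw [bA_objV, sub_self, co0_zero, co0_zero]
    simp
  · refine ⟨(negCo0_comm gW).symm, (negCo0_comm bA).symm, fun i => Or.inr ⟨0, ?_⟩⟩
    show negCo0 • objV i + objV i - gW • gW • (negCo0 • objV i + objV i) = _
    rw [negCo0_smul, neg_add_cancel, co0_zero, co0_zero]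
    simp

/-- The group of pairs. -/
noncomputable abbrev Pg : Subgroup (Co0 × Equiv.Perm (Fin 112)) := Subgroup.closure pairs

theorem Pg_le : Pg ≤ graph := (Subgroup.closure_le _).2 pairs_le

theorem snd_Pg : Pg.map (MonoidHom.snd _ _) = U43 := by
  have hgens : u43Gens = [u43Gens.getD 0 (0, 0), u43Gens.getD 1 (0, 0)] := rfl
  refine le_antisymm ?_ ?_
  · rw [MonoidHom.map_closure, Subgroup.closure_le]
    rintro _ ⟨x, hx, rfl⟩
    rcases hx with rfl | rfl | rfl | rfl | rfl
    · exact Subgroup.subset_closure (List.mem_map.2 ⟨u43Gens.getD 0 (0, 0),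
        hgens ▸ List.mem_cons_self, rfl⟩)
    · exact Subgroup.subset_closure (List.mem_map.2 ⟨u43Gens.getD 1 (0, 0),
        hgens ▸ List.mem_cons_of_mem _ List.mem_cons_self, rfl⟩)
    all_goals exact one_mem _
  · refine (Subgroup.closure_le _).2 fun π hπ => ?_
    obtain ⟨e, he, rfl⟩ := List.mem_map.1 hπ
    rw [hgens] at he
    simp only [List.mem_cons, List.not_mem_nil, or_false] at he
    rcases he with rfl | rfl
    · exact ⟨_, Subgroup.subset_closure (Or.inl rfl), rfl⟩
    · exact ⟨_, Subgroup.subset_closure (Or.inr (Or.inl rfl)), rfl⟩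

/-- The element of an element of the group of pairs. -/
noncomputable def toCb : Pg →* Cb :=
  ((MonoidHom.fst _ _).comp Pg.subtype).codRestrict Cb fun x =>
    Subgroup.mem_centralizer_singleton_iff.2 (Pg_le x.2).2.1

theorem toCb_inj : Function.Injective toCb := by
  refine (injective_iff_map_eq_one _).2 fun x hx => ?_
  have h : x.1.1 = 1 := congrArg Subtype.val hx
  exact Subtype.ext (Prod.ext h (graph_funct (Pg_le x.2) h))

/-- The permutation of the objects. -/
noncomputable def toU : Pg →* U43 :=
  ((MonoidHom.snd _ _).comp Pg.subtype).codRestrict U43 fun x => snd_Pg ▸ ⟨x, x.2, rfl⟩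

theorem toU_surj : Function.Surjective toU := by
  intro u
  obtain ⟨x, hx, e⟩ := snd_Pg.ge u.2
  exact ⟨⟨x, hx⟩, Subtype.ext e⟩

/-- The subgroup of index two. -/
noncomputable def X : Subgroup Cb := toCb.range

/-- The element of order three as an element of the centraliser. -/
noncomputable def cW : Cb := ⟨gW, Subgroup.mem_centralizer_singleton_iff.2 gW_b⟩

/-- The outer element of the centraliser. -/
noncomputable def cT : Cb := ⟨gT, Subgroup.mem_centralizer_singleton_iff.2 gT_b⟩

/-- The element of order six in the kernel. -/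
noncomputable def six : Cb :=
  ⟨negCo0 * bA, Subgroup.mem_centralizer_singleton_iff.2 (by
    rw [mul_assoc, ← mul_assoc bA negCo0 bA, negCo0_comm bA, mul_assoc])⟩

theorem six_order : orderOf six = 6 := by
  rw [← Subgroup.orderOf_coe]
  show orderOf (negCo0 * bA) = 6
  haveI : Fact (Nat.Prime 2) := ⟨Nat.prime_two⟩
  haveI : Fact (Nat.Prime 3) := ⟨Nat.prime_three⟩
  have h2 : orderOf negCo0 = 2 := orderOf_eq_prime (by rw [pow_two]; exact negCo0_sq) negCo0_ne_one
  have h3 : orderOf bA = 3 := orderOf_eq_prime bA_pow bA_ne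
  rw [(show Commute negCo0 bA from (negCo0_comm bA).symm).orderOf_mul_eq_mul_orderOf_of_coprime
    (by rw [h2, h3]; decide), h2, h3]

theorem theta_cW : theta cW ≠ 1 := by
  intro h
  have h1 := (classHom_triv fm).1 h ⟨1, by norm_num⟩
  have hm := moveW
  simp only [Bool.and_eq_true, Bool.not_eq_true'] at hm
  obtain ⟨⟨h2, h3⟩, h4⟩ := hm
  have hv : gW • fm.R ⟨1, by norm_num⟩ = latV _ h3 :=
    Subtype.ext (matElt_vec certs.2.2.1 (short_lat 1 (by norm_num)) h2).symm
  change Cong (gW • fm.R _) _ at h1
  rw [hv, fm_R] at h1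
  refine absurd (parKey_congr h3 (short_lat 1 (by norm_num)) h1) fun e => ?_
  rw [e, Bool.eq_false_iff] at h4
  exact h4 (Nat.beq_refl _)
where
  short_lat (a : ℕ) (ha : a < 2 ^ 12) : latB (rep a) = true := (Bool.and_eq_true _ _ ▸ short_all a ha).1
  parKey_congr {l l' : List ℤ} (hl : latB l = true) (hl' : latB l' = true) (h : Cong (latV l hl) (latV l' hl')) :
      parKey l = parKey l' := by
    refine Nat.eq_of_testBit_eq fun k => ?_
    simp only [parKey, testBit_mkMask]
    rcases Nat.lt_or_ge k genL.length with hk | hk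
    · have hg : latB (genL.getD k []) = true := by
        rw [List.getD_eq_getElem _ _ hk]
        exact List.all_eq_true.1 genL_ok _ (List.getElem_mem hk)
      have := cong_parity (w := latV _ hg) h
      rw [ip_latV', ip_latV', Int.dvd_iff_emod_eq_zero, Int.dvd_iff_emod_eq_zero] at this
      congr 1
      refine decide_eq_decide.2 ?_
      omega
    · simp [Nat.not_lt.2 hk]

theorem six_mem : six ∈ theta.ker := by
  refine (classHom_triv fm).2 fun a => ?_
  show Cong ((negCo0 * bA) • fm.R a) (fm.R a)
  rw [mul_smul]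
  exact cong_trans (smul_cong_neg _) (fm.fixed a)

theorem theta_cT : theta cT * theta cW * (theta cT)⁻¹ = (theta cW)⁻¹ := by
  have hb : theta (⟨bA, Subgroup.mem_centralizer_singleton_iff.2 rfl⟩ : Cb) = 1 :=
    (classHom_triv fm).2 fun a => fm.fixed a
  have h : cT * cW = ⟨bA, Subgroup.mem_centralizer_singleton_iff.2 rfl⟩ *
      ⟨bA, Subgroup.mem_centralizer_singleton_iff.2 rfl⟩ * cW * cW * cT := Subtype.ext gT_W
  have h3 : theta cW * theta cW * theta cW = 1 := by
    rw [← map_mul, ← map_mul, show cW * cW * cW = 1 from Subtype.ext (by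
      show gW * gW * gW = 1
      rw [← pow_two, ← pow_succ]; exact gW_cube), map_one]
  rw [mul_inv_eq_iff_eq_mul, ← map_mul, h, map_mul, map_mul, map_mul, map_mul, hb, one_mul, one_mul,
    eq_inv_of_mul_eq_one_left h3]

theorem theta_comm {x : Cb} (hx : x ∈ X) : theta x * theta cW = theta cW * theta x := by
  obtain ⟨y, rfl⟩ := hx
  rw [← map_mul, ← map_mul]
  congr 1
  exact Subtype.ext (Pg_le y.2).1

theorem cW_sq_ne : theta cW ≠ (theta cW)⁻¹ := fun h => theta_cW (by
  have h3 : theta cW ^ 3 = 1 := by rw [← map_pow, show cW ^ 3 = 1 from Subtype.ext gW_cube, map_one]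
  have h2 : theta cW ^ 2 = 1 := by rw [pow_two]; nth_rw 2 [h]; exact mul_inv_cancel _
  calc theta cW = theta cW ^ 2 * theta cW := by rw [h2, one_mul]
    _ = 1 := by rw [← pow_succ]; exact h3)

theorem cT_not : cT ∉ X := fun h => cW_sq_ne (by
  have := theta_comm h
  rw [← theta_cT, this, mul_inv_cancel_right])

/-- The elements of the group of pairs over the kernel of the action on the objects. -/
noncomputable def Kb : Subgroup Cb := toU.ker.map toCb

theorem six_in : six ∈ Kb := by
  refine ⟨⟨(negCo0 * bA, 1 * 1), ?_⟩, ?_, rfl⟩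
  · exact Subgroup.mul_mem (Subgroup.closure pairs) (Subgroup.subset_closure (show ((negCo0, 1) : Co0 × _) ∈ pairs from
      Or.inr (Or.inr (Or.inr (Or.inr rfl))))) (Subgroup.subset_closure (show ((bA, 1) : Co0 × _) ∈ pairs from
      Or.inr (Or.inr (Or.inr (Or.inl rfl)))))
  · exact Subtype.ext (one_mul 1)

theorem cW_in : cW ∈ Kb :=
  ⟨⟨(gW, 1), Subgroup.subset_closure (Or.inr (Or.inr (Or.inl rfl)))⟩, Subtype.ext rfl, rfl⟩

theorem card_Kb_ge : 18 ≤ Nat.card Kb := by
  haveI := finite_Co0
  haveI : Fact (Nat.Prime 3) := ⟨Nat.prime_three⟩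
  have h := (theta.comp Kb.subtype).ker.card_mul_index
  rw [Subgroup.index_ker] at h
  rw [← h]
  refine le_trans (le_of_eq (show 18 = 6 * 3 from rfl)) (Nat.mul_le_mul ?_ ?_)
  · rw [← six_order, ← Subgroup.orderOf_mk (H := Kb) six six_in]
    refine Nat.le_of_dvd Nat.card_pos ?_
    rw [← Nat.card_zpowers]
    exact Subgroup.card_dvd_of_le (Subgroup.zpowers_le.2 six_mem)
  · have h3 : orderOf (theta cW) = 3 :=
      orderOf_eq_prime (by rw [← map_pow, show cW ^ 3 = 1 from Subtype.ext gW_cube, map_one]) theta_cW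
    rw [← h3, ← Nat.card_zpowers]
    exact Subgroup.card_le_of_le (Subgroup.zpowers_le.2 ⟨⟨cW, cW_in⟩, rfl⟩)

theorem cards : Nat.card X = 58786560 ∧ Nat.card Cb = 117573120 ∧ X.index = 2 ∧ Nat.card Kb = 18 := by
  haveI := finite_Co0
  have hP : Nat.card X = Nat.card Pg := (Nat.card_congr (MonoidHom.ofInjective toCb_inj).toEquiv).symm
  haveI : Finite Pg := Finite.of_injective _ toCb_inj
  have h := toU.ker.card_mul_index
  rw [Subgroup.index_ker, MonoidHom.range_eq_top.2 toU_surj, Subgroup.card_top, u43_card', ← hP] at h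
  have hK : Nat.card Kb = Nat.card toU.ker := Subgroup.card_map_of_injective toCb_inj
  have h18 := card_Kb_ge
  rw [hK] at h18
  have hi := X.card_mul_index
  have hne : X.index ≠ 1 := fun e => cT_not (by rw [Subgroup.index_eq_one.1 e]; trivial)
  have h0 : X.index ≠ 0 := Subgroup.index_ne_zero_of_finite
  have hC := card_Cb_le
  rw [hK]
  generalize Nat.card toU.ker = k at h h18 ⊢
  generalize Nat.card X = n at h hi ⊢
  generalize X.index = i at hi hne h0 ⊢
  generalize Nat.card Cb = c at hi hC ⊢
  norm_num at hC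
  have h2 : n * 2 ≤ n * i := Nat.mul_le_mul_left _ (by omega)
  have hk : k = 18 := by omega
  subst hk
  have hn : n = 58786560 := by omega
  subst hn
  refine ⟨rfl, by omega, ?_, rfl⟩
  omega

theorem mem_X_or (c : Cb) : c ∈ X ∨ cT⁻¹ * c ∈ X := by
  by_cases h : c ∈ X
  · exact Or.inl h
  · refine Or.inr ((Subgroup.mul_mem_iff_of_index_two cards.2.2.1).2 ?_)
    exact iff_of_false (fun h' => cT_not (inv_mem_iff.1 h')) h

theorem theta_ker : theta.ker = Subgroup.zpowers six := by
  haveI := finite_Co0
  have hXle : theta.ker ≤ X := by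
    intro c hc
    rcases mem_X_or c with h | h
    · exact h
    · exfalso
      refine cW_sq_ne ?_
      have := theta_comm h
      rw [map_mul, map_inv, MonoidHom.mem_ker.1 hc, mul_one] at this
      rw [← theta_cT]
      calc theta cW = theta cT * ((theta cT)⁻¹ * theta cW) := by group
        _ = _ := by rw [this]; group
  let N : Subgroup Pg := theta.ker.comap toCb
  haveI hN : N.Normal := inferInstanceAs (theta.ker.comap toCb).Normal
  haveI := u43_simple
  have hNU : N.map toU = ⊥ := by
    rcases Subgroup.Normal.eq_bot_or_eq_top (hN.map toU toU_surj) with h | h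
    · exact h
    · exfalso
      have h1 : Nat.card (N.map toU) ∣ Nat.card N := Subgroup.card_map_dvd _ _
      rw [h, Subgroup.card_top, u43_card'] at h1
      have h2 : Nat.card N ≤ Nat.card theta.ker := Nat.card_le_card_of_injective (fun n => ⟨toCb n.1, n.2⟩)
        fun a b e => Subtype.ext (toCb_inj (congrArg Subtype.val e :))
      have := card_theta_ker
      have : 0 < Nat.card N := by
        haveI : Finite Pg := Finite.of_injective _ toCb_inj
        exact Nat.card_pos
      have := Nat.le_of_dvd this h1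
      omega
  have hKb : theta.ker ≤ Kb := by
    intro c hc
    obtain ⟨y, rfl⟩ := hXle hc
    refine ⟨y, ?_, rfl⟩
    have : toU y ∈ N.map toU := ⟨y, hc, rfl⟩
    rwa [hNU] at this
  have hd : Nat.card theta.ker ∣ 18 := cards.2.2.2 ▸ Subgroup.card_dvd_of_le hKb
  have hne : theta.ker ≠ Kb := fun e => theta_cW (MonoidHom.mem_ker.1 (e ▸ cW_in))
  have hlt : Nat.card theta.ker < 18 := by
    refine lt_of_le_of_ne (Nat.le_of_dvd (by norm_num) hd) fun e => hne ?_
    exact Subgroup.eq_of_le_of_card_ge hKb (by rw [e, cards.2.2.2])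
  have hle : Subgroup.zpowers six ≤ theta.ker := Subgroup.zpowers_le.2 six_mem
  have h6 : 6 ∣ Nat.card theta.ker := by
    rw [← six_order, ← Nat.card_zpowers]; exact Subgroup.card_dvd_of_le hle
  refine (Subgroup.eq_of_le_of_card_ge hle ?_).symm
  rw [Nat.card_zpowers, six_order]
  obtain ⟨k, hk⟩ := h6
  obtain ⟨j, hj⟩ := hd
  rcases Nat.lt_or_ge k 3 with hk3 | hk3
  · rw [hk] at hj
    interval_cases k <;> omega
  · omega

/-- The image of the centraliser. -/
noncomputable abbrev T : Subgroup (Equiv.Perm (Fin (2 ^ 12))) := theta.range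

/-- The subgroup of index two of the image. -/
noncomputable def M0 : Subgroup T := X.map theta.rangeRestrict

/-- The subgroup of order three of the image. -/
noncomputable def N0 : Subgroup T := Kb.map theta.rangeRestrict

theorem rr_ker : theta.rangeRestrict.ker = Subgroup.zpowers six := by
  rw [MonoidHom.ker_rangeRestrict, theta_ker]

theorem ker_le : theta.rangeRestrict.ker ≤ X ∧ theta.rangeRestrict.ker ≤ Kb := by
  rw [rr_ker]
  exact ⟨Subgroup.zpowers_le.2 (Subgroup.map_le_range toCb _ six_in), Subgroup.zpowers_le.2 six_in⟩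

theorem M0_index : M0.index = 2 := by
  rw [M0, Subgroup.index_map_eq _ theta.rangeRestrict_surjective ker_le.1, cards.2.2.1]

theorem card_map_image {H : Subgroup Cb} (hH : theta.rangeRestrict.ker ≤ H) :
    Nat.card (H.map theta.rangeRestrict) * 6 = Nat.card H := by
  have h := (theta.rangeRestrict.comp H.subtype).ker.card_mul_index
  rw [Subgroup.index_ker, MonoidHom.range_comp, Subgroup.range_subtype] at h
  rw [← h, mul_comm]
  congr 1
  rw [← six_order, ← Nat.card_zpowers, ← rr_ker, ← Subgroup.card_map_of_injective H.subtype_injective]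
  refine congrArg (fun S : Subgroup Cb => Nat.card S) (SetLike.ext fun y => ?_)
  constructor
  · intro hy; exact ⟨⟨y, hH hy⟩, hy, rfl⟩
  · rintro ⟨y, hy, rfl⟩; exact hy

theorem card_N0 : Nat.card N0 = 3 := by
  have h := card_map_image ker_le.2
  rw [cards.2.2.2] at h
  show Nat.card (Kb.map theta.rangeRestrict) = 3
  omega

theorem N0_le : N0 ≤ M0 := Subgroup.map_mono (Subgroup.map_le_range toCb _)

theorem exists_chi : ∃ χ : M0 →* U43, Function.Surjective χ ∧ χ.ker = N0.subgroupOf M0 := by
  let p : Pg →* M0 := (theta.rangeRestrict.comp toCb).codRestrict M0 fun y => ⟨toCb y, ⟨y, rfl⟩, rfl⟩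
  have hp : Function.Surjective p := by
    rintro ⟨_, _, ⟨y, rfl⟩, rfl⟩
    exact ⟨y, rfl⟩
  have hle : p.ker ≤ toU.ker := by
    intro y hy
    have h1 : toCb y ∈ theta.rangeRestrict.ker := congrArg Subtype.val (MonoidHom.mem_ker.1 hy)
    obtain ⟨y', hy', e⟩ := ker_le.2 h1
    rwa [toCb_inj e] at hy'
  let χ : M0 →* U43 := (MonoidHom.liftOfSurjective p hp) ⟨toU, hle⟩
  have hχ : ∀ y, χ (p y) = toU y := fun y =>
    MonoidHom.liftOfRightInverse_comp_apply p _ (Function.rightInverse_surjInv hp) ⟨toU, hle⟩ y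
  refine ⟨χ, fun u => ?_, ?_⟩
  · obtain ⟨y, hy⟩ := toU_surj u
    exact ⟨p y, (hχ y).trans hy⟩
  · ext m
    obtain ⟨y, rfl⟩ := hp m
    rw [MonoidHom.mem_ker, hχ, Subgroup.mem_subgroupOf]
    constructor
    · intro h; exact ⟨toCb y, ⟨y, h, rfl⟩, rfl⟩
    · rintro ⟨c, ⟨y', hy', rfl⟩, e⟩
      have h1 : y'⁻¹ * y ∈ p.ker := Subtype.ext (by
        show theta.rangeRestrict (toCb (y'⁻¹ * y)) = 1
        have e' : theta.rangeRestrict (toCb y') = theta.rangeRestrict (toCb y) := e
        rw [map_mul, map_mul, map_inv, map_inv, e', inv_mul_cancel])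
      have h2 := hle h1
      rw [MonoidHom.mem_ker, map_mul, map_inv, MonoidHom.mem_ker.1 hy', inv_one, one_mul] at h2
      exact h2

theorem M0_normal : M0.Normal := Subgroup.normal_of_index_eq_two M0_index

/-- The image of the element of order three. -/
noncomputable def wT : T := theta.rangeRestrict cW

theorem wT_mem : wT ∈ N0 := ⟨cW, cW_in, rfl⟩

theorem wT_ne : wT ≠ 1 := fun h => theta_cW (congrArg Subtype.val h)

theorem N0_eq : N0 = Subgroup.zpowers wT := by
  haveI : Fact (Nat.Prime 3) := ⟨Nat.prime_three⟩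
  refine (Subgroup.eq_of_le_of_card_ge (Subgroup.zpowers_le.2 wT_mem) ?_).symm
  rw [card_N0, Nat.card_zpowers, orderOf_eq_prime (p := 3) ?_ wT_ne]
  rw [wT, ← map_pow, show cW ^ 3 = 1 from Subtype.ext gW_cube, map_one]

theorem conj_wT (t : T) : (t ∈ M0 ∧ t * wT * t⁻¹ = wT) ∨ (t ∉ M0 ∧ t * wT * t⁻¹ = wT⁻¹) := by
  obtain ⟨c, rfl⟩ := theta.rangeRestrict_surjective t
  rcases mem_X_or c with h | h
  · refine Or.inl ⟨⟨c, h, rfl⟩, Subtype.ext ?_⟩
    show theta c * theta cW * (theta c)⁻¹ = theta cW
    rw [theta_comm h, mul_inv_cancel_right]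
  · have h1 : theta c * theta cW * (theta c)⁻¹ = (theta cW)⁻¹ := by
      have := theta_comm h
      rw [← theta_cT]
      calc theta c * theta cW * (theta c)⁻¹
          = theta cT * (theta (cT⁻¹ * c) * theta cW) * (theta c)⁻¹ := by rw [map_mul, map_inv]; group
        _ = theta cT * theta cW * (theta cT)⁻¹ := by rw [this, map_mul, map_inv]; group
    refine Or.inr ⟨?_, Subtype.ext h1⟩
    rintro ⟨d, hd, e⟩
    refine cW_sq_ne ?_
    have e' : theta d = theta c := congrArg Subtype.val e
    rw [← h1, ← e', theta_comm hd, mul_inv_cancel_right]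

theorem N0_normal : N0.Normal := by
  rw [N0_eq]
  refine ⟨fun n hn t => ?_⟩
  obtain ⟨i, rfl⟩ := Subgroup.mem_zpowers_iff.1 hn
  rw [← conj_zpow]
  rcases conj_wT t with ⟨-, e⟩ | ⟨-, e⟩ <;> rw [e]
  · exact Subgroup.zpow_mem _ (Subgroup.mem_zpowers _) i
  · exact Subgroup.zpow_mem _ (inv_mem (Subgroup.mem_zpowers _)) i

theorem core_T : pCore 2 T = ⊥ := by
  haveI : Fact (Nat.Prime 2) := ⟨Nat.prime_two⟩
  haveI hPn : (pCore 2 T).Normal := FittingCores.pCore_normal 2
  have hP : IsPGroup 2 (pCore 2 T) := PBasic.pCore_isPGroup 2 T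
  have hcop : ∀ x ∈ pCore 2 T, x ^ 3 = 1 → x = 1 := by
    intro x hx h3
    obtain ⟨n, hn⟩ := hP ⟨x, hx⟩
    have h2 : x ^ 2 ^ n = 1 := congrArg Subtype.val hn
    have := Nat.dvd_gcd (orderOf_dvd_of_pow_eq_one h3) (orderOf_dvd_of_pow_eq_one h2)
    rwa [(((Nat.coprime_primes Nat.prime_three Nat.prime_two).2 (by norm_num)).pow_right n).gcd_eq_one,
      Nat.dvd_one, orderOf_eq_one_iff] at this
  rw [Subgroup.eq_bot_iff_forall]
  intro x hx
  haveI := M0_normal
  have hw3 : wT ^ 3 = 1 := by rw [wT, ← map_pow, show cW ^ 3 = 1 from Subtype.ext gW_cube, map_one]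
  rcases conj_wT x with ⟨hxM, -⟩ | ⟨-, e⟩
  · obtain ⟨χ, hχ, hker⟩ := exists_chi
    haveI := u43_simple
    let P : Subgroup M0 := (pCore 2 T).subgroupOf M0
    have hPP : IsPGroup 2 P := hP.comap_of_injective M0.subtype M0.subtype_injective
    have hbot : P.map χ = ⊥ := by
      rcases Subgroup.Normal.eq_bot_or_eq_top ((inferInstance : P.Normal).map χ hχ) with h | h
      · exact h
      · exfalso
        have hU := hPP.map χ
        rw [h] at hU
        obtain ⟨n, hn⟩ := IsPGroup.iff_card.1 hU
        rw [Subgroup.card_top, u43_card'] at hn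
        have h3 : 3 ∣ 2 ^ n := hn ▸ (by decide)
        have := (Nat.prime_dvd_prime_iff_eq Nat.prime_three Nat.prime_two).1 (Nat.prime_three.dvd_of_dvd_pow h3)
        omega
    have h1 : χ ⟨x, hxM⟩ ∈ P.map χ := ⟨_, hx, rfl⟩
    rw [hbot, Subgroup.mem_bot, ← MonoidHom.mem_ker, hker, Subgroup.mem_subgroupOf, N0_eq] at h1
    refine hcop x hx ?_
    obtain ⟨i, hi⟩ := Subgroup.mem_zpowers_iff.1 h1
    rw [show x = wT ^ i from hi.symm, ← zpow_natCast, ← zpow_mul, mul_comm, zpow_mul, zpow_natCast, hw3, one_zpow]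
  · exfalso
    refine wT_ne ?_
    have h1 : x * wT * x⁻¹ * wT⁻¹ ∈ pCore 2 T := by
      rw [mul_assoc x, mul_assoc x]
      exact mul_mem hx (hPn.conj_mem _ (inv_mem hx) wT)
    rw [e] at h1
    have h2 : wT⁻¹ * wT⁻¹ = wT := by
      rw [← mul_inv_rev, inv_eq_iff_mul_eq_one, ← pow_two, ← pow_succ, hw3]
    rw [h2] at h1
    exact hcop _ h1 hw3

/-- **The model of the centraliser.** -/
noncomputable def centModel : CentModel bA 3 12 T where
  fm := fm
  F := theta.rangeRestrict
  surj := theta.rangeRestrict_surjective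
  triv := by
    intro c hc
    refine Subtype.ext ((classHom_triv fm).2 fun a => ?_)
    rcases hc with hc | hc <;> rw [hc]
    · exact fm.fixed a
    · exact smul_cong_neg _
  ker := by
    intro c hc
    haveI := finite_Co0
    have h : c ∈ theta.ker := congrArg Subtype.val hc
    rw [theta_ker] at h
    obtain ⟨n, hn⟩ := mem_powers_iff_mem_zpowers.2 h
    refine ⟨n, ?_⟩
    have he : (c : Co0) = negCo0 ^ n * bA ^ n := by
      rw [← hn, Subgroup.coe_pow, ← (show Commute negCo0 bA from (negCo0_comm bA).symm).mul_pow]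
      rfl
    rcases Nat.even_or_odd' n with ⟨k, rfl | rfl⟩
    · left; rw [he, pow_mul, pow_two, negCo0_sq, one_pow, one_mul]
    · right; rw [he, pow_succ, pow_mul, pow_two, negCo0_sq, one_pow, one_mul]
  faith := fun c hc => Subtype.ext ((classHom_triv fm).2 hc)
  core := core_T

/-- A quotient isomorphic to the image of the centraliser gives the large Fischer type. -/
theorem isOfLargeFischerTypeAt {H : Type*} [Group H] [Finite H] {z : H}
    {R : Subgroup (Subgroup.centralizer ({z} : Set H))} [R.Normal]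
    (hs : IsExtraspecialCentralizerSetting z R 6) (e : (Subgroup.centralizer ({z} : Set H)) ⧸ R ≃* T) :
    IsOfLargeFischerTypeAt z R := by
  set φ : Subgroup.centralizer ({z} : Set H) →* T := e.toMonoidHom.comp (QuotientGroup.mk' R) with hφ
  have hφs : Function.Surjective φ := e.surjective.comp (QuotientGroup.mk'_surjective R)
  have hker : φ.ker = R := by
    ext x
    rw [MonoidHom.mem_ker, hφ, MonoidHom.comp_apply, MulEquiv.coe_toMonoidHom, map_eq_one_iff _ e.injective,
      QuotientGroup.mk'_apply, QuotientGroup.eq_one_iff]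
  haveI := N0_normal
  haveI := M0_normal
  refine ⟨hs, N0.comap φ, M0.comap φ, inferInstance, inferInstance, hker ▸ Subgroup.ker_le_comap φ N0,
    Subgroup.comap_mono N0_le, ?_, ⟨SchurMult.K9, inferInstance, inferInstance, SchurMult.K9.card, ?_⟩, ?_⟩
  · have h := (φ.comp (N0.comap φ).subtype).ker.card_mul_index
    rw [Subgroup.index_ker, MonoidHom.range_comp, Subgroup.range_subtype,
      Subgroup.map_comap_eq_self_of_surjective hφs, card_N0] at h
    rw [← h, mul_comm]
    congr 1
    rw [← Subgroup.card_map_of_injective (N0.comap φ).subtype_injective]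
    refine congrArg (fun S : Subgroup (Subgroup.centralizer ({z} : Set H)) => Nat.card S) (SetLike.ext fun y => ?_)
    rw [← hker]
    constructor
    · rintro ⟨y, hy, rfl⟩; exact hy
    · intro hy; exact ⟨⟨y, Subgroup.ker_le_comap φ N0 hy⟩, hy, rfl⟩
  · obtain ⟨χ, hχ, hk⟩ := exists_chi
    obtain ⟨u⟩ := u43_equiv SchurMult.K9 SchurMult.K9.card
    let ν : M0.comap φ →* U43 := χ.comp ((φ.comp (M0.comap φ).subtype).codRestrict M0 fun x => x.2)
    have hν : Function.Surjective ν := by
      intro v
      obtain ⟨m, hm⟩ := hχ v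
      obtain ⟨y, hy⟩ := hφs m.1
      exact ⟨⟨y, Subgroup.mem_comap.2 (hy ▸ m.2)⟩, by rw [← hm]; exact congrArg χ (Subtype.ext hy)⟩
    have hνk : ν.ker = (N0.comap φ).subgroupOf (M0.comap φ) := by
      ext y
      rw [MonoidHom.mem_ker, MonoidHom.comp_apply, ← MonoidHom.mem_ker, hk, Subgroup.mem_subgroupOf,
        Subgroup.mem_subgroupOf, Subgroup.mem_comap]
      rfl
    exact ⟨((QuotientGroup.quotientMulEquivOfEq hνk.symm).trans
      (QuotientGroup.quotientKerEquivOfSurjective ν hν)).trans u.symm⟩
  · rw [Subgroup.index_comap_of_surjective _ hφs, M0_index]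

end Cfsg.Agent.MonsterT.ThreeA
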