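/-! Matrices of a commutator in the centraliser of the element of order three with six fixed points. -/

namespace Cfsg.Agent.MonsterT.ThreeA.Comm

/-- The transposed first generator. -/
def tA : List (List Int) :=
  [[-6, 0, 0, 2, -2, 0, 2, -2, 0, 0, 0, 0, 0, 0, -2, 0, 0, 0, 0, 0, 0, 0, -2, 2],
  [0, 2, -2, 0, 0, -2, 0, 0, -2, 2, -2, 2, 2, 2, 0, 2, -2, -2, 2, -2, 2, -2, 0, 0],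
  [0, -2, 2, 0, 0, -2, 0, 0, 2, 2, 2, 2, -2, -2, 0, 2, 2, -2, 2, -2, -2, -2, 0, 0],
  [2, 0, 0, -6, -2, 0, 2, -2, 0, 0, 0, 0, 0, 0, -2, 0, 0, 0, 0, 0, 0, 0, -2, 2],
  [0, 2, -2, 0, 0, -2, 0, 0, 2, 2, -2, 2, 2, -2, 0, -2, 2, -2, -2, 2, -2, 2, 0, 0],
  [0, -2, -2, 0, 0, 2, 0, 0, 2, -2, 2, 2, 2, -2, 0, -2, -2, -2, 2, 2, 2, -2, 0, 0],
  [0, 2, 2, 0, 0, 2, 0, 0, 2, -2, -2, 2, -2, -2, 0, 2, -2, -2, -2, -2, 2, 2, 0, 0],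
  [0, -2, 2, 0, 0, -2, 0, 0, -2, 2, 2, 2, -2, 2, 0, -2, -2, -2, -2, 2, 2, 2, 0, 0],
  [0, -2, -2, 0, 0, 2, 0, 0, -2, 2, -2, -2, -2, -2, 0, 2, -2, -2, -2, 2, -2, -2, 0, 0],
  [2, 0, 0, 2, -2, 0, 2, -2, 0, 0, 0, 0, 0, 0, -2, 0, 0, 0, 0, 0, 0, 0, 6, 2],
  [2, 0, 0, 2, 6, 0, 2, -2, 0, 0, 0, 0, 0, 0, -2, 0, 0, 0, 0, 0, 0, 0, -2, 2],
  [2, 0, 0, 2, -2, 0, 2, -2, 0, 0, 0, 0, 0, 0, 6, 0, 0, 0, 0, 0, 0, 0, -2, 2],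
  [2, 0, 0, 2, -2, 0, 2, 6, 0, 0, 0, 0, 0, 0, -2, 0, 0, 0, 0, 0, 0, 0, -2, 2],
  [0, -2, 2, 0, 0, -2, 0, 0, 2, -2, -2, -2, 2, 2, 0, 2, -2, -2, 2, 2, -2, 2, 0, 0],
  [2, 0, 0, 2, -2, 0, -6, -2, 0, 0, 0, 0, 0, 0, -2, 0, 0, 0, 0, 0, 0, 0, -2, 2],
  [0, -2, 2, 0, 0, -2, 0, 0, -2, -2, -2, -2, 2, -2, 0, -2, 2, -2, -2, -2, 2, -2, 0, 0],
  [0, -2, -2, 0, 0, 2, 0, 0, 2, 2, -2, -2, -2, 2, 0, -2, 2, -2, 2, -2, 2, 2, 0, 0],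
  [0, 2, 2, 0, 0, 2, 0, 0, -2, -2, -2, 2, -2, 2, 0, -2, 2, -2, 2, 2, -2, -2, 0, 0],
  [0, 2, 2, 0, 0, 2, 0, 0, 2, 2, 2, -2, 2, 2, 0, 2, 2, -2, -2, 2, 2, -2, 0, 0],
  [0, 2, -2, 0, 0, -2, 0, 0, -2, -2, 2, -2, -2, -2, 0, 2, 2, -2, 2, 2, 2, 2, 0, 0],
  [0, 2, -2, 0, 0, -2, 0, 0, 2, -2, 2, -2, -2, 2, 0, -2, -2, -2, -2, -2, -2, -2, 0, 0],
  [0, 2, 2, 0, 0, 2, 0, 0, -2, 2, 2, -2, 2, -2, 0, -2, -2, -2, 2, -2, -2, 2, 0, 0],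
  [0, -2, -2, 0, 0, 2, 0, 0, -2, -2, 2, 2, 2, 2, 0, 2, 2, -2, -2, -2, -2, 2, 0, 0],
  [2, 0, 0, 2, -2, 0, 2, -2, 0, 0, 0, 0, 0, 0, -2, 0, 0, 0, 0, 0, 0, 0, -2, -6]]

/-- The transposed second generator. -/
def tB : List (List Int) :=
  [[4, 2, -2, 0, 0, -2, 0, 0, 0, -2, 2, -2, 2, 0, 0, 0, 0, 2, 0, 0, -4, 0, 0, 0],
  [-4, 2, -2, 0, 0, -2, 0, 0, 0, -2, 2, -2, 2, 0, 0, 0, 0, 2, 0, 0, 4, 0, 0, 0],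
  [0, -2, 2, 0, 0, -2, 0, 0, 0, 2, -2, -2, 2, 0, 0, 4, 0, 2, 0, 0, 0, 0, 0, -4],
  [0, -2, -2, 4, 0, 2, 0, 0, -4, 2, 2, -2, -2, 0, 0, 0, 0, 2, 0, 0, 0, 0, 0, 0],
  [2, 0, 0, 2, -2, 0, 2, -2, 2, 0, 0, 0, 0, 2, 2, -2, 2, 0, 2, -2, 2, -2, 2, -2],
  [0, -2, -2, -4, 0, 2, 0, 0, 4, 2, 2, -2, -2, 0, 0, 0, 0, 2, 0, 0, 0, 0, 0, 0],
  [-2, 0, 0, -2, -2, 0, -2, -2, -2, 0, 0, 0, 0, 2, 2, -2, 2, 0, 2, 2, -2, 2, -2, -2],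
  [2, 0, 0, -2, 2, 0, 2, -2, -2, 0, 0, 0, 0, -2, 2, 2, 2, 0, 2, 2, 2, -2, -2, 2],
  [0, 2, 2, 0, -4, -2, 0, 0, 0, 2, 2, 2, -2, -4, 0, 0, 0, 2, 0, 0, 0, 0, 0, 0],
  [0, -2, 2, 0, 0, 2, 0, 4, 0, -2, 2, 2, 2, 0, 0, 0, 4, 2, 0, 0, 0, 0, 0, 0],
  [0, 2, -2, 0, 0, 2, 0, 0, 0, 2, -2, 2, 2, 0, 0, 0, 0, 2, 0, 4, 0, 0, 4, 0],
  [0, -2, -2, 0, 0, -2, 4, 0, 0, -2, -2, 2, -2, 0, 0, 0, 0, 2, 0, 0, 0, 4, 0, 0],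
  [0, 2, 2, 0, 4, -2, 0, 0, 0, 2, 2, 2, -2, 4, 0, 0, 0, 2, 0, 0, 0, 0, 0, 0],
  [-2, 0, 0, 2, 2, 0, -2, -2, 2, 0, 0, 0, 0, -2, 2, 2, 2, 0, 2, -2, -2, 2, 2, 2],
  [0, -2, -2, 0, 0, -2, 0, 0, 0, 2, 2, 2, 2, 0, 4, 0, 0, -2, -4, 0, 0, 0, 0, 0],
  [0, 2, -2, 0, 0, 2, 0, 0, 0, 2, -2, 2, 2, 0, 0, 0, 0, 2, 0, -4, 0, 0, -4, 0],
  [2, 0, 0, 2, 2, 0, -2, 2, 2, 0, 0, 0, 0, -2, 2, -2, -2, 0, 2, 2, 2, 2, -2, -2],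
  [0, -2, -2, 0, 0, -2, 0, 0, 0, 2, 2, 2, 2, 0, -4, 0, 0, -2, 4, 0, 0, 0, 0, 0],
  [0, -2, -2, 0, 0, -2, -4, 0, 0, -2, -2, 2, -2, 0, 0, 0, 0, 2, 0, 0, 0, -4, 0, 0],
  [2, 0, 0, -2, -2, 0, -2, 2, -2, 0, 0, 0, 0, 2, 2, 2, -2, 0, 2, -2, 2, 2, 2, 2],
  [0, -2, 2, 0, 0, 2, 0, -4, 0, -2, 2, 2, 2, 0, 0, 0, -4, 2, 0, 0, 0, 0, 0, 0],
  [-2, 0, 0, -2, 2, 0, 2, 2, -2, 0, 0, 0, 0, -2, 2, -2, -2, 0, 2, -2, -2, -2, 2, -2],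
  [-2, 0, 0, 2, -2, 0, 2, 2, 2, 0, 0, 0, 0, 2, 2, 2, -2, 0, 2, 2, -2, -2, -2, 2],
  [0, -2, 2, 0, 0, -2, 0, 0, 0, 2, -2, -2, 2, 0, 0, -4, 0, 2, 0, 0, 0, 0, 0, 4]]

/-- The conjugated second generator. -/
def X : List (List Int) :=
  [[4, 0, 0, 0, 0, 0, -2, 0, -2, -2, -2, 0, 2, 2, -2, 2, -2, -2, 0, -2, -2, 0, 0, 0],
  [0, 0, 0, 0, 0, 0, 2, 0, -2, 2, -2, 0, -2, 2, 2, -2, -2, -2, 0, -2, 2, 0, -4, 0],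
  [0, 0, 0, 0, -4, 0, 2, 0, -2, -2, 2, 0, -2, -2, 2, 2, 2, -2, 0, -2, -2, 0, 0, 0],
  [0, 0, 0, 4, 0, 0, -2, 0, -2, -2, 2, 0, -2, -2, -2, -2, -2, -2, 0, 2, 2, 0, 0, 0],
  [-2, 2, -2, -2, -2, 2, 0, 2, 0, 0, 0, 2, 0, 0, 0, 0, -4, 0, 2, 0, 0, -2, 2, 2],
  [0, 0, 0, 0, 0, 0, 2, -4, 2, -2, -2, 0, 2, -2, 2, -2, -2, -2, 0, 2, -2, 0, 0, 0],
  [0, 0, 0, 0, 0, 0, 2, 0, -2, -2, -2, 0, -2, 2, -2, -2, 2, 2, 0, 2, -2, -4, 0, 0],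
  [-2, 2, 2, 2, 2, -2, 0, -2, 0, 0, 0, 2, 0, 0, 0, 0, 0, 0, 2, -4, 0, -2, 2, -2],
  [2, 2, 2, -2, -2, -2, 0, 2, 0, 0, 0, 2, 0, 0, 0, -4, 0, 0, -2, 0, 0, 2, 2, -2],
  [-2, -2, 2, 2, -2, 2, 0, 2, 0, 0, -4, -2, 0, 0, 0, 0, 0, 0, 2, 0, 0, 2, 2, -2],
  [2, 2, -2, -2, 2, 2, 0, -2, 0, 0, 0, -2, -4, 0, 0, 0, 0, 0, 2, 0, 0, 2, 2, -2],
  [0, 0, 0, 0, 0, 0, 2, 0, -2, 2, 2, -4, 2, -2, -2, -2, -2, 2, 0, -2, -2, 0, 0, 0],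
  [-2, 2, 2, -2, 2, -2, 0, 2, 0, -4, 0, -2, 0, 0, 0, 0, 0, 0, 2, 0, 0, 2, -2, 2],
  [0, 4, 0, 0, 0, 0, 2, 0, -2, 2, -2, 0, 2, -2, -2, 2, 2, -2, 0, 2, 2, 0, 0, 0],
  [2, 2, 2, 2, 2, 2, 0, 2, 0, 0, 0, -2, 0, 0, 4, 0, 0, 0, -2, 0, 0, -2, 2, 2],
  [-2, 2, -2, 2, 2, 2, 0, 2, 0, 0, 0, 2, 0, 0, 0, 0, 0, 0, -2, 0, -4, 2, -2, -2],
  [0, 0, 4, 0, 0, 0, 2, 0, 2, 2, 2, 0, -2, 2, -2, 2, -2, -2, 0, 2, -2, 0, 0, 0],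
  [-2, 2, 2, -2, -2, 2, -4, -2, 0, 0, 0, -2, 0, 0, 0, 0, 0, 0, -2, 0, 0, -2, -2, -2],
  [0, 0, 0, 0, 0, 0, 2, 0, 2, -2, -2, 0, -2, -2, -2, 2, -2, 2, -4, -2, 2, 0, 0, 0],
  [0, 0, 0, 0, 0, 4, 2, 0, 2, -2, 2, 0, 2, 2, -2, -2, 2, -2, 0, -2, 2, 0, 0, 0],
  [-2, -2, 2, -2, 2, 2, 0, -2, -4, 0, 0, 2, 0, 0, 0, 0, 0, 0, -2, 0, 0, 2, 2, 2],
  [2, 2, 2, 2, -2, 2, 0, -2, 0, 0, 0, 2, 0, 0, 0, 0, 0, 4, 2, 0, 0, 2, -2, 2],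
  [2, -2, 2, -2, 2, 2, 0, 2, 0, 0, 0, 2, 0, -4, 0, 0, 0, 0, 2, 0, 0, -2, -2, -2],
  [0, 0, 0, 0, 0, 0, -2, 0, 2, 2, -2, 0, -2, -2, -2, -2, 2, -2, 0, -2, -2, 0, 0, 4]]

/-- Its transpose. -/
def tX : List (List Int) :=
  [[4, 0, 0, 0, -2, 0, 0, -2, 2, -2, 2, 0, -2, 0, 2, -2, 0, -2, 0, 0, -2, 2, 2, 0],
  [0, 0, 0, 0, 2, 0, 0, 2, 2, -2, 2, 0, 2, 4, 2, 2, 0, 2, 0, 0, -2, 2, -2, 0],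
  [0, 0, 0, 0, -2, 0, 0, 2, 2, 2, -2, 0, 2, 0, 2, -2, 4, 2, 0, 0, 2, 2, 2, 0],
  [0, 0, 0, 4, -2, 0, 0, 2, -2, 2, -2, 0, -2, 0, 2, 2, 0, -2, 0, 0, -2, 2, -2, 0],
  [0, 0, -4, 0, -2, 0, 0, 2, -2, -2, 2, 0, 2, 0, 2, 2, 0, -2, 0, 0, 2, -2, 2, 0],
  [0, 0, 0, 0, 2, 0, 0, -2, -2, 2, 2, 0, -2, 0, 2, 2, 0, 2, 0, 4, 2, 2, 2, 0],
  [-2, 2, 2, -2, 0, 2, 2, 0, 0, 0, 0, 2, 0, 2, 0, 0, 2, -4, 2, 2, 0, 0, 0, -2],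
  [0, 0, 0, 0, 2, -4, 0, -2, 2, 2, -2, 0, 2, 0, 2, 2, 0, -2, 0, 0, -2, -2, 2, 0],
  [-2, -2, -2, -2, 0, 2, -2, 0, 0, 0, 0, -2, 0, -2, 0, 0, 2, 0, 2, 2, -4, 0, 0, 2],
  [-2, 2, -2, -2, 0, -2, -2, 0, 0, 0, 0, 2, -4, 2, 0, 0, 2, 0, -2, -2, 0, 0, 0, 2],
  [-2, -2, 2, 2, 0, -2, -2, 0, 0, -4, 0, 2, 0, -2, 0, 0, 2, 0, -2, 2, 0, 0, 0, -2],
  [0, 0, 0, 0, 2, 0, 0, 2, 2, -2, -2, -4, -2, 0, -2, 2, 0, -2, 0, 0, 2, 2, 2, 0],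
  [2, -2, -2, -2, 0, 2, -2, 0, 0, 0, -4, 2, 0, 2, 0, 0, -2, 0, -2, 2, 0, 0, 0, -2],
  [2, 2, -2, -2, 0, -2, 2, 0, 0, 0, 0, -2, 0, -2, 0, 0, 2, 0, -2, 2, 0, 0, -4, -2],
  [-2, 2, 2, -2, 0, 2, -2, 0, 0, 0, 0, -2, 0, -2, 4, 0, -2, 0, -2, -2, 0, 0, 0, -2],
  [2, -2, 2, -2, 0, -2, -2, 0, -4, 0, 0, -2, 0, 2, 0, 0, 2, 0, 2, -2, 0, 0, 0, -2],
  [-2, -2, 2, -2, -4, -2, 2, 0, 0, 0, 0, -2, 0, 2, 0, 0, -2, 0, -2, 2, 0, 0, 0, 2],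
  [-2, -2, -2, -2, 0, -2, 2, 0, 0, 0, 0, 2, 0, -2, 0, 0, -2, 0, 2, -2, 0, 4, 0, -2],
  [0, 0, 0, 0, 2, 0, 0, 2, -2, 2, 2, 0, 2, 0, -2, -2, 0, -2, -4, 0, -2, 2, 2, 0],
  [-2, -2, -2, 2, 0, 2, 2, -4, 0, 0, 0, -2, 0, 2, 0, 0, 2, 0, -2, -2, 0, 0, 0, -2],
  [-2, 2, -2, 2, 0, -2, -2, 0, 0, 0, 0, -2, 0, 2, 0, -4, -2, 0, 2, 2, 0, 0, 0, -2],
  [0, 0, 0, 0, -2, 0, -4, -2, 2, 2, 2, 0, 2, 0, -2, 2, 0, -2, 0, 0, 2, 2, -2, 0],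
  [0, -4, 0, 0, 2, 0, 0, 2, 2, 2, 2, 0, -2, 0, 2, -2, 0, -2, 0, 0, 2, -2, -2, 0],
  [0, 0, 0, 0, 2, 0, 0, -2, -2, -2, -2, 0, 2, 0, 2, -2, 0, -2, 0, 0, 2, 2, -2, 4]]

/-- The first half. -/
def P : List (List Int) :=
  [[3, -3, 1, -1, -1, -3, -1, -1, -3, -1, -1, -1, -1, -1, -1, 1, -1, 1, 1, 3, 1, -1, -1, -1],
  [-3, -1, -1, 1, 1, -1, 1, 1, -1, -3, -3, 1, 1, -3, 1, 3, 1, -1, -1, 1, -1, 1, 1, 1],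
  [1, -1, -1, 1, 1, -1, 1, 1, 3, 1, -3, 1, -3, 1, 1, -1, -3, -1, -1, 1, -1, 1, 1, -3],
  [-1, 1, -3, 3, -1, -3, -1, -1, 1, -1, -1, -1, -1, -1, -1, -3, 3, 1, 1, -1, 1, -1, -1, -1],
  [-1, 1, -3, -1, -1, 1, -1, -1, 1, -1, 3, -1, -1, -1, -1, 1, -1, 1, 1, 3, 1, 3, 3, -1],
  [1, -1, -1, -3, 1, -1, 1, 1, -1, -3, 1, 1, -3, 1, 1, -1, 1, -1, -1, -3, 3, 1, 1, 1],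
  [1, -1, -1, 1, 1, -1, 1, 1, -1, 1, 1, 1, 1, -3, -3, -1, -3, -1, 3, -3, -1, 1, 1, 1],
  [-1, 1, 1, -1, 3, -3, -1, -1, 1, -1, -1, -1, 3, 3, -1, 1, -1, 1, 1, -1, 1, 3, -1, -1],
  [1, -1, -1, -3, 1, -1, 1, -3, 3, 1, 1, 1, 1, -3, 1, -1, 1, -1, -1, 1, -1, 1, -3, 1],
  [-3, -1, 3, 1, 1, -1, 1, -3, -1, 1, 1, 1, -3, 1, -3, -1, 1, -1, -1, 1, -1, 1, 1, 1],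
  [1, -1, -1, 1, 1, 3, 1, 1, -1, -3, 1, 1, 1, 1, -3, -1, 1, -1, -1, 1, -1, 1, -3, -3],
  [3, 1, 1, 3, -1, 1, -1, -1, 1, -1, -1, -1, -1, -1, -1, 1, -1, 1, -3, -1, 1, 3, -1, 3],
  [1, 3, -1, -3, -3, -1, 1, 1, -1, 1, -3, 1, 1, 1, -3, -1, 1, -1, -1, 1, -1, 1, 1, 1],
  [-1, 1, 1, -1, -1, -3, -1, 3, 1, -1, 3, -1, -1, -1, -1, 1, -1, 1, -3, -1, -3, -1, -1, -1],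
  [1, -1, -1, 1, 1, -1, -3, 1, -1, 1, 1, -3, 1, 1, 1, -1, 1, -5, -1, 1, -1, 1, 1, 1],
  [1, -1, -1, 1, -3, -1, 1, -3, -1, 1, 1, 1, 1, 1, 1, 3, 1, -1, -1, -3, -1, 1, 1, -3],
  [-1, -3, 1, -1, -1, 1, -1, -1, 1, -1, -1, -1, 3, -1, -1, -3, -1, 1, -3, -1, 1, -1, 3, -1],
  [-1, 1, 1, -1, -1, 1, 3, -1, 1, -1, -1, -5, -1, -1, -1, 1, -1, -3, 1, -1, 1, -1, -1, -1],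
  [-1, 1, 1, -1, -1, 1, -5, -1, 1, -1, -1, 3, -1, -1, -1, 1, -1, -3, 1, -1, 1, -1, -1, -1],
  [-1, 1, -3, -1, 3, 1, -1, -1, -3, 3, -1, -1, -1, -1, -1, 1, -1, 1, -3, -1, 1, -1, -1, -1],
  [-3, -1, -1, 1, -3, -1, 1, 1, -1, 1, 1, 1, 1, 1, 1, -1, -3, -1, -1, 1, 3, 1, -3, 1],
  [1, -1, -1, 1, 1, -1, 1, 1, 3, 1, 1, 1, 1, 1, -3, 3, 1, -1, -1, 1, 3, -3, 1, 1],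
  [-1, -3, 1, -1, -1, 1, -1, 3, 1, 3, -1, -1, -1, -1, -1, 1, 3, 1, 1, -1, 1, 3, -1, -1],
  [-1, -3, -3, -1, -1, 1, -1, -1, 1, -1, -1, -1, -1, 3, -1, 1, -1, 1, 1, -1, -3, -1, -1, 3]]

/-- The second half. -/
def R : List (List Int) :=
  [[0, 2, -2, 0, -2, -2, 0, 2, 0, 0, 0, -2, 0, -2, 2, 0, -2, 0, -2, 2, -4, 0, 2, 0],
  [0, 2, -2, 0, 2, -2, 0, -2, 0, 4, 0, 2, 0, -2, 2, 0, 2, 0, 2, -2, 0, 0, 2, 0],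
  [0, -2, 2, 0, 2, -2, 0, 2, 0, 0, 4, 2, 0, -2, 2, 0, -2, 0, 2, 2, 0, 0, -2, 0],
  [0, -2, -2, 0, 2, 2, 0, 2, -4, 0, 0, -2, 0, -2, 2, 0, 2, 0, -2, -2, 0, 0, -2, 0],
  [0, 2, -2, 0, 2, 2, 0, -2, 0, 0, 0, 2, 0, 2, 2, 0, -2, 0, -2, 2, 0, 0, -2, 4],
  [0, -2, -2, 0, -2, 2, 0, 2, 0, 0, 0, 2, 4, 2, 2, 0, -2, 0, 2, -2, 0, 0, 2, 0],
  [-2, 0, 0, -2, 0, 0, -2, 0, 2, -2, -2, 0, -2, 0, 4, 2, 0, 2, 0, 0, 2, 2, 0, -2],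
  [0, 2, 2, 4, -2, -2, 0, 2, 0, 0, 0, 2, 0, 2, 2, 0, 2, 0, -2, -2, 0, 0, -2, 0],
  [2, 0, 0, -2, 0, 0, -2, 4, 2, 2, -2, 0, -2, 0, 0, -2, 0, -2, 0, 0, 2, -2, 0, 2],
  [-2, 0, 0, 2, 0, 0, 2, 0, 2, -2, -2, 0, 2, -4, 0, -2, 0, -2, 0, 0, 2, 2, 0, 2],
  [2, 0, 0, 2, 0, 0, 2, 0, -2, 2, -2, 0, -2, 0, 0, 2, -4, -2, 0, 0, 2, 2, 0, -2],
  [0, 2, 2, 0, -2, 2, 0, -2, 0, 0, 0, -2, 0, -2, 2, 0, -2, 0, 2, -2, 0, -4, -2, 0],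
  [2, 0, 0, -2, 0, 0, 2, 0, 2, -2, 2, 0, -2, 0, 0, 2, 0, -2, 0, -4, -2, 2, 0, 2],
  [2, 4, 0, -2, 0, 0, -2, 0, -2, -2, 2, 0, 2, 0, 0, -2, 0, -2, 0, 0, 2, 2, 0, -2],
  [-2, 0, 0, -2, 0, 0, 2, 0, 2, 2, 2, 0, 2, 0, 0, 2, 0, -2, -4, 0, 2, -2, 0, -2],
  [2, 0, 0, 2, 4, 0, -2, 0, 2, -2, -2, 0, 2, 0, 0, 2, 0, -2, 0, 0, -2, -2, 0, -2],
  [-2, 0, 4, -2, 0, 0, -2, 0, -2, 2, -2, 0, 2, 0, 0, 2, 0, -2, 0, 0, -2, 2, 0, 2],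
  [-2, 0, 0, -2, 0, 0, 2, 0, -2, -2, -2, 4, -2, 0, 0, -2, 0, -2, 0, 0, -2, -2, 0, -2],
  [0, 2, 2, 0, 2, 2, 4, 2, 0, 0, 0, -2, 0, 2, 2, 0, 2, 0, 2, 2, 0, 0, 2, 0],
  [-2, 0, 0, 2, 0, 4, -2, 0, 2, 2, 2, 0, -2, 0, 0, -2, 0, -2, 0, 0, -2, 2, 0, -2],
  [-2, 0, 0, 2, 0, 0, -2, 0, -2, -2, 2, 0, -2, 0, 0, 2, 0, -2, 0, 0, 2, -2, 4, 2],
  [0, 2, 2, 0, 2, 2, 0, 2, 0, 0, 0, 2, 0, -2, -2, 0, -2, 4, -2, -2, 0, 0, 2, 0],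
  [4, -2, 2, 0, -2, 2, 0, -2, 0, 0, 0, 2, 0, -2, 2, 0, 2, 0, -2, 2, 0, 0, 2, 0],
  [0, -2, 2, 0, 2, -2, 0, -2, 0, 0, 0, -2, 0, 2, 2, -4, -2, 0, -2, -2, 0, 0, 2, 0]]

/-- The commutator. -/
def C : List (List Int) :=
  [[-2, 0, 0, 2, 0, 0, 0, 0, 0, -2, 2, -2, -2, 0, -2, 0, 0, 0, 0, 4, -4, 0, 0, -2],
  [0, -2, 2, 0, 2, 2, -2, -2, 2, 0, 0, 0, 0, 2, 0, 2, 2, 2, -2, -2, -2, -2, -2, 0],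
  [0, 2, -2, 0, -2, 2, -2, 2, 2, 0, 0, 0, 0, -2, 0, -2, 2, 2, -2, 2, 2, -2, -2, 0],
  [-2, 0, 0, -2, 0, 0, 0, 0, -4, 2, -2, -2, -2, 0, -2, 0, 4, 0, 0, 0, 0, 0, 0, 2],
  [2, 0, 0, 2, 0, 4, 0, 0, 0, 2, -2, 2, -2, 0, -2, 0, 0, 0, 0, 0, 0, 0, 4, -2],
  [0, 2, 2, 0, -2, -2, -2, -2, -2, 0, 0, 0, 0, 2, 0, 2, -2, 2, -2, 2, 2, -2, 2, 0],
  [2, 0, 0, 2, 0, 0, 4, 0, 0, -2, -2, -2, -2, 0, 2, 0, 0, 4, 0, 0, 0, 0, 0, 2],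
  [2, 4, 0, -2, 4, 0, 0, 0, 0, -2, 2, 2, -2, 0, -2, 0, 0, 0, 0, 0, 0, 0, 0, 2],
  [-2, 0, 0, -2, 0, 0, 0, 0, 4, 2, -2, -2, -2, 0, -2, 0, -4, 0, 0, 0, 0, 0, 0, 2],
  [0, -2, 2, 0, 2, 2, -2, -2, -2, 0, 0, 0, 0, -2, 0, -2, -2, 2, 2, 2, 2, 2, -2, 0],
  [0, 2, -2, 0, -2, 2, -2, 2, -2, 0, 0, 0, 0, 2, 0, 2, -2, 2, 2, -2, -2, 2, -2, 0],
  [0, -2, -2, 0, 2, -2, -2, 2, -2, 0, 0, 0, 0, -2, 0, -2, -2, 2, -2, -2, -2, -2, 2, 0],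
  [0, 2, 2, 0, -2, -2, -2, -2, 2, 0, 0, 0, 0, -2, 0, -2, 2, 2, 2, -2, -2, 2, 2, 0],
  [2, 0, 0, 2, 0, -4, 0, 0, 0, 2, -2, 2, -2, 0, -2, 0, 0, 0, 0, 0, 0, 0, -4, -2],
  [2, 0, 0, 2, 0, 0, 0, 0, 0, 2, 2, -2, 2, 0, -2, 0, 0, 0, -4, 0, 0, 4, 0, 2],
  [2, 0, 0, -2, 0, 0, 0, 0, 0, -2, -2, -2, 2, -4, -2, 4, 0, 0, 0, 0, 0, 0, 0, -2],
  [2, -4, 0, -2, -4, 0, 0, 0, 0, -2, 2, 2, -2, 0, -2, 0, 0, 0, 0, 0, 0, 0, 0, 2],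
  [0, -2, -2, 0, 2, -2, -2, 2, 2, 0, 0, 0, 0, 2, 0, 2, 2, 2, 2, 2, 2, 2, 2, 0],
  [2, 0, 0, 2, 0, 0, 0, 0, 0, 2, 2, -2, 2, 0, -2, 0, 0, 0, 4, 0, 0, -4, 0, 2],
  [-2, 0, -4, 2, 0, 0, 0, -4, 0, -2, -2, 2, 2, 0, -2, 0, 0, 0, 0, 0, 0, 0, 0, 2],
  [-2, 0, 0, 2, 0, 0, 0, 0, 0, -2, 2, -2, -2, 0, -2, 0, 0, 0, 0, -4, 4, 0, 0, -2],
  [2, 0, 0, 2, 0, 0, -4, 0, 0, -2, -2, -2, -2, 0, 2, 0, 0, -4, 0, 0, 0, 0, 0, 2],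
  [-2, 0, 4, 2, 0, 0, 0, 4, 0, -2, -2, 2, 2, 0, -2, 0, 0, 0, 0, 0, 0, 0, 0, 2],
  [2, 0, 0, -2, 0, 0, 0, 0, 0, -2, -2, -2, 2, 4, -2, -4, 0, 0, 0, 0, 0, 0, 0, -2]]

/-- Its square. -/
def C2 : List (List Int) :=
  [[-1, 1, -3, -1, -1, 1, 1, -1, -1, 1, -3, 3, 1, 1, 1, 3, 1, -1, 1, 1, -1, -1, -1, 3],
  [1, -1, -1, -3, -3, -1, -1, 1, 1, 3, -1, 1, -1, -1, -1, 1, -1, 1, -1, 3, 1, 1, 1, -3],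
  [-3, -1, -1, -3, 1, -1, -1, -3, 1, -1, 3, 1, -1, 3, -1, 1, -1, 1, -1, -1, 1, 1, 1, 1],
  [3, -3, 1, -1, -1, 1, 1, -1, -1, -3, 1, 3, 1, 1, 1, -1, 1, -1, 1, 1, 3, -1, -1, -1],
  [-3, -1, 3, 1, 1, -1, -1, 1, -3, -1, -1, 1, -1, -1, -1, 1, -1, 1, -1, 3, 1, -3, 1, 1],
  [-3, -1, -1, 1, 1, -1, -1, 1, 1, -1, -1, 1, 3, -1, -1, 1, 3, 1, -1, -1, 1, 1, -3, -3],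
  [1, -1, -1, 1, 1, -1, 3, 1, 1, -1, -1, -3, -1, 3, -1, 1, 3, 1, -1, 3, 1, 1, 1, 1],
  [1, -1, -1, 1, 1, 3, -1, 1, 1, -1, -1, 1, -1, 3, -1, 1, -1, 1, -1, -1, -3, -3, 1, -3],
  [-1, 1, 1, -1, 3, 1, 1, -1, 3, 1, -3, -1, 1, 1, 1, -1, -3, -1, 1, 1, 3, -1, -1, -1],
  [-1, 1, -3, 3, -1, 1, -3, -1, -1, 1, 1, -1, 1, 1, 1, -1, 1, -1, 1, 1, 3, -1, 3, -1],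
  [3, 1, 1, -1, 3, -3, -3, -1, -1, 1, 1, -1, 1, 1, 1, 3, 1, -1, 1, 1, -1, -1, -1, -1],
  [-1, 1, 1, -1, 3, 1, 1, 3, -1, 1, 1, 3, 1, 1, 1, -1, 1, -1, 1, 1, -1, 3, 3, -1],
  [-1, -3, 1, -1, -1, 1, -3, 3, 3, 1, 1, -1, 1, 1, 1, -1, 1, -1, 1, 1, -1, -1, -1, 3],
  [-1, -3, -3, -1, 3, 1, 1, -1, -1, 1, 1, -1, -3, -3, 1, -1, 1, -1, 1, 1, -1, -1, -1, -1],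
  [-1, 1, 1, -1, -1, 1, -3, -1, -1, -3, -3, -1, -3, 1, 1, -1, 1, -1, 1, 1, -1, 3, -1, -1],
  [-1, 1, 1, -1, -1, 1, 1, -1, 3, -3, 1, -1, 1, -3, 1, 3, 1, -1, 1, 1, -1, -1, 3, -1],
  [-1, 1, -3, -1, -1, -3, 1, 3, -1, -3, 1, -1, 1, 1, 1, -1, -3, -1, 1, 1, -1, -1, -1, -1],
  [1, -1, -1, 1, 1, -1, -1, 1, 1, -1, -1, 1, -1, -1, -5, 1, -1, -3, 3, -1, 1, 1, 1, 1],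
  [-1, 1, 1, -1, -1, 1, 1, -1, -1, 1, 1, -1, 1, 1, -3, -1, 1, 3, 5, 1, -1, -1, -1, -1],
  [-1, -3, 1, -1, -1, -3, 1, -1, -1, 1, -3, -1, 1, 1, 1, -1, 1, -1, 1, -3, -1, -1, 3, -1],
  [-1, 1, 1, -1, -1, 1, 1, 3, -1, 1, 1, -1, -3, 1, 1, 3, 1, -1, 1, -3, 3, -1, -1, -1],
  [-1, 1, 1, -1, -1, 1, 1, -1, -1, 1, 1, -1, 1, 1, -3, -1, 1, -5, -3, 1, -1, -1, -1, -1],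
  [1, 3, -1, -3, 1, -1, -1, 1, 1, -1, -1, 1, -1, -1, -1, -3, 3, 1, -1, -1, 1, -3, 1, 1],
  [-1, 1, 1, 3, -1, -3, 1, -1, 3, 1, 1, 3, -3, 1, 1, -1, 1, -1, 1, 1, -1, -1, -1, -1]]

/-- Its fourth power. -/
def C4 : List (List Int) :=
  [[-2, 0, 0, 2, -2, 0, 2, 2, 2, 0, 0, 0, 0, -2, 2, -2, 2, 0, 2, 2, -2, 2, 2, -2],
  [0, 2, -2, 0, 0, 2, 0, 0, 0, 2, -2, -2, 2, 0, 0, 0, 0, -2, 0, -4, 0, 0, 4, 0],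
  [0, 2, 2, 0, 4, -2, 0, 0, 0, 2, 2, -2, -2, -4, 0, 0, 0, -2, 0, 0, 0, 0, 0, 0],
  [-2, 0, 0, -2, 2, 0, 2, 2, -2, 0, 0, 0, 0, 2, 2, 2, 2, 0, 2, -2, -2, 2, -2, 2],
  [0, -2, 2, 0, 0, -2, 0, 0, 0, -2, 2, 2, -2, 0, 0, 0, 0, 2, 0, -4, 0, 0, 4, 0],
  [0, -2, 2, 0, 0, 2, 0, 4, 0, -2, 2, -2, 2, 0, 0, 0, -4, -2, 0, 0, 0, 0, 0, 0],
  [0, -2, -2, 0, 0, -2, 4, 0, 0, -2, -2, -2, -2, 0, 0, 0, 0, -2, 0, 0, 0, -4, 0, 0],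
  [0, -2, -2, 0, 4, 2, 0, 0, 0, -2, -2, 2, 2, -4, 0, 0, 0, 2, 0, 0, 0, 0, 0, 0],
  [-4, -2, 2, 0, 0, 2, 0, 0, 0, 2, -2, -2, -2, 0, 0, 0, 0, 2, 0, 0, 4, 0, 0, 0],
  [2, 0, 0, -2, -2, 0, -2, 2, -2, 0, 0, 0, 0, -2, 2, -2, 2, 0, 2, -2, 2, -2, -2, -2],
  [-2, 0, 0, -2, -2, 0, -2, -2, -2, 0, 0, 0, 0, -2, 2, 2, -2, 0, 2, 2, -2, -2, 2, 2],
  [-2, 0, 0, -2, 2, 0, -2, 2, -2, 0, 0, 0, 0, 2, -2, -2, 2, 0, -2, 2, -2, -2, 2, -2],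
  [-2, 0, 0, 2, 2, 0, -2, -2, 2, 0, 0, 0, 0, 2, 2, -2, -2, 0, 2, -2, -2, -2, -2, -2],
  [0, 2, 2, 4, 0, -2, 0, 0, -4, -2, -2, -2, 2, 0, 0, 0, 0, 2, 0, 0, 0, 0, 0, 0],
  [-2, 0, 0, -2, -2, 0, 2, -2, -2, 0, 0, 0, 0, -2, -2, -2, -2, 0, -2, -2, -2, 2, -2, -2],
  [0, 2, 2, -4, 0, -2, 0, 0, 4, -2, -2, -2, 2, 0, 0, 0, 0, 2, 0, 0, 0, 0, 0, 0],
  [4, -2, 2, 0, 0, 2, 0, 0, 0, 2, -2, -2, -2, 0, 0, 0, 0, 2, 0, 0, -4, 0, 0, 0],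
  [0, 2, 2, 0, 0, 2, 4, 0, 0, 2, 2, 2, 2, 0, 0, 0, 0, 2, 0, 0, 0, -4, 0, 0],
  [0, -2, -2, 0, 0, -2, 0, 0, 0, 2, 2, -2, 2, 0, -4, 0, 0, 2, 4, 0, 0, 0, 0, 0],
  [0, 2, -2, 0, 0, 2, 0, 0, 0, -2, 2, -2, -2, 0, 0, -4, 0, 2, 0, 0, 0, 0, 0, 4],
  [0, 2, -2, 0, 0, 2, 0, 0, 0, -2, 2, -2, -2, 0, 0, 4, 0, 2, 0, 0, 0, 0, 0, -4],
  [0, -2, -2, 0, 0, -2, 0, 0, 0, 2, 2, -2, 2, 0, 4, 0, 0, 2, -4, 0, 0, 0, 0, 0],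
  [0, 2, -2, 0, 0, -2, 0, 4, 0, 2, -2, 2, -2, 0, 0, 0, -4, 2, 0, 0, 0, 0, 0, 0],
  [2, 0, 0, -2, 2, 0, 2, -2, -2, 0, 0, 0, 0, 2, 2, -2, -2, 0, 2, 2, 2, 2, 2, -2]]

end Cfsg.Agent.MonsterT.ThreeA.Comm
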