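import Cfsg.Agent.Lib.MonsterT.ThreeAChecks
import Cfsg.Agent.Lib.MonsterT.ThreeAOuterData

/-! Checks on the commutator in the centraliser of the element of order three with six fixed points. -/

namespace Cfsg.Agent.MonsterT.ThreeA.Comm

open Cfsg.Agent.Leech.MatCert Cfsg.Agent.MonsterT.Three

theorem cert_tA : certOK tA = true := by decide +kernel
theorem cert_tB : certOK tB = true := by decide +kernel
theorem cert_X : certOK X = true := by decide +kernel
theorem cert_tX : certOK tX = true := by decide +kernel
theorem cert_P : certOK P = true := by decide +kernel
theorem cert_R : certOK R = true := by decide +kernel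
theorem cert_C : certOK C = true := by decide +kernel
theorem cert_C2 : certOK C2 = true := by decide +kernel
theorem cert_C4 : certOK C4 = true := by decide +kernel

theorem invA : prodEqB [matA, tA] [] = true := by decide +kernel
theorem invB : prodEqB [matB, tB] [] = true := by decide +kernel
theorem eqX : prodEqB [X] [matA, matB, tA] = true := by decide +kernel
theorem invX : prodEqB [X, tX] [] = true := by decide +kernel
theorem eqP : prodEqB [P] [X, matB] = true := by decide +kernel
theorem eqR : prodEqB [R] [tX, tB] = true := by decide +kernel
theorem eqC : prodEqB [C] [P, R] = true := by decide +kernel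
theorem eqC2 : prodEqB [C2] [C, C] = true := by decide +kernel
theorem eqC4 : prodEqB [C4] [C2, C2] = true := by decide +kernel
theorem eqS : prodEqB [C4, C] [matS] = true := by decide +kernel

end Cfsg.Agent.MonsterT.ThreeA.Comm
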