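/-
The outer part of the normaliser of the element of order three with six fixed points: an element inverting it,
and the element itself as a power of a commutator of its centraliser.
-/
import Cfsg.Agent.Lib.MonsterT.ThreeAModel
import Cfsg.Agent.Lib.MonsterT.ThreeAOuterChecks
import Cfsg.Agent.Lib.Golay.Local.Classes
set_option autoImplicit false
set_option maxRecDepth 100000

namespace Cfsg.Agent.MonsterT.ThreeA

open Cfsg Cfsg.Agent.Golay Cfsg.Agent.Leech Cfsg.Agent.Leech.MatCert Cfsg.Agent.MonsterT.Three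
open Cfsg.Agent.Golay.Local (R3A)
open scoped commutatorElement

theorem inv_elt {M N : List (List ℤ)} (h : certOK M = true) (h' : certOK N = true)
    (hp : prodEqB [M, N] [] = true) : matElt N h' = (matElt M h)⁻¹ := by
  have := prodElt_eq (all_two h h') (Bs := []) rfl hp
  simp only [prodElt, mul_one] at this
  exact eq_inv_of_mul_eq_one_right this

theorem mul_elt {M A B : List (List ℤ)} (h : certOK M = true) (ha : certOK A = true) (hb : certOK B = true)
    (hp : prodEqB [M] [A, B] = true) : matElt M h = matElt A ha * matElt B hb := by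
  have := prodElt_eq (show [M].all certOK = true by simp [h]) (all_two ha hb) hp
  simpa [prodElt] using this

/-- The element of order three is the fifth power of a commutator of two elements centralising it. -/
theorem exists_commutator : ∃ x y : Cb, ((⁅x, y⁆ ^ 5 : Cb) : Co0) = bA := by
  obtain ⟨hA, hB, -, -, hS⟩ := certs
  have eA : matElt Comm.tA Comm.cert_tA = gA⁻¹ := inv_elt hA Comm.cert_tA Comm.invA
  have eB : matElt Comm.tB Comm.cert_tB = gB⁻¹ := inv_elt hB Comm.cert_tB Comm.invB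
  have eX : matElt Comm.X Comm.cert_X = gA * gB * gA⁻¹ := by
    have := prodElt_eq (show [Comm.X].all certOK = true by simp [Comm.cert_X])
      (Bs := [matA, matB, Comm.tA]) (by simp [hA, hB, Comm.cert_tA]) Comm.eqX
    simp only [prodElt, mul_one] at this
    rw [this, eA, gA, gB, mul_assoc]
  have eP := mul_elt Comm.cert_P Comm.cert_X hB Comm.eqP
  have eR := mul_elt Comm.cert_R Comm.cert_tX Comm.cert_tB Comm.eqR
  rw [inv_elt Comm.cert_X Comm.cert_tX Comm.invX, eX, eB] at eR
  rw [eX, ← show gB = matElt matB hB from rfl] at eP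
  have eC := mul_elt Comm.cert_C Comm.cert_P Comm.cert_R Comm.eqC
  rw [eP, eR] at eC
  have eC2 := mul_elt Comm.cert_C2 Comm.cert_C Comm.cert_C Comm.eqC2
  have eC4 := mul_elt Comm.cert_C4 Comm.cert_C2 Comm.cert_C2 Comm.eqC4
  rw [eC2, eC] at eC4
  have h := prodElt_eq (all_two Comm.cert_C4 Comm.cert_C) (Bs := [matS]) (by simp [hS]) Comm.eqS
  simp only [prodElt, mul_one, gS_eq, eC4, eC] at h
  refine ⟨⟨gA, Subgroup.mem_centralizer_singleton_iff.2 gA_b⟩ * ⟨gB, Subgroup.mem_centralizer_singleton_iff.2 gB_b⟩ *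
    ⟨gA, Subgroup.mem_centralizer_singleton_iff.2 gA_b⟩⁻¹, ⟨gB, Subgroup.mem_centralizer_singleton_iff.2 gB_b⟩, ?_⟩
  rw [Subgroup.coe_pow, commutatorElement_def]
  simp only [Subgroup.coe_mul, Subgroup.coe_inv]
  conv_rhs => rw [← h]
  simp only [pow_succ, pow_zero, one_mul, mul_assoc]

/-- An element inverting the element of order three. -/
theorem exists_inverter : ∃ g : Co0, g * bA * g⁻¹ = bA ^ 2 := by
  haveI : Fact (Nat.Prime 3) := ⟨Nat.prime_three⟩
  have hinv : bA⁻¹ = bA ^ 2 := inv_eq_of_mul_eq_one_right (by rw [← pow_succ', bA_pow])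
  have h6 : (Finset.univ.filter fun p => (R3A⁻¹ : Equiv.Perm GolayPt) p = p).card ≠ 0 := by
    have e : (Finset.univ.filter fun p => (R3A⁻¹ : Equiv.Perm GolayPt) p = p) =
        Finset.univ.filter fun p => R3A p = p := by
      ext p
      simp only [Finset.mem_filter, Finset.mem_univ, true_and, Equiv.Perm.inv_eq_iff_eq]
      exact eq_comm
    rw [e, Golay.Local.facts.2.2.1.2.2]
    norm_num
  obtain ⟨k, hk, he⟩ := Golay.Local.class3A (σ := R3A⁻¹) (inv_mem sigS.2)
    (by rw [orderOf_inv]; exact orderOf_eq_prime Golay.Local.facts.2.2.1.1 Golay.Local.facts.2.2.1.2.1) h6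
  refine ⟨(secHom ⟨k, hk⟩ : Co0), ?_⟩
  rw [← hinv, bA_sec, ← Subgroup.coe_inv, ← Subgroup.coe_mul, ← Subgroup.coe_inv, ← Subgroup.coe_mul,
    ← map_inv, ← map_inv, ← map_mul, ← map_mul]
  exact congrArg (fun v => (secHom v : Co0)) (Subtype.ext he.symm)

/-- An element inverting the element of order three does not centralise its centraliser modulo it. -/
theorem inverter_moves {g : Co0} (hg : g * bA * g⁻¹ = bA ^ 2) :
    ¬ ∀ c : Cb, ∃ i : ℕ, g * c * g⁻¹ = bA ^ i * c ∨ g * c * g⁻¹ = negCo0 * bA ^ i * c := by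
  intro h
  obtain ⟨x, y, hxy⟩ := exists_commutator
  have key : ∀ c : Cb, ∃ s : Co0, g * c * g⁻¹ = s * c ∧ ∀ d : Cb, Commute s (d : Co0) := by
    intro c
    obtain ⟨i, hi⟩ := h c
    have hb : ∀ d : Cb, Commute (bA ^ i) (d : Co0) := fun d =>
      (show Commute bA (d : Co0) from (Subgroup.mem_centralizer_singleton_iff.1 d.2).symm).pow_left i
    rcases hi with e | e
    · exact ⟨_, e, hb⟩
    · exact ⟨_, e, fun d => (show Commute negCo0 (d : Co0) from (negCo0_comm _).symm).mul_left (hb d)⟩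
  obtain ⟨s, hs, hsc⟩ := key x
  obtain ⟨t, ht, htc⟩ := key y
  have hmem : ∀ (u : Co0) (w : Cb), g * (w : Co0) * g⁻¹ = u * w → u ∈ Cb := fun u w hu => by
    have hb' : g⁻¹ * bA * g = bA ^ 2 := by
      calc g⁻¹ * bA * g = g⁻¹ * bA ^ 4 * g := by rw [pow_succ, bA_pow, one_mul]
        _ = g⁻¹ * (bA ^ 2) ^ 2 * g := by rw [← pow_mul]
        _ = g⁻¹ * (g * bA * g⁻¹) ^ 2 * g := by rw [hg]
        _ = _ := by rw [conj_pow]; group
    refine Subgroup.mem_centralizer_singleton_iff.2 ?_
    obtain ⟨i, hi | hi⟩ := h w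
    · rw [mul_right_cancel (hu.symm.trans hi)]
      exact (Commute.pow_self bA i).eq
    · rw [mul_right_cancel (hu.symm.trans hi)]
      exact ((show Commute negCo0 bA from (negCo0_comm bA).symm).symm.mul_right
        ((Commute.refl bA).pow_right i)).eq.symm
  have hfix : g * ((⁅x, y⁆ : Cb) : Co0) * g⁻¹ = ((⁅x, y⁆ : Cb) : Co0) := by
    set S : Cb := ⟨s, hmem s x hs⟩
    set U : Cb := ⟨t, hmem t y ht⟩
    have hS : ∀ d : Cb, Commute S d := fun d => Subtype.ext (hsc d).eq
    have hU : ∀ d : Cb, Commute U d := fun d => Subtype.ext (htc d).eq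
    have e : g * ((⁅x, y⁆ : Cb) : Co0) * g⁻¹ = ((⁅S * x, U * y⁆ : Cb) : Co0) := by
      simp only [commutatorElement_def, Subgroup.coe_mul, Subgroup.coe_inv]
      calc g * ((x : Co0) * y * (x : Co0)⁻¹ * (y : Co0)⁻¹) * g⁻¹ =
          g * x * g⁻¹ * (g * y * g⁻¹) * (g * x * g⁻¹)⁻¹ * (g * y * g⁻¹)⁻¹ := by group
        _ = _ := by rw [hs, ht]
    rw [e]
    refine congrArg Subtype.val ?_
    have e1 : S * x * (U * y) = S * U * (x * y) := by
      rw [mul_assoc S x, ← mul_assoc x U, ← (hU x).eq, mul_assoc U, ← mul_assoc]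
    have e2 : U * y * (S * x) = S * U * (y * x) := by
      rw [mul_assoc U y, ← mul_assoc y S, ← (hS y).eq, mul_assoc S y, ← mul_assoc, ← (hS U).eq]
    rw [commutatorElement_def, commutatorElement_def, mul_assoc _ _ (U * y)⁻¹, mul_assoc _ _ y⁻¹,
      ← mul_inv_rev, ← mul_inv_rev, e1, e2, mul_inv_rev (S * U)]
    calc S * U * (x * y) * ((y * x)⁻¹ * (S * U)⁻¹) = S * U * (x * y * (y * x)⁻¹) * (S * U)⁻¹ := by group
      _ = _ := by rw [((hS _).mul_left (hU _)).eq, mul_inv_cancel_right]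
  have : g * bA * g⁻¹ = bA := by
    rw [← hxy, Subgroup.coe_pow, ← conj_pow, hfix]
  rw [hg, pow_two, mul_eq_left] at this
  exact bA_ne this

end Cfsg.Agent.MonsterT.ThreeA
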