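/-
Kernel checks for the centraliser of a fixed-point-free monomial element of order three.
-/
import Cfsg.Agent.Lib.MonsterT.ThreeTools
import Cfsg.Agent.Lib.MonsterT.ThreeBData
import Cfsg.Agent.Lib.Golay.Local.CentChecks
set_option autoImplicit false
set_option maxRecDepth 100000

namespace Cfsg.Agent.MonsterT.ThreeB

open Cfsg Cfsg.Agent.Golay Cfsg.Agent.Leech.MatCert Cfsg.Agent.MonsterT.Three
open Cfsg.Agent.PermCert
open Cfsg.Agent.Golay.Local (rep3B eltOK₂ searchB prConj sameF cmpF idC allF threeBChainLevels)

theorem reps_ok : repsOK rep3B reps 8 = true := by decide +kernel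
theorem sums_ok : sumOK rep3B reps sumIdx 8 = true := by decide +kernel
theorem inj_ok : injOK reps 8 = true := by decide +kernel

theorem rep3B_ok : monoOK (rep3B, 0) = true := by decide +kernel
theorem monoGens_ok : monoGens.all monoOK = true := by decide +kernel
theorem outMat_ok : certOK outMat = true := by decide +kernel

theorem cls_valid : classPerms.all (fun g => validElt 8 256 g) = true := by decide +kernel

/-- The generators act on the representatives as recorded. -/
def genActOK : Bool :=
  allBelow (fun a =>
    allBelow (fun i => congB (monoL (monoGens.getD i ((0, 0), 0)).1 (monoGens.getD i ((0, 0), 0)).2 (repL reps a))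
      (repL reps (get 8 (classPerms.getD i (0, 0)).1 a))) 3 &&
    divL outMat (repL reps a) && congB (imgL outMat (repL reps a)) (repL reps (get 8 (classPerms.getD 3 (0, 0)).1 a))) 256

theorem genAct_ok : genActOK = true := by decide +kernel

/-- The matrix commutes with the element on the generators of the lattice. -/
def matCommOK : Bool :=
  genL.all fun l => divL outMat l && latB (imgL outMat l) && latB (monoL rep3B 0 l) &&
    divL outMat (monoL rep3B 0 l) && eqL (imgL outMat (monoL rep3B 0 l)) (monoL rep3B 0 (imgL outMat l))

theorem matComm_ok : matCommOK = true := by decide +kernel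

/-- The monomial generators commute with the element. -/
def monoCommOK : Bool :=
  monoGens.all fun g => sameF (cmpF g.1.1 rep3B.1) (cmpF rep3B.1 g.1.1) &&
    allBelow (fun i => g.2.testBit (get 5 rep3B.1 i) == g.2.testBit i) 24

theorem monoComm_ok : monoCommOK = true := by decide +kernel

/-- The axis class and the singular classes. -/
theorem axis_ok : (Nat.blt axisIdx 256 && eqL (repL reps axisIdx) ((List.range 24).map fun i => if i = 23 then 8 else 0) &&
    Nat.ble ((List.range 256).countP fun a => decide (dotL (repL reps a) (repL reps a) / 8 = 8)) 135) = true := by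
  decide +kernel

/-- The fixed code words. -/
theorem fixCode_ok : Nat.ble ((codeList.filter fun m =>
    allBelow (fun i => m.testBit (get 5 rep3B.1 i) == m.testBit i) 24).length) 16 = true := by decide +kernel

theorem pair_cert : checkCert 9 265 pairGens pairDerived pairLevels = true := by decide +kernel
theorem pair_order : certOrder pairLevels = 181440 := by decide +kernel
theorem nine_cert : checkCert 4 9 nineGens nineDerived nineLevels = true := by decide +kernel
theorem nine_order : certOrder nineLevels = 181440 := by decide +kernel

/-- The paired generators restrict to the two actions. -/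
def pairOK : Bool :=
  allBelow (fun i => allBelow (fun a =>
      Nat.beq (get 9 (pairGens.getD i (0, 0)).1 a) (get 8 (classPerms.getD i (0, 0)).1 a)) 256 &&
    allBelow (fun a =>
      Nat.beq (get 9 (pairGens.getD i (0, 0)).1 (256 + a)) (256 + get 4 (nineGens.getD i (0, 0)).1 a)) 9) 4 &&
  Nat.beq pairGens.length 4 && Nat.beq nineGens.length 4 && Nat.beq classPerms.length 4 &&
    Nat.beq monoGens.length 3 && nineGens.all (fun g => validElt 4 9 g)

theorem pair_ok : pairOK = true := by decide +kernel

theorem nine_even : ∀ i : Fin 4, Equiv.Perm.sign (toPerm 4 9 (nineGens.getD i (0, 0))) = 1 := by decide +kernel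

theorem cen_cert : checkCert 5 24 cenGens cenDerived cenLevels = true := by decide +kernel
theorem cen_order : certOrder cenLevels = 504 := by decide +kernel

/-- Commuting elements sift into the listed centraliser. -/
def leafC (e : ℕ) : Bool := !(sameF (cmpF e rep3B.1) (cmpF rep3B.1 e)) || sift 5 24 cenLevels e

theorem cen_search : searchB (prConj rep3B.1 rep3B.1) leafC threeBChainLevels [] idC = true := by decide +kernel

end Cfsg.Agent.MonsterT.ThreeB
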