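/-
The centraliser of a fixed-point-free monomial element of order three of the automorphism group of the Leech
lattice acts on the fixed classes as the alternating group of degree nine.
-/
import Cfsg.Agent.Lib.MonsterT.ThreeBChecks
import Cfsg.Agent.Lib.MonsterT.LocalType
import Cfsg.Agent.Lib.Golay.Local.Cents
set_option autoImplicit false
set_option maxRecDepth 100000

namespace Cfsg.Agent.MonsterT.ThreeB

open Cfsg Cfsg.Agent.Golay Cfsg.Agent.Leech Cfsg.Agent.Leech.MatCert Cfsg.Agent.MonsterT.Three
open Cfsg.Agent.PermCert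
open Cfsg.Agent.LatticeMod2 (Rootless Cong)
open Cfsg.Agent.Golay.Local (rep3B R3B reps_spec code_R3B searchB prConj prConj_spec sameF cmpF idC sameF_iff
  threeBChainLevels threeBChainGens threeBChain_cert chains_bases chains_gens search_chain mem_genPerm_of_sift
  card_genPerm code_permOf eltOK_spec facts)

theorem allBelow_of {f : ℕ → Bool} : ∀ {n : ℕ}, (∀ i < n, f i = true) → allBelow f n = true
  | 0, _ => rfl
  | n + 1, h => by
    show (allBelow f n && f n) = true
    rw [allBelow_of fun i hi => h i (by omega), h n (by omega)]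
    rfl

/-- The permutation of the points. -/
noncomputable def sigB : ↥M24 := ⟨R3B, reps_spec.2.2.2.1.2⟩

/-- The element of order three. -/
noncomputable def bB : Co0 := monoElt (rep3B, 0) rep3B_ok

theorem bB_eq : bB = mono (sigB, 0) :=
  congrArg mono (Prod.ext (Subtype.ext rfl) (Subtype.ext ofMask_zero))

theorem bB_sec : bB = (secHom sigB : Co0) := bB_eq

theorem sigB_pow : sigB ^ 3 = 1 := Subtype.ext facts.2.2.2.1

theorem sigB_ne : sigB ≠ 1 := fun h => facts.2.2.2.2.1 (congrArg Subtype.val h)

theorem bB_pow : bB ^ 3 = 1 := by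
  rw [bB_sec, ← SubmonoidClass.coe_pow, ← map_pow, sigB_pow, map_one]
  rfl

theorem bB_ne : bB ≠ 1 := fun h => sigB_ne (by
  have h' : secHom sigB = 1 := Subtype.ext (bB_sec ▸ h)
  rw [← rho_secHom sigB, h', map_one])

/-- The centraliser of the permutation in the group of the code. -/
theorem commute_mem {c : Equiv.Perm GolayPt} (hc : c ∈ M24) (h : c * R3B = R3B * c) : c ∈ genPerm cenGens := by
  have hb := chains_bases
  simp only [Bool.and_eq_true] at hb
  obtain ⟨e, he, hleaf⟩ := search_chain chains_gens.2.2 threeBChain_cert hb.2 cen_search hc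
    fun F f hF hf => prConj_spec code_R3B code_R3B h hF hf
  simp only [leafC, Bool.or_eq_true, Bool.not_eq_true'] at hleaf
  rcases hleaf with h' | h'
  · exact absurd ((sameF_iff (he.cmp code_R3B) (code_R3B.cmp he)).2 h) (by rw [h']; simp)
  · exact mem_genPerm_of_sift cen_cert he h'

theorem card_centM24 : Nat.card (Subgroup.centralizer ({sigB} : Set ↥M24)) ≤ 504 := by
  rw [← cen_order, ← card_genPerm cen_cert, ← Subgroup.card_map_of_injective M24.subtype_injective]
  refine Subgroup.card_le_of_le ?_
  rintro _ ⟨c, hc, rfl⟩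
  exact commute_mem c.2 (congrArg Subtype.val (Subgroup.mem_centralizer_singleton_iff.1 hc))

/-- The centraliser. -/
noncomputable abbrev Cb : Subgroup Co0 := Subgroup.centralizer ({bB} : Set Co0)

theorem card_cross_cent : Nat.card (Cb ⊓ crossStab : Subgroup Co0) ≤ 504 * 16 := by
  classical
  haveI := finite_Co0
  set X : Subgroup Co0 := Cb ⊓ crossStab
  let f : X →* ↥M24 := rho.comp (Subgroup.inclusion (inf_le_right : X ≤ crossStab))
  have h := f.ker.card_mul_index
  rw [Subgroup.index_ker] at h
  rw [← h, mul_comm]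
  refine Nat.mul_le_mul ?_ ?_
  · refine le_trans (Subgroup.card_le_of_le ?_) card_centM24
    rintro _ ⟨x, rfl⟩
    have hx : (Subgroup.inclusion (inf_le_right : X ≤ crossStab) x) * secHom sigB =
        secHom sigB * Subgroup.inclusion inf_le_right x := Subtype.ext (by
      show (x : Co0) * (secHom sigB : Co0) = (secHom sigB : Co0) * (x : Co0)
      rw [← bB_sec]
      exact Subgroup.mem_centralizer_singleton_iff.1 x.2.1)
    have h' := congrArg rho hx
    rw [map_mul, map_mul, rho_secHom] at h'
    exact Subgroup.mem_centralizer_singleton_iff.2 h'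
  · let S : Finset (GolayPt → ZMod 2) :=
      ((codeList.filter fun m =>
        allBelow (fun i => m.testBit (get 5 rep3B.1 i) == m.testBit i) 24).map ofMask).toFinset
    have hS : S.card ≤ 16 := by
      refine le_trans (List.toFinset_card_le _) ?_
      rw [List.length_map]
      exact Nat.le_of_ble_eq_true fixCode_ok
    have key : ∀ x : f.ker, ∃ c : golayCode, (c : GolayPt → ZMod 2) ∈ S ∧
        mono (1, c) = ((x : X) : Co0) := by
      intro x
      obtain ⟨c, hc⟩ := rho_spec (Subgroup.inclusion (inf_le_right : X ≤ crossStab) x.1)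
      rw [show rho (Subgroup.inclusion (inf_le_right : X ≤ crossStab) x.1) = 1 from x.2] at hc
      refine ⟨c, ?_, hc⟩
      have hcomm := Subgroup.mem_centralizer_singleton_iff.1 x.1.2.1
      rw [show ((x : X) : Co0) = mono (1, c) from hc.symm, bB_eq] at hcomm
      obtain ⟨m, hm, hmc⟩ := mem_golayCode.1 c.2
      refine List.mem_toFinset.2 (List.mem_map.2 ⟨m, List.mem_filter.2 ⟨hm, ?_⟩, hmc⟩)
      refine allBelow_of fun i hi => ?_
      have h2 := congrArg (fun g : Co0 => g • axis (Golay.Local.ptN i)) hcomm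
      have hz : ∀ (g : Co0) (n : ℤ) (v : leechLattice), g • (n • v) = n • (g • v) := fun g n v => by
        rw [← hom0_apply, map_zsmul, hom0_apply]
      have h0 : ∀ j, sgn ((0 : golayCode) : GolayPt → ZMod 2) j = 1 := fun j => by simp [sgn]
      change (mono (1, c) * mono (sigB, 0)) • axis (Golay.Local.ptN i) =
        (mono (sigB, 0) * mono (1, c)) • axis (Golay.Local.ptN i) at h2
      rw [mul_smul, mul_smul, mono_axis, mono_axis, hz, hz, mono_axis, mono_axis, smul_smul, smul_smul,
        h0, h0, one_mul, mul_one, OneMemClass.coe_one, Equiv.Perm.one_apply, Equiv.Perm.one_apply] at h2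
      have h3 := (sgn_axis_inj (sgn_cases _ _) h2).2
      have e1 : ofMask m (sigB.1 (Golay.Local.ptN i)) = ofMask m (Golay.Local.ptN i) := by
        rw [hmc]
        rcases zmod2_cases ((c : GolayPt → ZMod 2) (sigB.1 (Golay.Local.ptN i))) with q | q <;>
          rcases zmod2_cases ((c : GolayPt → ZMod 2) (Golay.Local.ptN i)) with q' | q' <;>
          simp [sgn, q, q'] at h3 ⊢
      have hget : idx (sigB.1 (Golay.Local.ptN i)) = get 5 rep3B.1 i := (code_R3B.get hi).symm
      unfold ofMask at e1
      rw [hget, Golay.Local.idx_ptN hi] at e1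
      generalize m.testBit (get 5 rep3B.1 i) = a at e1 ⊢
      generalize m.testBit i = a' at e1 ⊢
      revert e1
      cases a <;> cases a' <;> decide
    choose c hcS hc using key
    calc Nat.card f.ker ≤ Nat.card S :=
          Nat.card_le_card_of_injective (fun x => ⟨_, hcS x⟩) fun x y e => by
            have e' : c x = c y := Subtype.ext (congrArg (fun w : S => w.1) e)
            exact Subtype.ext (Subtype.ext (by rw [← hc x, ← hc y, e']))
      _ = S.card := by simp
      _ ≤ 16 := hS

/-- The model of the fixed classes. -/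
noncomputable def fm : FixModel bB 8 := Three.model reps_ok sums_ok rep3B_ok inj_ok

theorem fm_R (a : Fin (2 ^ 8)) : fm.R a = rv reps_ok a := rfl

theorem cent_fixed (c : Cb) {x : leechLattice} (hx : Fixed bB x) : Fixed bB ((c : Co0) • x) := by
  show Cong (bB • (c : Co0) • x) ((c : Co0) • x)
  rw [← mul_smul, ← Subgroup.mem_centralizer_singleton_iff.1 c.2, mul_smul]
  exact co0_cong hx

/-- The image of a class. -/
noncomputable def actFun (c : Cb) (a : Fin (2 ^ 8)) : Fin (2 ^ 8) :=
  fm.index ((c : Co0) • fm.R a) (cent_fixed c (fm.fixed a))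

theorem actFun_spec (c : Cb) (a : Fin (2 ^ 8)) : Cong ((c : Co0) • fm.R a) (fm.R (actFun c a)) :=
  fm.index_spec _ _

theorem actFun_eq {c : Cb} {a a' : Fin (2 ^ 8)} (h : Cong ((c : Co0) • fm.R a) (fm.R a')) : actFun c a = a' :=
  fm.index_eq h

theorem actFun_mul (c d : Cb) (a : Fin (2 ^ 8)) : actFun (c * d) a = actFun c (actFun d a) := by
  refine actFun_eq ?_
  rw [Subgroup.coe_mul, mul_smul]
  exact cong_trans (co0_cong (actFun_spec d a)) (actFun_spec c _)

theorem actFun_one (a : Fin (2 ^ 8)) : actFun 1 a = a :=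
  actFun_eq (by rw [Subgroup.coe_one, one_smul]; exact cong_rfl _)

/-- The action on the fixed classes. -/
noncomputable def theta : Cb →* Equiv.Perm (Fin (2 ^ 8)) :=
  MonoidHom.mk' (fun c => ⟨actFun c, actFun c⁻¹,
      fun a => by rw [← actFun_mul, inv_mul_cancel, actFun_one],
      fun a => by rw [← actFun_mul, mul_inv_cancel, actFun_one]⟩)
    fun c d => Equiv.ext fun a => actFun_mul c d a

/-- The class of the axis. -/
def axC : Fin (2 ^ 8) := ⟨axisIdx % 2 ^ 8, Nat.mod_lt _ (Nat.two_pow_pos 8)⟩

theorem axis_facts : (axC : ℕ) = axisIdx ∧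
    repL reps axisIdx = ((List.range 24).map fun i => if i = 23 then (8 : ℤ) else 0) ∧
    ((List.range 256).countP fun a => decide (dotL (repL reps a) (repL reps a) / 8 = 8)) ≤ 135 := by
  have h := axis_ok
  simp only [Bool.and_eq_true, Nat.blt_eq, eqL, decide_eq_true_eq] at h
  exact ⟨Nat.mod_eq_of_lt h.1.1, h.1.2, Nat.le_of_ble_eq_true h.2⟩

theorem fm_axis : fm.R axC = axis none := by
  refine Subtype.ext (funext fun p => ?_)
  show toVec (repL reps axC) p = _
  rw [axis_facts.1, axis_facts.2.1, coe_axis, toVec, List.getD_eq_getElem _ _ (by simp [idx_lt]),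
    List.getElem_map, List.getElem_range]
  by_cases hp : p = none
  · subst hp; simp [idx]
  · rw [Pi.single_eq_of_ne hp, if_neg]
    exact fun h => hp (idx_injective h)

theorem card_Cb_le : Nat.card Cb ≤ 135 * (504 * 16) := by
  classical
  haveI := finite_Co0
  letI : MulAction Cb (Fin (2 ^ 8)) := MulAction.compHom _ theta
  rw [← (MulAction.stabilizer Cb axC).card_mul_index, mul_comm, MulAction.index_stabilizer]
  refine Nat.mul_le_mul ?_ ?_
  · let S : Finset (Fin (2 ^ 8)) := Finset.filter
      (fun a : Fin (2 ^ 8) => decide (dotL (repL reps (a : ℕ)) (repL reps (a : ℕ)) / 8 = 8) = true) Finset.univ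
    have hS : S.card ≤ 135 := by
      refine le_trans ?_ axis_facts.2.2
      rw [List.countP_eq_length_filter, ← List.toFinset_card_of_nodup (List.nodup_range.filter _)]
      refine Finset.card_le_card_of_injOn (fun a : Fin (2 ^ 8) => (a : ℕ)) (fun a ha => ?_)
        fun a _ b _ h => Fin.ext h
      have ha' := (Finset.mem_filter.1 ha).2
      exact List.mem_toFinset.2 (List.mem_filter.2 ⟨List.mem_range.2 a.2, ha'⟩)
    refine le_trans (Set.ncard_le_ncard (t := (S : Set (Fin (2 ^ 8)))) ?_) (by rw [Set.ncard_coe_finset]; exact hS)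
    rintro _ ⟨c, rfl⟩
    have h8 : ip ((c : Co0) • fm.R axC) ((c : Co0) • fm.R axC) = 8 := by
      rw [co0_ip, fm_axis]; exact ip_axis_self none
    have h := fm.norm_eight h8 (actFun_spec c axC)
    rw [fm_R, rv, ip_latV'] at h
    exact Finset.mem_filter.2 ⟨Finset.mem_univ _, decide_eq_true h⟩
  · refine le_trans (Nat.card_le_card_of_injective (fun c => (⟨((c : Cb) : Co0), c.1.2, ?_⟩ : (Cb ⊓ crossStab : Subgroup Co0)))
      fun a b h => Subtype.ext (Subtype.ext (congrArg Subtype.val h :))) card_cross_cent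
    show ((c : Cb) : Co0) ∈ crossStab
    rw [← classStab_axis, mem_classStab, ← fm_axis]
    have h : actFun c.1 axC = axC := c.2
    have h2 := actFun_spec c.1 axC
    rwa [h] at h2

theorem monoGen_ok (i : ℕ) (hi : i < 3) : monoOK (monoGens.getD i ((0, 0), 0)) = true := by
  have h := pair_ok
  simp only [pairOK, Bool.and_eq_true, Nat.beq_eq] at h
  rw [List.getD_eq_getElem _ _ (h.1.2 ▸ hi)]
  exact List.all_eq_true.1 monoGens_ok _ (List.getElem_mem _)

theorem matComm : matElt outMat outMat_ok * bB = bB * matElt outMat outMat_ok := by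
  refine co0_ext fun i => ?_
  suffices key : ∀ x : leechLattice, (matElt outMat outMat_ok * bB) • x = (bB * matElt outMat outMat_ok) • x from
    key _
  intro x
  refine leech_induction (P := fun x => (matElt outMat outMat_ok * bB) • x = (bB * matElt outMat outMat_ok) • x)
    ?_ ?_ ?_ ?_ x
  · intro l hl hlg
    have h := List.all_eq_true.1 matComm_ok l hlg
    simp only [Bool.and_eq_true, eqL, decide_eq_true_eq] at h
    obtain ⟨⟨⟨⟨h1, h2⟩, h3⟩, h4⟩, h5⟩ := h
    have v1 : bB • latV l hl = latV _ h3 := Subtype.ext (monoElt_vec rep3B_ok hl).symm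
    have v2 : matElt outMat outMat_ok • latV l hl = latV _ h2 := Subtype.ext (matElt_vec outMat_ok hl h1).symm
    rw [mul_smul, mul_smul, v1, v2]
    refine Subtype.ext ?_
    rw [← matElt_vec outMat_ok h3 h4, h5]
    exact monoElt_vec rep3B_ok h2
  · rw [← hom0_apply, ← hom0_apply, map_zero, map_zero]
  · intro u v hu hv
    rw [co0_add, co0_add, hu, hv]
  · intro u hu
    rw [← hom0_apply, ← hom0_apply, map_neg, map_neg, hom0_apply, hom0_apply, hu]

theorem monoComm' (g : Elt × ℕ) (hmem : g ∈ monoGens) (hok : monoOK g = true) :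
    monoElt g hok * bB = bB * monoElt g hok := by
  have h := List.all_eq_true.1 monoComm_ok g hmem
  have hok' : Golay.Local.eltOK₂ g.1 = true ∧ inCode g.2 = true := by simpa [monoOK, Bool.and_eq_true] using hok
  simp only [Bool.and_eq_true] at h
  have hc := code_permOf (eltOK_spec hok'.1).1
  have hperm : permOf g.1 * R3B = R3B * permOf g.1 := (sameF_iff (hc.cmp code_R3B) (code_R3B.cmp hc)).1 h.1
  refine co0_ext fun p => ?_
  have hz : ∀ (u : Co0) (n : ℤ) (v : leechLattice), u • (n • v) = n • (u • v) := fun u n v => by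
    rw [← hom0_apply, map_zsmul, hom0_apply]
  have h0 : ∀ j, sgn ((0 : golayCode) : GolayPt → ZMod 2) j = 1 := fun j => by simp [sgn]
  rw [bB_eq, monoElt, mul_smul, mul_smul, mono_axis, mono_axis, hz, hz, mono_axis, mono_axis, smul_smul,
    smul_smul, h0, h0, one_mul, mul_one]
  have hp : permOf g.1 (R3B p) = R3B (permOf g.1 p) := DFunLike.congr_fun hperm p
  show sgn (ofMask g.2) (permOf g.1 (R3B p)) • axis (permOf g.1 (R3B p)) =
    sgn (ofMask g.2) (permOf g.1 p) • axis (R3B (permOf g.1 p))
  rw [hp]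
  congr 1
  have hb := allBelow_spec _ _ h.2 (idx (permOf g.1 p)) (idx_lt _)
  rw [code_R3B, beq_iff_eq] at hb
  have he : ofMask g.2 (R3B (permOf g.1 p)) = ofMask g.2 (permOf g.1 p) := by
    show (if g.2.testBit _ then (1 : ZMod 2) else 0) = if g.2.testBit _ then 1 else 0
    rw [hb]
  unfold sgn
  simp only [he]

theorem monoComm (i : ℕ) (hi : i < 3) :
    monoElt _ (monoGen_ok i hi) * bB = bB * monoElt _ (monoGen_ok i hi) := by
  refine monoComm' _ ?_ _
  have h := pair_ok
  simp only [pairOK, Bool.and_eq_true, Nat.beq_eq] at h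
  rw [List.getD_eq_getElem _ _ (by rw [h.1.2]; exact hi)]
  exact List.getElem_mem _

/-- The listed elements of the centraliser. -/
noncomputable def gen (i : Fin 4) : Cb :=
  if h : (i : ℕ) < 3 then ⟨monoElt _ (monoGen_ok i h), Subgroup.mem_centralizer_singleton_iff.2 (monoComm i h)⟩
  else ⟨matElt outMat outMat_ok, Subgroup.mem_centralizer_singleton_iff.2 matComm⟩

/-- The permutation of the classes of a listed element. -/
def clsP (i : Fin 4) : Equiv.Perm (Fin (2 ^ 8)) := toPerm 8 256 (classPerms.getD i (0, 0))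

/-- The permutation of nine points of a listed element. -/
def nineP (i : Fin 4) : Equiv.Perm (Fin 9) := toPerm 4 9 (nineGens.getD i (0, 0))

theorem pair_facts : pairGens.length = 4 ∧ nineGens.length = 4 ∧ classPerms.length = 4 ∧
    (∀ i : Fin 4, validElt 8 256 (classPerms.getD i (0, 0)) = true ∧
      validElt 4 9 (nineGens.getD i (0, 0)) = true ∧ validElt 9 265 (pairGens.getD i (0, 0)) = true ∧
      (∀ a < 256, get 9 (pairGens.getD i (0, 0)).1 a = get 8 (classPerms.getD i (0, 0)).1 a) ∧
      (∀ a < 9, get 9 (pairGens.getD i (0, 0)).1 (256 + a) = 256 + get 4 (nineGens.getD i (0, 0)).1 a)) := by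
  have h := pair_ok
  simp only [pairOK, Bool.and_eq_true, Nat.beq_eq] at h
  obtain ⟨⟨⟨⟨⟨ha, hp⟩, hn⟩, hc⟩, -⟩, hv⟩ := h
  refine ⟨hp, hn, hc, fun i => ?_⟩
  have h' := allBelow_spec _ _ ha i i.2
  simp only [Bool.and_eq_true] at h'
  have hval : ∀ g ∈ pairGens, validElt 9 265 g = true := by
    have := pair_cert
    simp only [checkCert, Bool.and_eq_true, List.all_eq_true] at this
    exact this.1.1.1.1.2
  refine ⟨?_, ?_, ?_, fun a ha => Nat.eq_of_beq_eq_true (allBelow_spec _ _ h'.1 a ha),
    fun a ha => Nat.eq_of_beq_eq_true (allBelow_spec _ _ h'.2 a ha)⟩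
  · rw [List.getD_eq_getElem _ _ (by rw [hc]; exact i.2)]; exact List.all_eq_true.1 cls_valid _ (List.getElem_mem _)
  · rw [List.getD_eq_getElem _ _ (by rw [hn]; exact i.2)]; exact List.all_eq_true.1 hv _ (List.getElem_mem _)
  · rw [List.getD_eq_getElem _ _ (by rw [hp]; exact i.2)]; exact hval _ (List.getElem_mem _)

theorem theta_gen (i : Fin 4) : theta (gen i) = clsP i := by
  refine Equiv.ext fun a => ?_
  obtain ⟨hv, -, -, -, -⟩ := pair_facts.2.2.2 i
  refine actFun_eq ?_
  have h := allBelow_spec _ _ genAct_ok a a.2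
  simp only [Bool.and_eq_true] at h
  have ha : (clsP i a : ℕ) = get 8 (classPerms.getD i (0, 0)).1 a := ((rep_toPerm hv) a).1.symm
  have hlat := rep_in reps_ok a
  unfold gen
  split_ifs with hi
  · refine cong_of_congB (monoElt_vec (monoGen_ok i hi) hlat) rfl ?_
    rw [ha]
    exact allBelow_spec _ _ h.1.1 i hi
  · have : (i : ℕ) = 3 := by omega
    refine cong_of_congB (matElt_vec outMat_ok hlat h.1.2) rfl ?_
    rw [ha, this]
    exact h.2

/-- The embedding of pairs of permutations. -/
noncomputable def pairHom : Equiv.Perm (Fin (2 ^ 8)) × Equiv.Perm (Fin 9) →* Equiv.Perm (Fin 265) :=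
  (finSumFinEquiv (m := 2 ^ 8) (n := 9)).permCongrHom.toMonoidHom.comp (Equiv.Perm.sumCongrHom _ _)

theorem pairHom_inj : Function.Injective pairHom :=
  fun _ _ h => Equiv.Perm.sumCongrHom_injective ((finSumFinEquiv (m := 2 ^ 8) (n := 9)).permCongrHom.injective h)

theorem pairHom_gen (i : Fin 4) : pairHom (clsP i, nineP i) = toPerm 9 265 (pairGens.getD i (0, 0)) := by
  obtain ⟨hc, hn, hp, h1, h2⟩ := pair_facts.2.2.2 i
  refine Equiv.ext fun x => ?_
  obtain ⟨y, rfl⟩ := (finSumFinEquiv (m := 2 ^ 8) (n := 9)).surjective x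
  refine Fin.ext ?_
  rw [← ((rep_toPerm hp) _).1]
  show ((finSumFinEquiv (Equiv.Perm.sumCongr (clsP i) (nineP i) (finSumFinEquiv.symm (finSumFinEquiv y)))) : ℕ) = _
  rw [Equiv.symm_apply_apply]
  rcases y with a | a
  · simp only [Equiv.Perm.sumCongr_apply, Sum.map_inl, finSumFinEquiv_apply_left, Fin.val_castAdd]
    rw [h1 a a.2]
    exact ((rep_toPerm hc) a).1.symm
  · simp only [Equiv.Perm.sumCongr_apply, Sum.map_inr, finSumFinEquiv_apply_right, Fin.val_natAdd]
    rw [show (2 : ℕ) ^ 8 = 256 from rfl, h2 a a.2]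
    exact congrArg _ ((rep_toPerm hn) a).1.symm

/-- The paired group. -/
noncomputable def K0 : Subgroup (Equiv.Perm (Fin (2 ^ 8)) × Equiv.Perm (Fin 9)) :=
  Subgroup.closure (Set.range fun i : Fin 4 => (clsP i, nineP i))

theorem gen_set {w n : ℕ} {l : List Elt} (hl : l.length = 4) :
    {σ | σ ∈ l.map (toPerm w n)} = Set.range fun i : Fin 4 => toPerm w n (l.getD i (0, 0)) := by
  ext σ
  simp only [Set.mem_ofPred_eq, List.mem_map, Set.mem_range]
  constructor
  · rintro ⟨g, hg, rfl⟩
    obtain ⟨k, hk, rfl⟩ := List.mem_iff_getElem.1 hg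
    exact ⟨⟨k, hl ▸ hk⟩, by rw [List.getD_eq_getElem _ _ hk]⟩
  · rintro ⟨i, rfl⟩
    exact ⟨_, by rw [List.getD_eq_getElem _ _ (by rw [hl]; exact i.2)]; exact List.getElem_mem _, rfl⟩

theorem card_K0 : Nat.card K0 = 181440 := by
  rw [← pair_order, ← cert_card pair_cert, ← Subgroup.card_map_of_injective pairHom_inj]
  congr 1
  rw [K0, MonoidHom.map_closure, genGroup, gen_set pair_facts.1, ← Set.range_comp]
  simp only [Function.comp_def, pairHom_gen]

theorem map_snd : K0.map (MonoidHom.snd _ _) = genGroup 4 9 nineGens := by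
  rw [K0, MonoidHom.map_closure, genGroup, gen_set pair_facts.2.1, ← Set.range_comp]
  rfl

theorem card_nine : Nat.card (genGroup 4 9 nineGens) = 181440 := (cert_card nine_cert).trans nine_order

theorem map_snd_le : K0.map (MonoidHom.snd _ _) ≤ alternatingGroup (Fin 9) := by
  rw [K0, MonoidHom.map_closure, Subgroup.closure_le, ← Set.range_comp]
  rintro _ ⟨i, rfl⟩
  exact Equiv.Perm.mem_alternatingGroup.2 (nine_even i)

/-- The restriction to nine points. -/
noncomputable def toNine : K0 →* alternatingGroup (Fin 9) :=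
  ((MonoidHom.snd _ _).comp K0.subtype).codRestrict _ fun x => map_snd_le ⟨x, x.2, rfl⟩

theorem toNine_bij : Function.Bijective toNine := by
  classical
  have hA : Nat.card (alternatingGroup (Fin 9)) = 181440 := by
    rw [nat_card_alternatingGroup, Nat.card_eq_fintype_card, Fintype.card_fin]
    rfl
  have hsurj : Function.Surjective toNine := by
    intro x
    have htop : K0.map (MonoidHom.snd _ _) = alternatingGroup (Fin 9) := by
      refine Subgroup.eq_of_le_of_card_ge map_snd_le ?_
      rw [map_snd, card_nine, hA]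
    obtain ⟨y, hy, e⟩ := htop.ge x.2
    exact ⟨⟨y, hy⟩, Subtype.ext e⟩
  exact (Nat.bijective_iff_surjective_and_card _).2 ⟨hsurj, card_K0.trans hA.symm⟩

/-- The restriction to the classes. -/
noncomputable def toCls : K0 →* Equiv.Perm (Fin (2 ^ 8)) := (MonoidHom.fst _ _).comp K0.subtype

theorem cls_moved : (allBelow (fun a => Nat.beq (get 8 (classPerms.getD 0 (0, 0)).1 a) a) 256) = false := by
  decide +kernel

theorem clsP_ne : clsP 0 ≠ 1 := fun h => by
  have hv := (pair_facts.2.2.2 0).1
  have : allBelow (fun a => Nat.beq (get 8 (classPerms.getD 0 (0, 0)).1 a) a) 256 = true :=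
    allBelow_of fun a ha => by
      have h1 := ((rep_toPerm hv) ⟨a, ha⟩).1
      rw [show toPerm 8 256 (classPerms.getD ((0 : Fin 4) : ℕ) (0, 0)) = 1 from h] at h1
      rw [Nat.beq_eq]; exact h1
  rw [cls_moved] at this
  exact Bool.false_ne_true this

theorem toCls_inj : Function.Injective toCls := by
  haveI : IsSimpleGroup (alternatingGroup (Fin 9)) := alternatingGroup.isSimpleGroup (by simp)
  let ι : K0 ≃* alternatingGroup (Fin 9) := MulEquiv.ofBijective toNine toNine_bij
  haveI : Nontrivial K0 := ι.toEquiv.nontrivial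
  haveI : IsSimpleGroup K0 := IsSimpleGroup.isSimpleGroup_of_surjective ι.symm.toMonoidHom ι.symm.surjective
  rcases Subgroup.Normal.eq_bot_or_eq_top (inferInstance : toCls.ker.Normal) with h | h
  · exact (MonoidHom.ker_eq_bot_iff _).1 h
  · exfalso
    have h1 : (⟨(clsP 0, nineP 0), Subgroup.subset_closure ⟨0, rfl⟩⟩ : K0) ∈ toCls.ker := h ▸ Subgroup.mem_top _
    exact clsP_ne h1

theorem range_toCls_le : toCls.range ≤ theta.range := by
  rw [toCls, MonoidHom.range_comp, Subgroup.range_subtype, K0, MonoidHom.map_closure, Subgroup.closure_le,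
    ← Set.range_comp]
  rintro _ ⟨i, rfl⟩
  exact ⟨gen i, theta_gen i⟩

theorem card_range_toCls : Nat.card toCls.range = 181440 := by
  rw [← card_K0]
  exact (Nat.card_congr (MonoidHom.ofInjective toCls_inj).toEquiv).symm

/-- The element of order six in the kernel. -/
noncomputable def six : Cb :=
  ⟨negCo0 * bB, Subgroup.mem_centralizer_singleton_iff.2 (by
    rw [mul_assoc, ← mul_assoc bB negCo0 bB, Subgroup.mem_center_iff.1 negCo0_mem_center bB, mul_assoc])⟩

theorem six_order : orderOf six = 6 := by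
  rw [← Subgroup.orderOf_coe]
  show orderOf (negCo0 * bB) = 6
  haveI : Fact (Nat.Prime 2) := ⟨Nat.prime_two⟩
  haveI : Fact (Nat.Prime 3) := ⟨Nat.prime_three⟩
  have h2 : orderOf negCo0 = 2 := orderOf_eq_prime (by rw [pow_two]; exact negCo0_sq) negCo0_ne_one
  have h3 : orderOf bB = 3 := orderOf_eq_prime bB_pow bB_ne
  rw [(show Commute negCo0 bB from (Subgroup.mem_center_iff.1 negCo0_mem_center bB).symm
    ).orderOf_mul_eq_mul_orderOf_of_coprime (by rw [h2, h3]; decide), h2, h3]

theorem six_mem : six ∈ theta.ker := by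
  refine Equiv.ext fun a => actFun_eq ?_
  show Cong ((negCo0 * bB) • fm.R a) (fm.R a)
  rw [mul_smul]
  exact cong_trans (smul_cong_neg _) (fm.fixed a)

theorem theta_facts : toCls.range = theta.range ∧ theta.ker = Subgroup.zpowers six := by
  haveI := finite_Co0
  have h := theta.ker.card_mul_index
  rw [Subgroup.index_ker] at h
  have hle := card_Cb_le
  have hk : Subgroup.zpowers six ≤ theta.ker := Subgroup.zpowers_le.2 six_mem
  have h6 : 6 ≤ Nat.card theta.ker := by
    rw [← six_order, ← Nat.card_zpowers]; exact Subgroup.card_le_of_le hk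
  have hr : 181440 ≤ Nat.card theta.range := card_range_toCls ▸ Subgroup.card_le_of_le range_toCls_le
  constructor
  · refine Subgroup.eq_of_le_of_card_ge range_toCls_le ?_
    rw [card_range_toCls]
    nlinarith
  · refine (Subgroup.eq_of_le_of_card_ge hk ?_).symm
    rw [Nat.card_zpowers, six_order]
    nlinarith

/-- The isomorphism of the image with the alternating group. -/
noncomputable def imgEquiv : theta.range ≃* alternatingGroup (Fin 9) :=
  (MulEquiv.subgroupCongr theta_facts.1.symm).trans
    ((MonoidHom.ofInjective toCls_inj).symm.trans (MulEquiv.ofBijective toNine toNine_bij))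

/-- The action of the centraliser. -/
noncomputable def F : Cb →* alternatingGroup (Fin 9) := imgEquiv.toMonoidHom.comp theta.rangeRestrict

theorem F_eq_one {c : Cb} : F c = 1 ↔ c ∈ theta.ker := by
  rw [F, MonoidHom.comp_apply, MulEquiv.coe_toMonoidHom, map_eq_one_iff _ imgEquiv.injective, MonoidHom.mem_ker,
    Subtype.ext_iff]
  rfl

theorem core_alt9 : pCore 2 (alternatingGroup (Fin 9)) = ⊥ := by
  haveI : Fact (Nat.Prime 2) := ⟨Nat.prime_two⟩
  haveI : IsSimpleGroup (alternatingGroup (Fin 9)) := alternatingGroup.isSimpleGroup (by simp)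
  rcases Subgroup.Normal.eq_bot_or_eq_top
    (FittingCores.pCore_normal 2 : (pCore 2 (alternatingGroup (Fin 9))).Normal) with h | h
  · exact h
  · exfalso
    have hp := PBasic.pCore_isPGroup 2 (alternatingGroup (Fin 9))
    rw [h] at hp
    obtain ⟨n, hn⟩ := IsPGroup.iff_card.1 hp
    rw [Subgroup.card_top, nat_card_alternatingGroup, Nat.card_eq_fintype_card, Fintype.card_fin] at hn
    have h3 : 3 ∣ 2 ^ n := hn ▸ (by decide)
    have := (Nat.prime_dvd_prime_iff_eq Nat.prime_three Nat.prime_two).1 (Nat.prime_three.dvd_of_dvd_pow h3)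
    omega

/-- **The model of the centraliser.** -/
noncomputable def centModel : CentModel bB 3 8 (alternatingGroup (Fin 9)) where
  fm := fm
  F := F
  surj := imgEquiv.surjective.comp theta.rangeRestrict_surjective
  triv := by
    intro c hc
    refine F_eq_one.2 (Equiv.ext fun a => actFun_eq ?_)
    rcases hc with hc | hc <;> rw [hc]
    · exact fm.fixed a
    · exact smul_cong_neg _
  ker := by
    intro c hc
    haveI := finite_Co0
    have h := F_eq_one.1 hc
    rw [theta_facts.2] at h
    obtain ⟨n, hn⟩ := mem_powers_iff_mem_zpowers.2 h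
    refine ⟨n, ?_⟩
    have he : (c : Co0) = negCo0 ^ n * bB ^ n := by
      rw [← hn, Subgroup.coe_pow, ← (show Commute negCo0 bB from
        (Subgroup.mem_center_iff.1 negCo0_mem_center bB).symm).mul_pow]
      rfl
    rcases Nat.even_or_odd' n with ⟨k, rfl | rfl⟩
    · left; rw [he, pow_mul, pow_two, negCo0_sq, one_pow, one_mul]
    · right; rw [he, pow_succ, pow_mul, pow_two, negCo0_sq, one_pow, one_mul]
  faith := fun c hc => F_eq_one.2 (Equiv.ext fun a => actFun_eq (hc a))
  core := core_alt9

end Cfsg.Agent.MonsterT.ThreeB
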