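/-
Elements of order three in the joint centraliser of the central involution and one of its conjugates in the
extraspecial subgroup of a group of Monster type.
-/
import Cfsg.Agent.Lib.MonsterT.LocalBasic
import Cfsg.Agent.Lib.Golay.Local.Classes
import Mathlib.GroupTheory.Sylow
set_option autoImplicit false

namespace Cfsg.Agent.MonsterT.Three

open Cfsg Cfsg.Agent.Golay Cfsg.Agent.Leech
open Cfsg.Agent.LatticeMod2 (Rootless Cong)
open Cfsg.Agent.PermCert (sift checkCert certOrder)
open Cfsg.Agent.Golay.Local (rep3A R3A R3B syl3Gens syl3Levels syl3_cert syl3_elts syl_orders conj3 conjs_ok conjF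
  cmpF sameF sameF_iff allF allF_iff anyF anyF_iff eltOK_spec code_R3A code_permOf mem_genPerm_of_sift
  card_genPerm genPerm_le genPerm_induction class3 reps_spec factorization_M24)

/-- A conjugate of the element with six fixed points is central in the listed Sylow subgroup. -/
theorem syl3_central : anyF (fun t => t.2.1 && sift 5 24 syl3Levels (conjF t.2.2 rep3A.1) &&
    allF (fun g => sameF (cmpF g.1 (conjF t.2.2 rep3A.1)) (cmpF (conjF t.2.2 rep3A.1) g.1)) syl3Gens) conj3 = true := by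
  decide +kernel

/-- The element with six fixed points, in the group of the code. -/
noncomputable def sigA : ↥M24 := ⟨R3A, reps_spec.2.2.1.2⟩

/-- The fixed-point-free element, in the group of the code. -/
noncomputable def sigF : ↥M24 := ⟨R3B, reps_spec.2.2.2.1.2⟩

theorem exists_syl_cent : ∃ S : Subgroup ↥M24, Nat.card S = 27 ∧ sigA ∈ S ∧ ∀ s ∈ S, sigA * s = s * sigA := by
  obtain ⟨t, ht, h⟩ := anyF_iff.1 syl3_central
  simp only [Bool.and_eq_true, allF_iff] at h
  obtain ⟨⟨-, hs⟩, hcomm⟩ := h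
  have hc := conjs_ok
  simp only [Bool.and_eq_true, allF_iff] at hc
  obtain ⟨hv, hM⟩ := eltOK_spec (hc.2 t ht)
  have hx := Local.Code.conj hv code_R3A
  set x := permOf t.2.2 * R3A * (permOf t.2.2)⁻¹ with hxdef
  have hxmem : x ∈ genPerm syl3Gens := mem_genPerm_of_sift syl3_cert hx hs
  have hxcomm : ∀ y ∈ genPerm syl3Gens, y * x = x * y := by
    intro y hy
    have := genPerm_induction (gens := syl3Gens) (Subgroup.centralizer ({x} : Set (Equiv.Perm GolayPt)))
      (fun g hg => Subgroup.mem_centralizer_singleton_iff.2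
        ((sameF_iff ((code_permOf (eltOK_spec (allF_iff.1 syl3_elts g hg)).1).cmp hx)
          (hx.cmp (code_permOf (eltOK_spec (allF_iff.1 syl3_elts g hg)).1))).1 (hcomm g hg))) hy
    exact Subgroup.mem_centralizer_singleton_iff.1 this
  let k : ↥M24 := ⟨permOf t.2.2, hM⟩
  let T : Subgroup ↥M24 := (genPerm syl3Gens).subgroupOf M24
  refine ⟨T.comap (MulAut.conj k).toMonoidHom, ?_, ?_, ?_⟩
  · rw [Nat.card_congr (Equiv.subtypeEquiv (MulAut.conj k).toEquiv (p := fun y => y ∈ T.comap (MulAut.conj k).toMonoidHom)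
      (q := fun y => y ∈ T) fun y => Iff.rfl),
      Nat.card_congr (Subgroup.subgroupOfEquivOfLe (genPerm_le syl3_elts)).toEquiv, card_genPerm syl3_cert]
    have ho := syl_orders
    simp only [Bool.and_eq_true, Nat.beq_eq] at ho
    exact ho.1.1.1.1.2
  · exact hxmem
  · intro s hs'
    have h1 := hxcomm _ hs'
    refine Subtype.ext ?_
    have h2 : permOf t.2.2 * (s : Equiv.Perm GolayPt) * (permOf t.2.2)⁻¹ * x =
        x * (permOf t.2.2 * (s : Equiv.Perm GolayPt) * (permOf t.2.2)⁻¹) := h1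
    show R3A * (s : Equiv.Perm GolayPt) = s * R3A
    have h3 := congrArg (fun w => (permOf t.2.2)⁻¹ * w * permOf t.2.2) h2
    simp only [hxdef] at h3
    calc R3A * (s : Equiv.Perm GolayPt)
        = (permOf t.2.2)⁻¹ * (permOf t.2.2 * R3A * (permOf t.2.2)⁻¹ *
            (permOf t.2.2 * (s : Equiv.Perm GolayPt) * (permOf t.2.2)⁻¹)) * permOf t.2.2 := by group
      _ = _ := by rw [← h3]; group

variable {G : Type*} [Group G] [Finite G]

/-- The joint centraliser. -/
abbrev Lsub (z s : G) : Subgroup G := Subgroup.centralizer ({z, s} : Set G)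

omit [Finite G] in
theorem mem_Lsub {z s x : G} : x ∈ Lsub z s ↔ x * z = z * x ∧ x * s = s * x := by
  rw [Lsub, Subgroup.mem_centralizer_iff]
  constructor
  · intro h; exact ⟨(h z (by simp)).symm, (h s (by simp)).symm⟩
  · rintro ⟨h1, h2⟩ y hy
    rcases hy with rfl | rfl
    · exact h1.symm
    · exact h2.symm

/-- An element is central in a subgroup of order 27. -/
def Central {K : Type*} [Group K] (x : K) : Prop :=
  ∃ P : Subgroup K, Nat.card P = 27 ∧ x ∈ P ∧ ∀ y ∈ P, x * y = y * x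

theorem central_map {K K' : Type*} [Group K] [Group K'] (φ : K ≃* K') {x : K} (h : Central x) : Central (φ x) := by
  obtain ⟨P, hP, hx, hc⟩ := h
  refine ⟨P.map φ.toMonoidHom, by rw [Subgroup.card_map_of_injective φ.injective, hP], ⟨x, hx, rfl⟩, ?_⟩
  rintro _ ⟨y, hy, rfl⟩
  show φ x * φ y = φ y * φ x
  rw [← map_mul, hc y hy, map_mul]

variable {z : G} {Q : Subgroup (Subgroup.centralizer ({z} : Set G))} [Q.Normal]
  {e : (Subgroup.centralizer ({z} : Set G)) ⧸ Q ≃* Spor.Co1} {ψ : leechLattice → Q ⧸ Subgroup.center Q}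
  {q : Q}

/-- An element of the joint centraliser as an element of the centraliser of the involution. -/
def toC (z : G) {Q : Subgroup (Subgroup.centralizer ({z} : Set G))} (q : Q) :
    Lsub z (toG q) →* Subgroup.centralizer ({z} : Set G) :=
  Subgroup.inclusion fun _ hx => Subgroup.mem_centralizer_singleton_iff.2 (mem_Lsub.1 hx).1

theorem toC_comm (x : Lsub z (toG q)) : cq (toC z q x) q = q := toG_inj (by
  show (x : G) * toG q * (x : G)⁻¹ = toG q
  rw [(mem_Lsub.1 x.2).2, mul_inv_cancel_right])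

omit [Finite G] in
theorem mem_L_of_cq {n : Subgroup.centralizer ({z} : Set G)} (h : cq n q = q) : (n : G) ∈ Lsub z (toG q) :=
  mem_Lsub.2 ⟨Subgroup.mem_centralizer_singleton_iff.1 n.2,
    mul_inv_eq_iff_eq_mul.1 (congrArg toG h : (n : G) * toG q * (n : G)⁻¹ = toG q)⟩

section Hom

variable (H : MT z Q e ψ) (hv : ψ (axis none) = QuotientGroup.mk q)
include H hv

theorem exists_monomial (x : Lsub z (toG q)) :
    ∃ g : ↥crossStab, piHom e (toC z q x) = QuotientGroup.mk (g : Co0) := by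
  obtain ⟨g, hg⟩ := QuotientGroup.mk_surjective (piHom e (toC z q x))
  have hmem := H.cong_of_comm hv (toC_comm x) hg.symm
  rw [classStab_axis] at hmem
  exact ⟨⟨g, hmem⟩, hg.symm⟩

omit H hv in
theorem rho_congr {g g' : ↥crossStab} (h : (QuotientGroup.mk (g : Co0) : Spor.Co1) = QuotientGroup.mk (g' : Co0)) :
    rho g' = rho g := by
  rcases mk_eq_mk h with h' | h'
  · rw [Subtype.ext h']
  · have hn : negCo0 ∈ crossStab := by rw [← classStab_axis, mem_classStab]; exact smul_cong_neg _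
    have h1 : rho ⟨negCo0, hn⟩ = 1 := by
      refine Subtype.ext (Equiv.ext fun i => ?_)
      obtain ⟨c, hc⟩ := rho_spec ⟨negCo0, hn⟩
      have h1 := congrArg (fun g : Co0 => g • axis i) hc
      change mono _ • axis i = negCo0 • axis i at h1
      rw [negCo0_smul, mono_axis, ← neg_one_zsmul] at h1
      exact (sgn_axis_inj (sgn_cases _ _) h1).1
    rw [show g' = ⟨negCo0, hn⟩ * g from Subtype.ext h', map_mul, h1, one_mul]

/-- The permutation of the twenty-four points of an element of the joint centraliser. -/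
noncomputable def lam : Lsub z (toG q) →* ↥M24 :=
  MonoidHom.mk' (fun x => rho (exists_monomial H hv x).choose) fun x y => by
    rw [← map_mul]
    refine rho_congr ?_
    rw [Subgroup.coe_mul, QuotientGroup.mk_mul, ← (exists_monomial H hv x).choose_spec,
      ← (exists_monomial H hv y).choose_spec, ← map_mul, ← map_mul]
    exact (exists_monomial H hv (x * y)).choose_spec

theorem lam_spec {x : Lsub z (toG q)} {g : ↥crossStab} (h : piHom e (toC z q x) = QuotientGroup.mk (g : Co0)) :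
    lam H hv x = rho g :=
  rho_congr (h.symm.trans (exists_monomial H hv x).choose_spec)

theorem lam_surjective : Function.Surjective (lam H hv) := by
  intro σ
  have hnc := H.not_center hv (Or.inr (ip_axis_self none))
  have hc : Cong ((secHom σ : Co0) • axis none) (axis none) := by
    rw [← mem_classStab, classStab_axis]; exact (secHom σ).2
  obtain ⟨h, hh, hq⟩ := H.exists_conj hv hv hnc hc
  exact ⟨⟨(h : G), mem_L_of_cq hq⟩, (lam_spec H hv (g := secHom σ) hh).trans (rho_secHom σ)⟩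

theorem lam_ker : IsPGroup 2 (lam H hv).ker := by
  intro x
  obtain ⟨g, hg⟩ := exists_monomial H hv x.1
  have h1 : rho g = 1 := (lam_spec H hv hg).symm.trans x.2
  have h2 : toC z q (x.1 * x.1) ∈ Q := H.mem_Q_of_piHom (by
    rw [map_mul, map_mul, hg, ← QuotientGroup.mk_mul, ← Subgroup.coe_mul, diag_sq (MonoidHom.mem_ker.2 h1)]
    rfl)
  obtain ⟨n, hn⟩ := H.setting.2.2.1.1.1 ⟨_, h2⟩
  refine ⟨n + 1, Subtype.ext (Subtype.ext ?_)⟩
  have h3 : ((x : Lsub z (toG q)) : G) * ((x : Lsub z (toG q)) : G) ∈ Lsub z (toG q) := mul_mem x.1.2 x.1.2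
  have hn' := congrArg (fun w : Q => toG w) hn
  show ((x : Lsub z (toG q)) : G) ^ 2 ^ (n + 1) = 1
  rw [pow_succ', pow_mul, pow_two]
  exact hn'

theorem exists_card_L : ∃ n : ℕ, Nat.card (lam H hv).ker = 2 ^ n ∧
    Nat.card (Lsub z (toG q)) = 2 ^ n * 244823040 := by
  haveI : Fact (Nat.Prime 2) := ⟨Nat.prime_two⟩
  obtain ⟨n, hn⟩ := IsPGroup.iff_card.1 (lam_ker H hv)
  refine ⟨n, hn, ?_⟩
  have h := (lam H hv).ker.card_mul_index
  rw [Subgroup.index_ker, MonoidHom.range_eq_top.2 (lam_surjective H hv), Subgroup.card_top, card_M24, hn] at h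
  exact h.symm

theorem fact_three {n : ℕ} (h : Nat.card (Lsub z (toG q)) = 2 ^ n * 244823040) :
    (Nat.card (Lsub z (toG q))).factorization 3 = 3 := by
  rw [h, Nat.factorization_mul (by positivity) (by norm_num), Finsupp.add_apply, factorization_M24.2.1,
    Nat.factorization_eq_zero_of_not_dvd fun hd => by
      have := (Nat.prime_dvd_prime_iff_eq Nat.prime_three Nat.prime_two).1 (Nat.prime_three.dvd_of_dvd_pow hd)
      omega]

/-- Elements over the class with six fixed points are central. -/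
theorem central_of_classA {x : Lsub z (toG q)} (hx : x ^ 3 = 1) {k : ↥M24}
    (hk : lam H hv x = k * sigA * k⁻¹) : Central x := by
  haveI : Fact (Nat.Prime 2) := ⟨Nat.prime_two⟩
  haveI : Fact (Nat.Prime 3) := ⟨Nat.prime_three⟩
  obtain ⟨S, hS, hA, hcomm⟩ := exists_syl_cent
  obtain ⟨n, hn, hcard⟩ := exists_card_L H hv
  let P' : Subgroup ↥M24 := S.map (MulAut.conj k).toMonoidHom
  let K : Subgroup (Lsub z (toG q)) := P'.comap (lam H hv)
  have hK : Nat.card K = 2 ^ n * 27 := by
    have h := ((lam H hv).comp K.subtype).ker.card_mul_index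
    rw [Subgroup.index_ker] at h
    have h1 : Nat.card ((lam H hv).comp K.subtype).ker = 2 ^ n := by
      rw [← hn, ← Subgroup.card_map_of_injective K.subtype_injective]
      refine congrArg (fun S : Subgroup (Lsub z (toG q)) => Nat.card S) (SetLike.ext fun y => ?_)
      constructor
      · rintro ⟨y, hy, rfl⟩; exact hy
      · intro hy
        exact ⟨⟨y, Subgroup.mem_comap.2 (by rw [MonoidHom.mem_ker.1 hy]; exact one_mem _)⟩, hy, rfl⟩
    have h2 : ((lam H hv).comp K.subtype).range = P' := by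
      rw [MonoidHom.range_comp, Subgroup.range_subtype]
      exact Subgroup.map_comap_eq_self_of_surjective (lam_surjective H hv) P'
    rw [h1, h2, Subgroup.card_map_of_injective (MulAut.conj k).injective, hS] at h
    exact h.symm
  have hxK : x ∈ K := Subgroup.mem_comap.2 (hk ▸ ⟨sigA, hA, rfl⟩)
  have hX : IsPGroup 3 (Subgroup.zpowers (⟨x, hxK⟩ : K)) := by
    intro w
    refine ⟨1, Subtype.ext ?_⟩
    obtain ⟨w, i, rfl⟩ := w
    show ((⟨x, hxK⟩ : K) ^ i) ^ 3 = 1
    rw [← zpow_natCast, ← zpow_mul, mul_comm, zpow_mul, zpow_natCast, show (⟨x, hxK⟩ : K) ^ 3 = 1 from Subtype.ext hx,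
      one_zpow]
  obtain ⟨P, hP⟩ := hX.exists_le_sylow
  have hPcard : Nat.card (P : Subgroup K) = 27 := by
    rw [P.card_eq_multiplicity, hK, Nat.factorization_mul (by positivity) (by norm_num), Finsupp.add_apply,
      Nat.factorization_eq_zero_of_not_dvd fun hd => by
        have := (Nat.prime_dvd_prime_iff_eq Nat.prime_three Nat.prime_two).1 (Nat.prime_three.dvd_of_dvd_pow hd)
        omega]
    rw [show (27 : ℕ) = 3 ^ 3 from rfl, Nat.Prime.factorization_pow Nat.prime_three]
    simp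
  refine ⟨(P : Subgroup K).map K.subtype, by rw [Subgroup.card_map_of_injective K.subtype_injective, hPcard],
    ⟨⟨x, hxK⟩, hP (Subgroup.mem_zpowers _), rfl⟩, ?_⟩
  rintro _ ⟨y, hy, rfl⟩
  obtain ⟨s, hs, hsy⟩ := Subgroup.mem_comap.1 y.2
  have hl : lam H hv (x * K.subtype y) = lam H hv (K.subtype y * x) := by
    rw [map_mul, map_mul, hk, Subgroup.coe_subtype, ← hsy]
    show k * sigA * k⁻¹ * (k * s * k⁻¹) = k * s * k⁻¹ * (k * sigA * k⁻¹)
    calc k * sigA * k⁻¹ * (k * s * k⁻¹) = k * (sigA * s) * k⁻¹ := by group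
      _ = _ := by rw [hcomm s hs]; group
  have hP3 : IsPGroup 3 (P : Subgroup K) := P.2
  set w := (⟨x, hxK⟩ : K) * y * (y * ⟨x, hxK⟩)⁻¹ with hw
  have hwP : w ∈ (P : Subgroup K) :=
    mul_mem (mul_mem (hP (Subgroup.mem_zpowers _)) hy) (inv_mem (mul_mem hy (hP (Subgroup.mem_zpowers _))))
  have hwk : (w : Lsub z (toG q)) ∈ (lam H hv).ker := by
    rw [MonoidHom.mem_ker, hw, Subgroup.coe_mul, InvMemClass.coe_inv, map_mul, map_inv]
    exact mul_inv_eq_one.2 hl
  obtain ⟨i, hi⟩ := hP3 ⟨w, hwP⟩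
  obtain ⟨j, hj⟩ := lam_ker H hv ⟨_, hwk⟩
  have h3 : (w : Lsub z (toG q)) ^ 3 ^ i = 1 := congrArg (fun a : (P : Subgroup K) => ((a : K) : Lsub z (toG q))) hi
  have h2 : (w : Lsub z (toG q)) ^ 2 ^ j = 1 := congrArg Subtype.val hj
  have h1 := Nat.dvd_gcd (orderOf_dvd_of_pow_eq_one h3) (orderOf_dvd_of_pow_eq_one h2)
  rw [(((Nat.coprime_primes Nat.prime_three Nat.prime_two).2 (by norm_num)).pow i j).gcd_eq_one, Nat.dvd_one,
    orderOf_eq_one_iff, hw, Subgroup.coe_mul, InvMemClass.coe_inv, mul_inv_eq_one] at h1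
  exact h1

/-- An element of order three which is not central lies over the fixed-point-free class. -/
theorem classB_of_not_central {x : Lsub z (toG q)} (hx : x ^ 3 = 1) (hx1 : x ≠ 1) (hc : ¬ Central x) :
    ∃ k : ↥M24, lam H hv x = k * sigF * k⁻¹ := by
  haveI : Fact (Nat.Prime 3) := ⟨Nat.prime_three⟩
  have h3 : orderOf (lam H hv x) = 3 := by
    refine orderOf_eq_prime (by rw [← map_pow, hx, map_one]) fun h1 => hx1 ?_
    obtain ⟨j, hj⟩ := lam_ker H hv ⟨x, h1⟩
    have h2 : x ^ 2 ^ j = 1 := congrArg Subtype.val hj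
    have h4 := Nat.dvd_gcd (orderOf_dvd_of_pow_eq_one hx) (orderOf_dvd_of_pow_eq_one h2)
    rwa [((((Nat.coprime_primes Nat.prime_three Nat.prime_two).2 (by norm_num))).pow_right j).gcd_eq_one,
      Nat.dvd_one, orderOf_eq_one_iff] at h4
  obtain ⟨k, hk, h | h⟩ := class3 (lam H hv x).2 (by rw [← h3, Subgroup.orderOf_coe])
  · exact absurd (central_of_classA H hv hx (k := ⟨k, hk⟩) (Subtype.ext h)) hc
  · exact ⟨⟨k, hk⟩, Subtype.ext h⟩

/-- Elements of order three over the same subgroup of the group of the code are conjugate up to powers. -/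
theorem conj_of_same_image {σ : ↥M24} (h3 : orderOf σ = 3) {x y : Lsub z (toG q)} (hx : orderOf x = 3) (hy : orderOf y = 3)
    (hlx : lam H hv x = σ) (hly : lam H hv y = σ) :
    ∃ (u : Lsub z (toG q)) (a : ℕ), u * y * u⁻¹ = x ^ a := by
  let K : Subgroup (Lsub z (toG q)) := (Subgroup.zpowers σ).comap (lam H hv)
  obtain ⟨n, hn, -⟩ := exists_card_L H hv
  have hK : ¬ 3 ^ 2 ∣ Nat.card K := by
    have h := ((lam H hv).comp K.subtype).ker.card_mul_index
    rw [Subgroup.index_ker] at h
    have h1 : Nat.card ((lam H hv).comp K.subtype).ker ∣ 2 ^ n := by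
      rw [← hn, ← Subgroup.card_map_of_injective K.subtype_injective]
      refine Subgroup.card_dvd_of_le ?_
      rintro _ ⟨w, hw, rfl⟩
      exact hw
    have h2 : Nat.card ((lam H hv).comp K.subtype).range ∣ 3 := by
      conv_rhs => rw [← h3, ← Nat.card_zpowers]
      refine Subgroup.card_dvd_of_le ?_
      rintro _ ⟨w, rfl⟩
      exact w.2
    intro hd
    rw [← h] at hd
    have h4 : 3 * 3 ∣ 2 ^ n * 3 := (by simpa [pow_two] using hd.trans (Nat.mul_dvd_mul h1 h2))
    have := (Nat.prime_dvd_prime_iff_eq Nat.prime_three Nat.prime_two).1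
      (Nat.prime_three.dvd_of_dvd_pow (Nat.dvd_of_mul_dvd_mul_right (by norm_num) h4))
    omega
  obtain ⟨u, a, hu⟩ := exists_conj_prime Nat.prime_three hK
    (b := (⟨x, Subgroup.mem_comap.2 (hlx ▸ Subgroup.mem_zpowers _)⟩ : K))
    (c := ⟨y, Subgroup.mem_comap.2 (hly ▸ Subgroup.mem_zpowers _)⟩)
    (by rw [Subgroup.orderOf_mk, hx]) (by rw [Subgroup.orderOf_mk, hy])
  exact ⟨u, a, by simpa using congrArg Subtype.val hu⟩

/-- The automorphism of the four-group moves an element of a class to a conjugate of a power. -/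
theorem conj_of_class {σ : ↥M24} (h3 : orderOf σ = 3) {x : Lsub z (toG q)} (hx : orderOf x = 3)
    (hlx : lam H hv x = σ) (hclass : ∀ φ : Lsub z (toG q) ≃* Lsub z (toG q), ∃ k : ↥M24, lam H hv (φ x) = k * σ * k⁻¹)
    (hq2 : toG q * toG q = 1) (h : G) (hz : h * z * h⁻¹ = toG q)
    (hq' : h * toG q * h⁻¹ = z * toG q) :
    ∃ n : Subgroup.centralizer ({z} : Set G), cq n q = q ∧ ∃ a : ℕ,
      (n : G) * (h * (x : G) * h⁻¹) * (n : G)⁻¹ = (x : G) ^ a := by
  have hzq : toG q * z = z * toG q := Subgroup.mem_centralizer_singleton_iff.1 q.1.2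
  have hzq' : h * (z * toG q) * h⁻¹ = z := by
    rw [show h * (z * toG q) * h⁻¹ = h * z * h⁻¹ * (h * toG q * h⁻¹) by group, hz, hq', ← mul_assoc, hzq,
      mul_assoc, hq2, mul_one]
  have key : ∀ {w u u' : G}, h * u * h⁻¹ = u' → w * u = u * w → h * w * h⁻¹ * u' = u' * (h * w * h⁻¹) := by
    intro w u u' e hc
    rw [← e]
    calc h * w * h⁻¹ * (h * u * h⁻¹) = h * (w * u) * h⁻¹ := by group
      _ = _ := by rw [hc]; group
  have hmem : ∀ w ∈ Lsub z (toG q), h * w * h⁻¹ ∈ Lsub z (toG q) := by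
    intro w hw
    obtain ⟨h1, h2⟩ := mem_Lsub.1 hw
    have h12 : w * (z * toG q) = z * toG q * w := by
      rw [← mul_assoc, h1, mul_assoc, h2, ← mul_assoc]
    exact mem_Lsub.2 ⟨key hzq' h12, key hz h1⟩
  have hmap : (Lsub z (toG q)).map (MulAut.conj h).toMonoidHom = Lsub z (toG q) := by
    refine Subgroup.eq_of_le_of_card_ge ?_ (Subgroup.card_map_of_injective (MulAut.conj h).injective).ge
    rintro _ ⟨w, hw, rfl⟩
    exact hmem w hw
  let φ : Lsub z (toG q) ≃* Lsub z (toG q) :=
    ((Lsub z (toG q)).equivMapOfInjective (MulAut.conj h).toMonoidHom (MulAut.conj h).injective).trans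
      (MulEquiv.subgroupCongr hmap)
  have hφ : ((φ x : Lsub z (toG q)) : G) = h * (x : G) * h⁻¹ := rfl
  have hox : orderOf (φ x) = 3 := by rw [← hx]; exact orderOf_injective φ.toMonoidHom φ.injective x
  obtain ⟨k, hk⟩ := hclass φ
  obtain ⟨u, hu⟩ := lam_surjective H hv k
  obtain ⟨v, a, hva⟩ := conj_of_same_image H hv h3 hx (y := u⁻¹ * φ x * u)
    (by
      rw [← hox, ← orderOf_injective (MulAut.conj u⁻¹).toMonoidHom (MulAut.conj u⁻¹).injective (φ x)]
      simp [MulAut.conj_apply])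
    hlx (by rw [map_mul, map_mul, map_inv, hu, hk]; group)
  refine ⟨toC z q (v * u⁻¹), toC_comm _, a, ?_⟩
  have := congrArg (fun w : Lsub z (toG q) => (w : G)) hva
  simp only [Subgroup.coe_mul, InvMemClass.coe_inv, Subgroup.coe_pow, hφ] at this
  show ((v * u⁻¹ : Lsub z (toG q)) : G) * _ * ((v * u⁻¹ : Lsub z (toG q)) : G)⁻¹ = _
  rw [← this, Subgroup.coe_mul, InvMemClass.coe_inv]
  group

omit H hv in
theorem orderOf_sigF : orderOf sigF = 3 := by
  haveI : Fact (Nat.Prime 3) := ⟨Nat.prime_three⟩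
  exact orderOf_eq_prime (Subtype.ext Local.facts.2.2.2.1) fun h => Local.facts.2.2.2.2.1 (congrArg Subtype.val h)

/-- The automorphism of the four-group moves a non-central element to a conjugate of a power. -/
theorem conj_of_not_central {x : Lsub z (toG q)} (hx : orderOf x = 3) (hlx : lam H hv x = sigF)
    (hnc : ¬ Central x) (hq2 : toG q * toG q = 1) (h : G) (hz : h * z * h⁻¹ = toG q)
    (hq' : h * toG q * h⁻¹ = z * toG q) :
    ∃ n : Subgroup.centralizer ({z} : Set G), cq n q = q ∧ ∃ a : ℕ,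
      (n : G) * (h * (x : G) * h⁻¹) * (n : G)⁻¹ = (x : G) ^ a := by
  refine conj_of_class H hv orderOf_sigF hx hlx (fun φ => ?_) hq2 h hz hq'
  have hox : orderOf (φ x) = 3 := by rw [← hx]; exact orderOf_injective φ.toMonoidHom φ.injective x
  refine classB_of_not_central H hv (x := φ x) (hox ▸ pow_orderOf_eq_one _)
    (fun h1 => by rw [h1, orderOf_one] at hox; omega) fun hc => hnc ?_
  have := central_map φ.symm hc
  rwa [φ.symm_apply_apply] at this

end Hom

/-- **Standard position of an element of order three in a class.** -/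
theorem standard_of_class {σ : ↥M24} (h3 : orderOf σ = 3) (H : MT z Q e ψ) (hq : IsConj z (toG q)) (hne : toG q ≠ z)
    {x : Lsub z (toG q)} (hx : orderOf x = 3)
    (hclass : ∀ (e₁ : (Subgroup.centralizer ({z} : Set G)) ⧸ Q ≃* Spor.Co1) (ψ₁ : leechLattice → Q ⧸ Subgroup.center Q)
      (H₁ : MT z Q e₁ ψ₁) (hv₁ : ψ₁ (axis none) = QuotientGroup.mk q), ∃ k : ↥M24, lam H₁ hv₁ x = k * σ * k⁻¹) :
    ∃ (e' : (Subgroup.centralizer ({z} : Set G)) ⧸ Q ≃* Spor.Co1) (ψ' : leechLattice → Q ⧸ Subgroup.center Q)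
      (H' : MT z Q e' ψ') (hv' : ψ' (axis none) = QuotientGroup.mk q),
      piHom e' (toC z q x) = QuotientGroup.mk (secHom σ : Co0) ∧ lam H' hv' x = σ := by
  have hx3 : x ^ 3 = 1 := hx ▸ pow_orderOf_eq_one x
  have hx1 : x ≠ 1 := fun h => by rw [h, orderOf_one] at hx; omega
  obtain ⟨e₁, ψ₁, g, H₁, hv₁, hg, hg3, hg1⟩ := H.standard hq hne (p := 3) rfl
    (β := toC z q x) (by rw [← map_pow, hx3, map_one])
    (fun h => hx1 (Subgroup.inclusion_injective _ (h.trans (map_one _).symm))) (toC_comm x)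
  obtain ⟨k, hk⟩ := hclass _ _ H₁ hv₁
  rw [lam_spec H₁ hv₁ hg] at hk
  haveI : Fact (Nat.Prime 3) := ⟨Nat.prime_three⟩
  haveI := finite_Co0
  let K : Subgroup ↥crossStab := (Subgroup.zpowers σ).comap rho
  have hK : ¬ 3 ^ 2 ∣ Nat.card K := by
    have h := (rho.comp K.subtype).ker.card_mul_index
    rw [Subgroup.index_ker] at h
    have h1 : Nat.card (rho.comp K.subtype).ker ∣ 4096 := by
      rw [← card_rho_ker, ← Subgroup.card_map_of_injective K.subtype_injective]
      refine Subgroup.card_dvd_of_le ?_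
      rintro _ ⟨w, hw, rfl⟩
      exact hw
    have h2 : Nat.card (rho.comp K.subtype).range ∣ 3 := by
      conv_rhs => rw [← h3, ← Nat.card_zpowers]
      refine Subgroup.card_dvd_of_le ?_
      rintro _ ⟨w, rfl⟩
      exact w.2
    intro hd
    rw [← h] at hd
    have h4 : 3 ^ 2 ∣ 4096 * 3 := hd.trans (Nat.mul_dvd_mul h1 h2)
    norm_num at h4
  set g' := (secHom k)⁻¹ * g * secHom k with hg'
  have hrg : rho g' = σ := by rw [hg', map_mul, map_mul, map_inv, rho_secHom, hk]; group
  have hog : orderOf g' = 3 := by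
    refine orderOf_eq_prime ?_ fun h1 => ?_
    · rw [hg', show (secHom k)⁻¹ * g * secHom k = (secHom k)⁻¹ * g * (secHom k)⁻¹⁻¹ by rw [inv_inv], conj_pow, hg3]
      group
    · rw [h1, map_one] at hrg
      rw [← hrg, orderOf_one] at h3
      omega
  obtain ⟨d, a, hd⟩ := exists_conj_prime Nat.prime_three hK
    (b := (⟨secHom σ, Subgroup.mem_comap.2 (by rw [rho_secHom]; exact Subgroup.mem_zpowers _)⟩ : K))
    (c := ⟨g', Subgroup.mem_comap.2 (by rw [hrg]; exact Subgroup.mem_zpowers _)⟩)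
    (by
      rw [Subgroup.orderOf_mk]
      exact orderOf_eq_prime (by rw [← map_pow, ← h3, pow_orderOf_eq_one, map_one]) fun h => by
        have := congrArg rho h
        rw [rho_secHom, map_one] at this
        rw [this, orderOf_one] at h3; omega)
    (by rw [Subgroup.orderOf_mk, hog])
  have hd' : (d : ↥crossStab) * g' * (d : ↥crossStab)⁻¹ = secHom σ ^ a := by
    simpa using congrArg Subtype.val hd
  have ha : (secHom σ) ^ a = secHom σ := by
    have h := congrArg rho hd'
    obtain ⟨i, hi⟩ := Subgroup.mem_zpowers_iff.1 (show rho (d : ↥crossStab) ∈ Subgroup.zpowers σ from d.2)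
    rw [map_mul, map_mul, map_inv, hrg, map_pow, rho_secHom, ← hi, show σ ^ i * σ * (σ ^ i)⁻¹ = σ by group]
      at h
    rw [← map_pow, ← h]
  set k₀ : ↥crossStab := (d : ↥crossStab) * (secHom k)⁻¹ with hk₀
  have hk0 : k₀ * g * k₀⁻¹ = secHom σ := by rw [← ha, ← hd', hk₀, hg']; group
  have hv' : (fun v => ψ₁ ((k₀ : Co0)⁻¹ • v)) (axis none) = QuotientGroup.mk q := by
    show ψ₁ ((k₀ : Co0)⁻¹ • axis none) = _
    rw [← hv₁]
    refine H₁.psi_eq_iff.2 ?_
    show Cong _ _
    rw [← mem_classStab, classStab_axis]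
    exact (k₀⁻¹).2
  have himg : piHom (e₁.trans (MulAut.conj (QuotientGroup.mk (k₀ : Co0) : Spor.Co1))) (toC z q x) =
      QuotientGroup.mk (secHom σ : Co0) := by
    show MulAut.conj (QuotientGroup.mk (k₀ : Co0) : Spor.Co1) (piHom e₁ (toC z q x)) = _
    rw [hg, ← hk0, MulAut.conj_apply, ← QuotientGroup.mk_inv, ← QuotientGroup.mk_mul, ← QuotientGroup.mk_mul]
    rfl
  exact ⟨_, _, H₁.twist (k₀ : Co0), hv', himg, (lam_spec _ hv' himg).trans (rho_secHom _)⟩

/-- **Standard position of an element of order three which is not central.** -/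
theorem standard_of_not_central (H : MT z Q e ψ) (hq : IsConj z (toG q)) (hne : toG q ≠ z)
    {x : Lsub z (toG q)} (hx : orderOf x = 3) (hnc : ¬ Central x) :
    ∃ (e' : (Subgroup.centralizer ({z} : Set G)) ⧸ Q ≃* Spor.Co1) (ψ' : leechLattice → Q ⧸ Subgroup.center Q)
      (H' : MT z Q e' ψ') (hv' : ψ' (axis none) = QuotientGroup.mk q),
      piHom e' (toC z q x) = QuotientGroup.mk (secHom sigF : Co0) ∧ lam H' hv' x = sigF :=
  standard_of_class orderOf_sigF H hq hne hx fun _ _ H₁ hv₁ =>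
    classB_of_not_central H₁ hv₁ (hx ▸ pow_orderOf_eq_one x) (fun h => by rw [h, orderOf_one] at hx; omega) hnc

end Cfsg.Agent.MonsterT.Three
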