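/-
Central elements of order three in the joint centraliser of the central involution and one of its conjugates in
the extraspecial subgroup of a group of Monster type.
-/
import Cfsg.Agent.Lib.MonsterT.ThreeCentral
import Cfsg.Agent.Lib.MonsterT.ThreeBModel
set_option autoImplicit false

namespace Cfsg.Agent.MonsterT.Three

open Cfsg Cfsg.Agent.Golay Cfsg.Agent.Leech
open Cfsg.Agent.LatticeMod2 (Rootless Cong)
open Cfsg.Agent.Golay.Local (R3A R3B class3 card_genPerm)

variable {G : Type*} [Group G] [Finite G] {z : G} {Q : Subgroup (Subgroup.centralizer ({z} : Set G))} [Q.Normal]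
  {e : (Subgroup.centralizer ({z} : Set G)) ⧸ Q ≃* Spor.Co1} {ψ : leechLattice → Q ⧸ Subgroup.center Q} {q : Q}

theorem orderOf_sigA : orderOf sigA = 3 := by
  haveI : Fact (Nat.Prime 3) := ⟨Nat.prime_three⟩
  exact orderOf_eq_prime (Subtype.ext Local.facts.2.2.1.1) fun h => Local.facts.2.2.1.2.1 (congrArg Subtype.val h)

section Hom

variable (H : MT z Q e ψ) (hv : ψ (axis none) = QuotientGroup.mk q)
include H hv

/-- A central element of order three lies over the class with six fixed points. -/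
theorem classA_of_central {x : Lsub z (toG q)} (hx : orderOf x = 3) (hc : Central x) :
    ∃ k : ↥M24, lam H hv x = k * sigA * k⁻¹ := by
  haveI : Fact (Nat.Prime 2) := ⟨Nat.prime_two⟩
  haveI : Fact (Nat.Prime 3) := ⟨Nat.prime_three⟩
  obtain ⟨P, hP, hxP, hcomm⟩ := hc
  have hinj : Function.Injective ((lam H hv).comp P.subtype) := by
    refine (injective_iff_map_eq_one _).2 fun y hy => ?_
    obtain ⟨j, hj⟩ := lam_ker H hv ⟨(y : Lsub z (toG q)), hy⟩
    have h2 : (y : Lsub z (toG q)) ^ 2 ^ j = 1 := congrArg Subtype.val hj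
    have h3 : y ^ 3 ^ 3 = 1 := by
      rw [show 3 ^ 3 = Nat.card P from by rw [hP]; norm_num]; exact pow_card_eq_one'
    have h4 := Nat.dvd_gcd (orderOf_dvd_of_pow_eq_one h3)
      (orderOf_dvd_of_pow_eq_one (show y ^ 2 ^ j = 1 from Subtype.ext (by rw [Subgroup.coe_pow]; exact h2)))
    rwa [(((Nat.coprime_primes Nat.prime_three Nat.prime_two).2 (by norm_num)).pow 3 j).gcd_eq_one, Nat.dvd_one,
      orderOf_eq_one_iff] at h4
  have h3 : orderOf (lam H hv x) = 3 := by
    exact (orderOf_injective ((lam H hv).comp P.subtype) hinj ⟨x, hxP⟩).trans ((Subgroup.orderOf_mk x hxP).trans hx)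
  obtain ⟨k, hk, h | h⟩ := class3 (lam H hv x).2 (by rw [← h3, Subgroup.orderOf_coe])
  · exact ⟨⟨k, hk⟩, Subtype.ext h⟩
  · exfalso
    have hkx : lam H hv x = ⟨k, hk⟩ * sigF * ⟨k, hk⟩⁻¹ := Subtype.ext h
    let S : Subgroup ↥M24 := ((lam H hv).comp P.subtype).range.map (MulAut.conj (⟨k, hk⟩ : ↥M24)⁻¹).toMonoidHom
    have hS : Nat.card S = 27 := by
      rw [Subgroup.card_map_of_injective (MulAut.conj (⟨k, hk⟩ : ↥M24)⁻¹).injective,
        ← Nat.card_congr (MonoidHom.ofInjective hinj).toEquiv, hP]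
    have hle : S.map M24.subtype ≤ genPerm ThreeB.cenGens := by
      rintro _ ⟨_, ⟨_, ⟨y, rfl⟩, rfl⟩, rfl⟩
      refine ThreeB.commute_mem (Subtype.prop _) ?_
      have hc' : lam H hv x * lam H hv y = lam H hv y * lam H hv x := by rw [← map_mul, hcomm _ y.2, map_mul]
      set κ : ↥M24 := ⟨k, hk⟩
      have e1 : κ⁻¹ * lam H hv x * κ = sigF := by rw [hkx]; group
      have e2 : κ⁻¹ * lam H hv y * κ⁻¹⁻¹ * sigF = sigF * (κ⁻¹ * lam H hv y * κ⁻¹⁻¹) := by
        rw [← e1]
        calc κ⁻¹ * lam H hv y * κ⁻¹⁻¹ * (κ⁻¹ * lam H hv x * κ) = κ⁻¹ * (lam H hv y * lam H hv x) * κ := by group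
          _ = κ⁻¹ * (lam H hv x * lam H hv y) * κ := by rw [hc']
          _ = _ := by group
      exact congrArg Subtype.val e2
    have hd := Subgroup.card_dvd_of_le hle
    rw [Subgroup.card_map_of_injective M24.subtype_injective, hS, card_genPerm ThreeB.cen_cert,
      ThreeB.cen_order] at hd
    norm_num at hd

/-- The automorphism of the four-group moves a central element to a conjugate of a power. -/
theorem conj_of_central {x : Lsub z (toG q)} (hx : orderOf x = 3) (hlx : lam H hv x = sigA)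
    (hc : Central x) (hq2 : toG q * toG q = 1) (h : G) (hz : h * z * h⁻¹ = toG q)
    (hq' : h * toG q * h⁻¹ = z * toG q) :
    ∃ n : Subgroup.centralizer ({z} : Set G), cq n q = q ∧ ∃ a : ℕ,
      (n : G) * (h * (x : G) * h⁻¹) * (n : G)⁻¹ = (x : G) ^ a :=
  conj_of_class H hv orderOf_sigA hx hlx
    (fun φ => classA_of_central H hv ((orderOf_injective φ.toMonoidHom φ.injective x).trans hx) (central_map φ hc))
    hq2 h hz hq'

end Hom

/-- **Standard position of a central element of order three.** -/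
theorem standard_of_central (H : MT z Q e ψ) (hq : IsConj z (toG q)) (hne : toG q ≠ z)
    {x : Lsub z (toG q)} (hx : orderOf x = 3) (hc : Central x) :
    ∃ (e' : (Subgroup.centralizer ({z} : Set G)) ⧸ Q ≃* Spor.Co1) (ψ' : leechLattice → Q ⧸ Subgroup.center Q)
      (H' : MT z Q e' ψ') (hv' : ψ' (axis none) = QuotientGroup.mk q),
      piHom e' (toC z q x) = QuotientGroup.mk (secHom sigA : Co0) ∧ lam H' hv' x = sigA :=
  standard_of_class orderOf_sigA H hq hne hx fun _ _ H₁ hv₁ => classA_of_central H₁ hv₁ hx hc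

end Cfsg.Agent.MonsterT.Three
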