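/-
The normaliser modulo a subgroup of order three that is central in the joint centraliser of the central involution
and a conjugate: an extension of index two of a group of large Fischer type, and the lack of splitting.
-/
import Cfsg.Agent.Lib.MonsterT.ThreeAOuter
import Cfsg.Agent.Lib.MonsterT.ThreeCentralA
import Cfsg.Agent.Lib.FischerAut24.Outer
set_option autoImplicit false
set_option maxRecDepth 100000

namespace Cfsg.Agent.MonsterT.ThreeA

open Cfsg Cfsg.Agent.Golay Cfsg.Agent.Leech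
open scoped commutatorElement

variable {G : Type*} [Group G] [Finite G] {z : G} {Q : Subgroup (Subgroup.centralizer ({z} : Set G))} [Q.Normal]
  {e : (Subgroup.centralizer ({z} : Set G)) ⧸ Q ≃* Spor.Co1} {ψ : leechLattice → Q ⧸ Subgroup.center Q}
  {β : Subgroup.centralizer ({z} : Set G)} {q : Q}

theorem bA_red (j : ℕ) : bA ^ (3 * j) = 1 := by rw [pow_mul, bA_pow, one_pow]

theorem exists_lift_one (D : Loc z Q e ψ bA 3 β q) (c : Cb) : ∃ c' : Subgroup.centralizer ({z} : Set G),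
    c' * β = β * c' ∧ ∃ i : ℕ, piHom e c' = QuotientGroup.mk (bA ^ i * (c : Co0)) := by
  obtain ⟨h, hh⟩ := D.mt.exists_lift (c : Co0)
  have hc : (c : Co0) * bA * (c : Co0)⁻¹ = bA ^ 1 := by
    rw [Subgroup.mem_centralizer_singleton_iff.1 c.2, mul_inv_cancel_right, pow_one]
  obtain ⟨n, -, hn, i, hni⟩ := D.lift ⊤ (Subgroup.mem_top _) hc (Subgroup.mem_top h) hh
  rw [pow_one, mul_inv_eq_iff_eq_mul] at hn
  exact ⟨n, hn, i, hni⟩

theorem exists_inverse (D : Loc z Q e ψ bA 3 β q) :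
    ∃ n : Subgroup.centralizer ({z} : Set G), n * β * n⁻¹ = β ^ 2 := by
  obtain ⟨g, hg⟩ := exists_inverter
  obtain ⟨h, hh⟩ := D.mt.exists_lift g
  obtain ⟨n, -, hn, -⟩ := D.lift ⊤ (Subgroup.mem_top _) hg (Subgroup.mem_top h) hh
  exact ⟨n, hn⟩

/-- An element inverting `β` moves the centraliser modulo `β` and the extraspecial subgroup. -/
theorem inverse_moves (D : Loc z Q e ψ bA 3 β q) {n : Subgroup.centralizer ({z} : Set G)}
    (hn : n * β * n⁻¹ = β ^ 2) :
    ¬ ∀ c : Subgroup.centralizer ({z} : Set G), c * β = β * c →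
      ∃ i : ℕ, piHom e (n * c * n⁻¹ * c⁻¹) = QuotientGroup.mk (bA ^ i) := by
  intro hall
  obtain ⟨g, hg⟩ := QuotientGroup.mk_surjective (piHom e n)
  have h1 : (QuotientGroup.mk (g * bA * g⁻¹) : Spor.Co1) = QuotientGroup.mk (bA ^ 2) := by
    rw [QuotientGroup.mk_mul, QuotientGroup.mk_mul, QuotientGroup.mk_inv, QuotientGroup.mk_pow, hg, ← D.img,
      ← map_pow, ← hn, map_mul, map_mul, map_inv]
  have hgb : g * bA * g⁻¹ = bA ^ 2 := by
    refine odd_lift_unique D.odd ?_ ?_ h1.symm <;>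
      first
      | rw [conj_pow, bA_pow, mul_one, mul_inv_cancel]
      | (rw [← pow_mul]; exact bA_red 2)
  refine inverter_moves hgb fun c => ?_
  obtain ⟨c', hc', i, hi⟩ := exists_lift_one D c
  obtain ⟨k, hk⟩ := hall c' hc'
  rw [map_mul, map_mul, map_mul, map_inv, map_inv, hi, ← hg, ← QuotientGroup.mk_inv, ← QuotientGroup.mk_inv,
    ← QuotientGroup.mk_mul, ← QuotientGroup.mk_mul, ← QuotientGroup.mk_mul] at hk
  have hk' : (QuotientGroup.mk (g * (bA ^ i * (c : Co0)) * g⁻¹) : Spor.Co1) =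
      QuotientGroup.mk (bA ^ k * (bA ^ i * (c : Co0))) := by
    rw [QuotientGroup.mk_mul _ (bA ^ k), ← hk, ← QuotientGroup.mk_mul, inv_mul_cancel_right]
  have hsplit : bA ^ i * (g * (bA ^ i * (c : Co0)) * g⁻¹) = g * c * g⁻¹ := by
    have hgi : g * bA ^ i * g⁻¹ = bA ^ (2 * i) := by rw [← conj_pow, hgb, ← pow_mul]
    calc bA ^ i * (g * (bA ^ i * (c : Co0)) * g⁻¹) = bA ^ i * (g * bA ^ i * g⁻¹) * (g * c * g⁻¹) := by group
      _ = _ := by rw [hgi, ← pow_add, show i + 2 * i = 3 * i by omega, bA_red, one_mul]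
  refine ⟨i + k + i, ?_⟩
  rcases mk_eq_mk hk' with h | h
  · left
    rw [← hsplit, ← h]
    simp only [pow_add, mul_assoc]
  · right
    have h' : g * (bA ^ i * (c : Co0)) * g⁻¹ = negCo0 * (bA ^ k * (bA ^ i * (c : Co0))) := by
      rw [h, ← mul_assoc negCo0 negCo0, negCo0_sq, one_mul]
    rw [← hsplit, h', ← mul_assoc, negCo0_comm (bA ^ i)]
    simp only [pow_add, mul_assoc]

/-- The element of order three lies in the derived group of its centraliser. -/
theorem beta_mem_commutator (D : Loc z Q e ψ bA 3 β q) {B : Subgroup G} (hB : B = Subgroup.zpowers (β : G)) :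
    (β : G) ∈ ⁅Subgroup.centralizer (B : Set G), Subgroup.centralizer (B : Set G)⁆ := by
  have hmem : ∀ c : Subgroup.centralizer ({z} : Set G), c * β = β * c → (c : G) ∈ Subgroup.centralizer (B : Set G) := by
    intro c hc
    rw [Subgroup.mem_centralizer_iff, hB]
    intro y hy
    obtain ⟨i, rfl⟩ := Subgroup.mem_zpowers_iff.1 hy
    exact ((show Commute (c : G) (β : G) from congrArg Subtype.val hc).zpow_right i).eq.symm
  obtain ⟨x, y, hxy⟩ := exists_commutator
  obtain ⟨x', hx', i, hi⟩ := exists_lift_one D x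
  obtain ⟨y', hy', j, hj⟩ := exists_lift_one D y
  set w := ⁅x', y'⁆ ^ 5 with hw
  have hwB : (w : G) ∈ ⁅Subgroup.centralizer (B : Set G), Subgroup.centralizer (B : Set G)⁆ := by
    rw [hw, Subgroup.coe_pow]
    refine Subgroup.pow_mem _ ?_ 5
    simp only [commutatorElement_def, Subgroup.coe_mul, Subgroup.coe_inv]
    exact Subgroup.commutator_mem_commutator (hmem _ hx') (hmem _ hy')
  let bC : Cb := ⟨bA, Subgroup.mem_centralizer_singleton_iff.2 rfl⟩
  have hbC : ∀ d : Cb, Commute bC d := fun d => Subtype.ext (Subgroup.mem_centralizer_singleton_iff.1 d.2).symm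
  have hcom : ⁅bC ^ i * x, bC ^ j * y⁆ = ⁅x, y⁆ := by
    have hu : ∀ d : Cb, Commute (bC ^ i) d := fun d => (hbC d).pow_left i
    have hv : ∀ d : Cb, Commute (bC ^ j) d := fun d => (hbC d).pow_left j
    have e1 : bC ^ i * x * (bC ^ j * y) = bC ^ i * bC ^ j * (x * y) := by
      rw [mul_assoc (bC ^ i) x, ← mul_assoc x, ← (hv x).eq, mul_assoc (bC ^ j), ← mul_assoc]
    have e2 : bC ^ j * y * (bC ^ i * x) = bC ^ i * bC ^ j * (y * x) := by
      rw [mul_assoc (bC ^ j) y, ← mul_assoc y, ← (hu y).eq, mul_assoc (bC ^ i) y, ← mul_assoc, ← (hu (bC ^ j)).eq]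
    rw [commutatorElement_def, commutatorElement_def, mul_assoc _ _ (bC ^ j * y)⁻¹, mul_assoc _ _ y⁻¹,
      ← mul_inv_rev, ← mul_inv_rev, e1, e2, mul_inv_rev (bC ^ i * bC ^ j)]
    calc bC ^ i * bC ^ j * (x * y) * ((y * x)⁻¹ * (bC ^ i * bC ^ j)⁻¹) =
        bC ^ i * bC ^ j * (x * y * (y * x)⁻¹) * (bC ^ i * bC ^ j)⁻¹ := by group
      _ = _ := by rw [((hu _).mul_left (hv _)).eq, mul_inv_cancel_right]
  let μ : Cb →* Spor.Co1 := (QuotientGroup.mk' _).comp Cb.subtype
  have hx'' : piHom e x' = μ (bC ^ i * x) := hi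
  have hy'' : piHom e y' = μ (bC ^ j * y) := hj
  have himg : piHom e w = piHom e β := by
    rw [hw, map_pow, map_commutatorElement, hx'', hy'', ← map_commutatorElement, hcom, ← map_pow, D.img]
    exact congrArg QuotientGroup.mk hxy
  have hwc : w * β = β * w := by
    have hcx : Commute x' β := hx'
    have hcy : Commute y' β := hy'
    rw [hw, commutatorElement_def]
    exact ((((hcx.mul_left hcy).mul_left hcx.inv_left).mul_left hcy.inv_left).pow_left 5).eq
  have hQ : w * β⁻¹ ∈ Q := D.mt.mem_Q_of_piHom (by rw [map_mul, map_inv, himg, mul_inv_cancel])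
  have hN : (w * β⁻¹) ^ 2 ^ 25 = 1 := by
    have h := congrArg Subtype.val (pow_card_eq_one' (x := (⟨_, hQ⟩ : Q)))
    rw [D.mt.setting.2.2.2.1] at h
    exact h
  have h3 : β ^ 2 ^ 25 = β ^ 2 := by rw [← pow_mod_orderOf, D.ord]; rfl
  have hb : w ^ 2 ^ 25 = β ^ 2 := by
    have hc : Commute (w * β⁻¹) β := (show Commute w β from hwc).mul_left (Commute.refl β).inv_left
    calc w ^ 2 ^ 25 = (w * β⁻¹ * β) ^ 2 ^ 25 := by rw [inv_mul_cancel_right]
      _ = β ^ 2 := by rw [hc.mul_pow, hN, one_mul, h3]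
  have : β = (w ^ 2 ^ 25) ^ 2 := by
    rw [hb, ← pow_mul, pow_succ, show β ^ 3 = 1 from D.beta_pow, one_mul]
  rw [this, Subgroup.coe_pow, Subgroup.coe_pow]
  exact Subgroup.pow_mem _ (Subgroup.pow_mem _ hwB _) _

/-- The normaliser modulo the element of order three. -/
theorem normalizer_setting (D : Loc z Q e ψ bA 3 β q) {B : Subgroup G} (hB : B = Subgroup.zpowers (β : G))
    [hN : (B.subgroupOf (Subgroup.centralizer (B : Set G))).Normal]
    [hN' : (B.subgroupOf (Subgroup.normalizer (B : Set G))).Normal]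
    (hfuse : ∃ h : G, h * (β : G) = (β : G) * h ∧ h * z * h⁻¹ = toG q ∧ toG q ≠ z) :
    ∃ (G₀ : Subgroup (↥(Subgroup.normalizer (B : Set G)) ⧸ B.subgroupOf (Subgroup.normalizer (B : Set G))))
      (z₀ : ↥G₀) (R : Subgroup (Subgroup.centralizer ({z₀} : Set ↥G₀))) (_ : R.Normal),
      G₀.index = 2 ∧ IsOfLargeFischerTypeAt z₀ R ∧
      (generalizedFittingSubgroup ↥(Subgroup.centralizer
        ({(z₀ : ↥(Subgroup.normalizer (B : Set G)) ⧸ B.subgroupOf (Subgroup.normalizer (B : Set G)))} : Set _))).map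
          (Subgroup.subtype _) = (R.map (Subgroup.subtype _)).map G₀.subtype ∧
      Nonempty (↥(Subgroup.centralizer (B : Set G)) ⧸ B.subgroupOf (Subgroup.centralizer (B : Set G)) ≃* ↥G₀) := by
  classical
  set CT := Subgroup.centralizer (B : Set G) with hCT
  set NB := Subgroup.normalizer (B : Set G) with hNB
  set N := B.subgroupOf CT with hNdef
  set N' := B.subgroupOf NB with hN'def
  obtain ⟨zb, R, hR, hset, ⟨hiso⟩, -, ⟨hzC, hzb⟩, hRel, -⟩ :=
    D.setting_of_full centModel (w := 6) rfl (by norm_num) hB hfuse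
  have hβB : (β : G) ∈ B := hB ▸ Subgroup.mem_zpowers _
  have memCT : ∀ x : G, x ∈ CT ↔ x * (β : G) * x⁻¹ = β := by
    intro x
    rw [mul_inv_eq_iff_eq_mul, hCT, Subgroup.mem_centralizer_iff, hB]
    constructor
    · intro h; exact (h _ (Subgroup.mem_zpowers _)).symm
    · intro h y hy
      obtain ⟨i, rfl⟩ := Subgroup.mem_zpowers_iff.1 hy
      exact ((show Commute x (β : G) from h).zpow_right i).eq.symm
  have hord : orderOf (β : G) = 3 := (Subgroup.orderOf_coe β).trans D.ord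
  have hBcases : ∀ y ∈ B, y = 1 ∨ y = (β : G) ∨ y = (β : G) ^ 2 := fun y hy => by
    obtain ⟨i, rfl⟩ := mem_powers_iff_mem_zpowers.2 (hB ▸ hy)
    show (β : G) ^ i = 1 ∨ (β : G) ^ i = (β : G) ∨ (β : G) ^ i = (β : G) ^ 2
    rw [← pow_mod_orderOf, hord]
    have : i % 3 = 0 ∨ i % 3 = 1 ∨ i % 3 = 2 := by omega
    rcases this with h | h | h <;> rw [h]
    · exact Or.inl (pow_zero _)
    · exact Or.inr (Or.inl (pow_one _))
    · exact Or.inr (Or.inr rfl)
  have hb3 : (β : G) ^ 3 = 1 := hord ▸ pow_orderOf_eq_one _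
  have memNB : ∀ x : G, x * (β : G) * x⁻¹ ∈ B → x ∈ NB := fun x h => by
    have hle : B.map (MulAut.conj x).toMonoidHom = B := by
      refine Subgroup.eq_of_le_of_card_ge ?_ (le_of_eq (Subgroup.card_map_of_injective (MulAut.conj x).injective).symm)
      rw [hB, MonoidHom.map_zpowers, Subgroup.zpowers_le, ← hB]
      exact h
    rw [hNB, Subgroup.mem_normalizer_iff]
    intro y
    constructor
    · intro hy; exact hle ▸ ⟨y, hy, rfl⟩
    · intro hy
      obtain ⟨w, hw, e⟩ := hle.ge hy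
      have : w = y := (MulAut.conj x).injective e
      exact this ▸ hw
  have hle : CT ≤ NB := fun x hx => memNB x (by rw [(memCT x).1 hx]; exact hβB)
  have outer : ∀ x : NB, (x : G) ∉ CT → (x : G) * (β : G) * (x : G)⁻¹ = (β : G) ^ 2 := fun x hx => by
    rcases hBcases _ ((Subgroup.mem_normalizer_iff.1 x.2 _).1 hβB) with h | h | h
    · exfalso
      rw [conj_eq_one_iff] at h
      rw [h, orderOf_one] at hord
      omega
    · exact absurd ((memCT _).2 h) hx
    · exact h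
  obtain ⟨n, hn⟩ := exists_inverse D
  have hnG : (n : G) * (β : G) * (n : G)⁻¹ = (β : G) ^ 2 := congrArg Subtype.val hn
  have hnN : (n : G) ∈ NB := memNB _ (hnG ▸ Subgroup.pow_mem _ hβB 2)
  have hnC : (n : G) ∉ CT := fun h => by
    rw [memCT, hnG, pow_two, mul_eq_left] at h
    rw [h, orderOf_one] at hord
    omega
  set π := QuotientGroup.mk' N' with hπ
  set G₀ := (CT.subgroupOf NB).map π with hG₀
  have hker : N' ≤ CT.subgroupOf NB := fun x hx => (memCT _).2 (by
    show (x : G) * (β : G) * (x : G)⁻¹ = β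
    rcases hBcases _ (Subgroup.mem_subgroupOf.1 hx) with h | h | h <;> rw [h] <;> group)
  have hmemG₀ : ∀ x : NB, π x ∈ G₀ ↔ (x : G) ∈ CT := fun x => by
    refine ⟨fun h => ?_, fun h => ⟨x, h, rfl⟩⟩
    have := (Subgroup.comap_map_eq_self (f := π) (H := CT.subgroupOf NB) (by rwa [hπ, QuotientGroup.ker_mk'])).le
      (Subgroup.mem_comap.2 h)
    exact this
  have hidx : G₀.index = 2 := by
    rw [Subgroup.index_eq_two_iff]
    refine ⟨π ⟨n, hnN⟩, fun b => ?_⟩
    obtain ⟨b, rfl⟩ := QuotientGroup.mk'_surjective N' b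
    rw [← map_mul, hmemG₀, hmemG₀]
    by_cases hb : (b : G) ∈ CT
    · exact Or.inr ⟨hb, fun h => hnC ((Subgroup.mul_mem_cancel_left CT hb).1 h)⟩
    · refine Or.inl ⟨(memCT _).2 ?_, hb⟩
      show (b : G) * (n : G) * (β : G) * ((b : G) * (n : G))⁻¹ = β
      rw [show (b : G) * (n : G) * (β : G) * ((b : G) * (n : G))⁻¹ =
        (b : G) * ((n : G) * (β : G) * (n : G)⁻¹) * (b : G)⁻¹ by group, hnG, ← conj_pow, outer b hb, ← pow_mul,
        pow_succ, hb3, one_mul]
  let f : ↥CT ⧸ N →* ↥G₀ := QuotientGroup.lift N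
    (MonoidHom.codRestrict (π.comp (Subgroup.inclusion hle)) G₀ fun x => (hmemG₀ _).2 x.2)
    (fun x hx => Subtype.ext ((QuotientGroup.eq_one_iff _).2 hx))
  have hf : ∀ x : CT, (f (QuotientGroup.mk x) : ↥NB ⧸ N') = π (Subgroup.inclusion hle x) := fun x => rfl
  have hfinj : Function.Injective f := (injective_iff_map_eq_one f).2 fun a ha => by
    obtain ⟨x, rfl⟩ := QuotientGroup.mk_surjective a
    have := congrArg Subtype.val ha
    rw [hf] at this
    exact (QuotientGroup.eq_one_iff _).2 ((QuotientGroup.eq_one_iff _).1 this : Subgroup.inclusion hle x ∈ N')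
  have hfsurj : Function.Surjective f := by
    rintro ⟨_, x, hx, rfl⟩
    exact ⟨QuotientGroup.mk ⟨x, hx⟩, rfl⟩
  let ι : ↥CT ⧸ N ≃* ↥G₀ := MulEquiv.ofBijective f ⟨hfinj, hfsurj⟩
  set cm := FischerAut24.centMap ι zb with hcm
  let R₀ := R.map cm.toMonoidHom
  haveI hR₀ : R₀.Normal := hR.map _ cm.surjective
  have hL : IsOfLargeFischerTypeAt (ι zb) R₀ :=
    isOfLargeFischerTypeAt (FischerAut24.setting_map ι hset)
      ((QuotientGroup.congr R R₀ cm rfl).symm.trans hiso)
  refine ⟨G₀, ι zb, R₀, hR₀, hidx, hL, ?_, ⟨ι⟩⟩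
  -- the generalised Fitting subgroup upstairs
  set zX : ↥NB ⧸ N' := ((ι zb : ↥G₀) : ↥NB ⧸ N') with hzX
  let j : ↥(Subgroup.centralizer ({ι zb} : Set ↥G₀)) →* ↥(Subgroup.centralizer ({zX} : Set (↥NB ⧸ N'))) :=
    MonoidHom.mk' (fun a => ⟨a.1.1, Subgroup.mem_centralizer_singleton_iff.2
      (congrArg Subtype.val (Subgroup.mem_centralizer_singleton_iff.1 a.2))⟩) fun _ _ => rfl
  have hjinj : Function.Injective j := fun a b h =>
    Subtype.ext (Subtype.ext (congrArg (fun u : ↥(Subgroup.centralizer ({zX} : Set (↥NB ⧸ N'))) => u.1) h :))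
  have hjr : ∀ y, y ∈ j.range ↔ (y : ↥NB ⧸ N') ∈ G₀ := fun y => by
    constructor
    · rintro ⟨a, rfl⟩; exact a.1.2
    · intro hy
      exact ⟨⟨⟨y, hy⟩, Subgroup.mem_centralizer_singleton_iff.2
        (Subtype.ext (Subgroup.mem_centralizer_singleton_iff.1 y.2))⟩, rfl⟩
  have hzN : z ∈ NB := hle hzC
  have hzX' : zX = π ⟨z, hzN⟩ := by rw [hzX, hzb]; rfl
  have inC : ∀ x : NB, π x ∈ Subgroup.centralizer ({zX} : Set (↥NB ⧸ N')) ↔
      (x : G) ∈ Subgroup.centralizer ({z} : Set G) := fun x => by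
    rw [Subgroup.mem_centralizer_singleton_iff, Subgroup.mem_centralizer_singleton_iff, hzX', ← map_mul, ← map_mul]
    constructor
    · intro h
      have hy : ((x : G) * z)⁻¹ * (z * (x : G)) ∈ B := Subgroup.mem_subgroupOf.1 (QuotientGroup.eq.1 h)
      set y := ((x : G) * z)⁻¹ * (z * (x : G)) with hydef
      have hyz : z * y = y * z := by
        have hzβ : z * (β : G) = (β : G) * z := (Subgroup.mem_centralizer_singleton_iff.1 β.2).symm
        rcases hBcases y hy with e | e | e <;> rw [e]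
        · rw [mul_one, one_mul]
        · exact hzβ
        · exact ((show Commute z (β : G) from hzβ).pow_right 2).eq
      have hsq : y * y = 1 := by
        have e1 : (x : G)⁻¹ * z * (x : G) = z * y := by
          rw [hydef, show z * (((x : G) * z)⁻¹ * (z * (x : G))) = z * z⁻¹ * ((x : G)⁻¹ * z * (x : G)) by group,
            mul_inv_cancel, one_mul]
        have e2 : z * y * (z * y) = 1 := by
          rw [← e1, show (x : G)⁻¹ * z * (x : G) * ((x : G)⁻¹ * z * (x : G)) = (x : G)⁻¹ * (z * z) * (x : G) by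
            group, D.mt.z_sq, mul_one, inv_mul_cancel]
        calc y * y = z * z * (y * y) := by rw [D.mt.z_sq, one_mul]
          _ = z * (z * y) * y := by group
          _ = z * (y * z) * y := by rw [hyz]
          _ = z * y * (z * y) := by group
          _ = 1 := e2
      refine inv_mul_eq_one.1 (?_ : y = 1)
      rcases hBcases y hy with e | e | e
      · exact e
      · exfalso
        rw [e, ← pow_two] at hsq
        have := orderOf_dvd_of_pow_eq_one hsq
        rw [hord] at this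
        norm_num at this
      · exfalso
        rw [e, ← pow_add] at hsq
        have := orderOf_dvd_of_pow_eq_one hsq
        rw [hord] at this
        norm_num at this
    · intro h
      exact congrArg π (Subtype.ext h)
  have hjidx : j.range.index = 2 := by
    rw [Subgroup.index_eq_two_iff]
    refine ⟨⟨π ⟨n, hnN⟩, (inC _).2 n.2⟩, fun b => ?_⟩
    rw [hjr, hjr]
    obtain ⟨a, ha⟩ := (Subgroup.index_eq_two_iff.1 hidx)
    have hnG₀ : π ⟨n, hnN⟩ ∉ G₀ := fun h => hnC ((hmemG₀ _).1 h)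
    show Xor' ((b : ↥NB ⧸ N') * π ⟨n, hnN⟩ ∈ G₀) ((b : ↥NB ⧸ N') ∈ G₀)
    rw [Subgroup.mul_mem_iff_of_index_two hidx]
    by_cases hb : (b : ↥NB ⧸ N') ∈ G₀
    · exact Or.inr ⟨hb, fun h => hnG₀ (h.1 hb)⟩
    · exact Or.inl ⟨iff_of_false hb hnG₀, hb⟩
  have hR2 : IsPGroup 2 ↥R₀ := IsPGroup.of_card (n := 13) hL.1.2.2.2.1
  have hmain := FischerAut24.fstar_of_index_two j hjinj hjidx hL.1.2.1 hR2 fun x hx hall => ?_
  · rw [hmain]
    refine (Subgroup.map_map _ _ _).trans (Eq.trans ?_ (Subgroup.map_map _ _ _).symm)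
    exact congrArg (fun u => R₀.map u) (MonoidHom.ext fun a => rfl)
  obtain ⟨⟨xg, hxN⟩, hxe⟩ := QuotientGroup.mk'_surjective N' x.1
  have hxz : xg ∈ Subgroup.centralizer ({z} : Set G) := (inC ⟨xg, hxN⟩).1 (hxe.symm ▸ x.2)
  have hxC : xg ∉ CT := fun h => hx ((hjr x).2 (hxe ▸ (hmemG₀ ⟨xg, hxN⟩).2 h))
  set m : Subgroup.centralizer ({z} : Set G) := ⟨xg, hxz⟩
  refine inverse_moves D (n := m) (Subtype.ext (outer ⟨xg, hxN⟩ hxC)) fun c hc => ?_
  have hcC : (c : G) ∈ CT := (memCT _).2 (mul_inv_eq_iff_eq_mul.2 (congrArg Subtype.val hc))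
  let a : ↥(Subgroup.centralizer ({ι zb} : Set ↥G₀)) :=
    ⟨ι (QuotientGroup.mk ⟨(c : G), hcC⟩), Subgroup.mem_centralizer_singleton_iff.2 (by
      refine Subtype.ext ?_
      exact Subgroup.mem_centralizer_singleton_iff.1 ((inC (Subgroup.inclusion hle ⟨(c : G), hcC⟩)).2 c.2))⟩
  obtain ⟨r, hr, hre⟩ := hall a
  obtain ⟨r, hrR, rfl⟩ := hr
  obtain ⟨a', -, ha', hra⟩ := hRel r hrR
  have h1 := congrArg Subtype.val hre
  rw [commutatorElement_def] at h1
  change ((ι r.1 : ↥G₀) : ↥NB ⧸ N') = x.1 * π (Subgroup.inclusion hle ⟨(c : G), hcC⟩) * (x.1)⁻¹ *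
    (π (Subgroup.inclusion hle ⟨(c : G), hcC⟩))⁻¹ at h1
  rw [hra, ← hxe, ← map_inv, ← map_inv, ← map_mul, ← map_mul, ← map_mul] at h1
  have h2 : (toG a')⁻¹ * (xg * (c : G) * xg⁻¹ * (c : G)⁻¹) ∈ B :=
    Subgroup.mem_subgroupOf.1 (QuotientGroup.eq.1 (show π (Subgroup.inclusion hle ⟨toG a', ha'⟩) = _ from h1))
  have hlift : ∀ y ∈ B, ∃ i : ℕ, ((β ^ i : Subgroup.centralizer ({z} : Set G)) : G) = y := fun y hy => by
    rcases hBcases y hy with e | e | e <;> rw [e]
    exacts [⟨0, by simp⟩, ⟨1, by simp⟩, ⟨2, by simp⟩]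
  obtain ⟨i, hi⟩ := hlift _ h2
  refine ⟨i, ?_⟩
  have e1 : m * c * m⁻¹ * c⁻¹ = (a' : Subgroup.centralizer ({z} : Set G)) * β ^ i := by
    refine Subtype.ext ?_
    show xg * (c : G) * xg⁻¹ * (c : G)⁻¹ = toG a' * ((β ^ i : Subgroup.centralizer ({z} : Set G)) : G)
    rw [hi, mul_inv_cancel_left]
  rw [e1, map_mul, map_pow, D.img, piHom_mem e a'.2, one_mul, QuotientGroup.mk_pow]

end Cfsg.Agent.MonsterT.ThreeA
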