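/-
The normaliser of the element of order three modulo it is of type M(24); its derived subgroup is the presented
group, given that the presented group with its class is of type M(24).
-/
import Cfsg.Agent.Lib.MonsterT.ThreeANormalizer
import Cfsg.Agent.Lib.FischerUnique24.Iso
import Cfsg.Agent.Lib.FischerUnique24.Facts
import Cfsg.Prelude.Def_Spor_Fi24
set_option autoImplicit false
set_option maxRecDepth 100000

namespace Cfsg.Agent.MonsterT.ThreeA

open Cfsg
open scoped commutatorElement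

/-- A quotient by a central subgroup in the derived group with non-abelian simple quotient is quasisimple. -/
theorem quasisimple_of_quotient {K : Type*} [Group K] (N : Subgroup K) [N.Normal] (hN : N ≤ Subgroup.center K)
    (hNd : N ≤ commutator K) (hs : IsSimpleGroup (K ⧸ N)) (hp : commutator (K ⧸ N) = ⊤) :
    IsQuasisimple K := by
  have hperf : commutator K = ⊤ := by
    rw [← Subgroup.comap_map_eq_self (f := QuotientGroup.mk' N) (H := commutator K)
        (by rwa [QuotientGroup.ker_mk']),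
      commutator_def, Subgroup.map_commutator, Subgroup.map_top_of_surjective _ (QuotientGroup.mk'_surjective N),
      ← commutator_def, hp, Subgroup.comap_top]
  have hc : Subgroup.center K = N := by
    refine le_antisymm ?_ hN
    have h1 : (Subgroup.center K).map (QuotientGroup.mk' N) ≤ Subgroup.center (K ⧸ N) := by
      rintro _ ⟨a, ha, rfl⟩
      refine Subgroup.mem_center_iff.2 fun b => ?_
      obtain ⟨b, rfl⟩ := QuotientGroup.mk'_surjective N b
      rw [← map_mul, ← map_mul, Subgroup.mem_center_iff.1 ha b]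
    have h2 : Subgroup.center (K ⧸ N) = ⊥ := by
      refine (Subgroup.Normal.eq_bot_or_eq_top inferInstance).resolve_right fun h => ?_
      have hb : commutator (K ⧸ N) = ⊥ := by
        rw [commutator_def, Subgroup.commutator_eq_bot_iff_le_centralizer]
        exact fun a _ => Subgroup.mem_centralizer_iff.2 fun b _ =>
          Subgroup.mem_center_iff.1 (h ▸ Subgroup.mem_top a) b
      exact top_ne_bot (hp.symm.trans hb)
    rw [h2, le_bot_iff, Subgroup.map_eq_bot_iff, QuotientGroup.ker_mk'] at h1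
    exact h1
  exact ⟨⟨hperf⟩, (QuotientGroup.quotientMulEquivOfEq hc).isSimpleGroup_congr.2 hs⟩

universe u

/-- Every group with a class of type M(24) is the presented group, given that the latter is one of them. -/
theorem iso_presented {X : Type u} [Group X] [Finite X] [Finite Spor.Fi24] {E : Set X}
    (hE : IsThreeTranspositionGroup E) (hp : IsPrimitiveUnderConj E) (ht : IsOfTypeM24 X E)
    {D : Set Spor.Fi24} (hD : IsThreeTranspositionGroup D) (hpD : IsPrimitiveUnderConj D)
    (htD : IsOfTypeM24 Spor.Fi24 D) : Nonempty (X ≃* Spor.Fi24) := by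
  classical
  obtain ⟨a, -, C⟩ := FischerUnique24.exists_ctx hE hp ht
  obtain ⟨b, -, C'⟩ := FischerUnique24.exists_ctx hD hpD htD
  obtain ⟨Φ₁, e₁⟩ := FischerUnique23.exists_iso C.low.group C.low.prim C.low.type
  obtain ⟨Φ₂, e₂⟩ := FischerUnique23.exists_iso C'.low.group C'.low.prim C'.low.type
  obtain ⟨e, -⟩ := FischerUnique24.exists_iso_of_ctx C (C'.transport C.low (Φ₂.symm.trans Φ₁) (by
    rw [← e₁, ← e₂, ← Set.image_comp]
    exact Set.image_congr fun x _ => congrArg Φ₁ (Φ₂.symm_apply_apply x)))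
  exact ⟨e⟩

variable {G : Type u} [Group G] [Finite G]

/-- The normaliser modulo the element of order three: type M(24) and the simple derived group. -/
theorem fischer_parts (z : G) (Q : Subgroup (Subgroup.centralizer ({z} : Set G))) [Q.Normal]
    (hM : IsOfMonsterType z Q) (s : G)
    (hsQ : ∃ hsc : s ∈ Subgroup.centralizer ({z} : Set G), (⟨s, hsc⟩ : Subgroup.centralizer ({z} : Set G)) ∈ Q)
    (hs : IsConj z s) (hs1 : s ≠ z) (Y : Subgroup G) (hY : Y ≤ Subgroup.centralizer ({z, s} : Set G))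
    (hY3 : Nat.card Y = 3)
    (hc : ∃ P : Sylow 3 ↥(Subgroup.centralizer ({z, s} : Set G)),
      Y.subgroupOf (Subgroup.centralizer ({z, s} : Set G)) ≤
        (Subgroup.center ↥(P : Subgroup ↥(Subgroup.centralizer ({z, s} : Set G)))).map
          (P : Subgroup ↥(Subgroup.centralizer ({z, s} : Set G))).subtype)
    [hn : (Y.subgroupOf (Subgroup.centralizer (Y : Set G))).Normal]
    [hn' : (Y.subgroupOf (Subgroup.normalizer (Y : Set G))).Normal] :
    IsQuasisimple ↥(Subgroup.centralizer (Y : Set G)) ∧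
    ∃ E : Set (↥(Subgroup.normalizer (Y : Set G)) ⧸ Y.subgroupOf (Subgroup.normalizer (Y : Set G))),
      IsThreeTranspositionClass E ∧ IsThreeTranspositionGroup E ∧ IsPrimitiveUnderConj E ∧ IsOfTypeM24 _ E ∧
      Nonempty (↥(Subgroup.centralizer (Y : Set G)) ⧸ Y.subgroupOf (Subgroup.centralizer (Y : Set G)) ≃*
        ↥(commutator (↥(Subgroup.normalizer (Y : Set G)) ⧸ Y.subgroupOf (Subgroup.normalizer (Y : Set G))))) := by
  obtain ⟨hsetting, e, ψ, hiso⟩ := hM
  have H : MT z Q e ψ := ⟨hsetting, hiso⟩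
  obtain ⟨hsc, hsq⟩ := hsQ
  obtain ⟨q, rfl⟩ : ∃ q : Q, toG q = s := ⟨⟨⟨s, hsc⟩, hsq⟩, rfl⟩
  haveI : Fact (Nat.Prime 3) := ⟨Nat.prime_three⟩
  obtain ⟨y, hy, hy1⟩ : ∃ y, y ∈ Y ∧ y ≠ 1 := by
    by_contra hcon
    push Not at hcon
    rw [(Subgroup.eq_bot_iff_forall _).2 hcon, Subgroup.card_bot] at hY3
    omega
  have hyo : orderOf y = 3 := by
    have hd := orderOf_dvd_natCard (⟨y, hy⟩ : Y)
    rw [hY3, Subgroup.orderOf_mk] at hd
    exact ((Nat.dvd_prime Nat.prime_three).1 hd).resolve_left fun h => hy1 (orderOf_eq_one_iff.1 h)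
  have hB : Y = Subgroup.zpowers y :=
    (Subgroup.eq_of_le_of_card_ge (Subgroup.zpowers_le.2 hy) (by rw [Nat.card_zpowers, hyo, hY3])).symm
  let x : Three.Lsub z (toG q) := ⟨y, hY hy⟩
  have hx : orderOf x = 3 := (Subgroup.orderOf_mk _ _).trans hyo
  have hcx : Three.Central x := by
    obtain ⟨P, hP⟩ := hc
    obtain ⟨e', ψ', g, H', hv, -⟩ := H.standard hs hs1 (p := 3) rfl
      (β := Three.toC z q x) (by rw [← map_pow, ← hx, pow_orderOf_eq_one, map_one])
      (fun h => hy1 (congrArg Subtype.val h)) (Three.toC_comm x)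
    obtain ⟨n, -, hn2⟩ := Three.exists_card_L H' hv
    obtain ⟨u, hu, hux⟩ := hP (show x ∈ Y.subgroupOf _ from hy)
    refine ⟨P, ?_, hux ▸ u.2, fun v hv' => ?_⟩
    · rw [P.card_eq_multiplicity, Three.fact_three H' hv hn2]
      norm_num
    · rw [← hux]
      exact (congrArg Subtype.val (Subgroup.mem_center_iff.1 hu ⟨v, hv'⟩)).symm
  obtain ⟨e', ψ', H', hv', himg, hlam⟩ := Three.standard_of_central H hs hs1 hx hcx
  have hβo : orderOf (Three.toC z q x) = 3 := by
    rw [← Subgroup.orderOf_coe]; exact hyo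
  have D : Loc z Q e' ψ' bA 3 (Three.toC z q x) q :=
    ⟨H', Nat.prime_three, rfl, bA_pow, himg.trans (congrArg _ bA_sec.symm), hβo, hv', Three.toC_comm x⟩
  have hq2 : toG q * toG q = 1 := congrArg toG (H'.sq_eq_one hs)
  have hsquare : ∀ a : ℕ, y ^ a ≠ 1 → ∃ n : Subgroup.centralizer ({z} : Set G), cq n q = q ∧
      n * Three.toC z q x * n⁻¹ = Three.toC z q x ^ (a ^ 4) := by
    intro a ha
    refine ⟨1, Subtype.ext (by simp [cq]), ?_⟩
    have h3 : a % 3 ≠ 0 := fun h => ha (by rw [← pow_mod_orderOf, hyo, h, pow_zero])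
    have h4 : a ^ 4 % 3 = 1 := by
      rw [Nat.pow_mod]
      have : a % 3 = 1 ∨ a % 3 = 2 := by omega
      rcases this with h | h <;> rw [h] <;> rfl
    rw [one_mul, inv_one, mul_one, ← pow_mod_orderOf _ (a ^ 4), hβo, h4, pow_one]
  obtain ⟨h, hh1, hh2⟩ := D.fused
    (fun h hz hq' => Three.conj_of_central H' hv' hx hlam hcx hq2 h hz hq') hsquare hs hs1
  obtain ⟨G₀, z₀, R, hR, hidx, hL, hFX, ⟨ι⟩⟩ :=
    normalizer_setting D (B := Y) hB ⟨h, hh1, hh2, hs1⟩
  obtain ⟨S⟩ := LargeFischer.Six.exists_data hL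
  have hcentral : ∃ P : Sylow 2 ↥G₀, z₀ ∈ (P : Subgroup ↥G₀) ∧ ∀ a ∈ (P : Subgroup ↥G₀), Commute a z₀ := by
    haveI : Fact (Nat.Prime 2) := ⟨Nat.prime_two⟩
    obtain ⟨T⟩ := (inferInstance : Nonempty (Sylow 2 ↥(Subgroup.centralizer ({z₀} : Set ↥G₀))))
    obtain ⟨P, hP⟩ := LargeFischer.Big.sylow_of_centralizer (D := S.D) T
    refine ⟨P, ?_, fun a ha => ?_⟩
    · have h2 : IsPGroup 2 ↥R := IsPGroup.of_card (n := 13) hL.1.2.2.2.1
      obtain ⟨c, hc', e⟩ := S.D.ctx.xs.mem
      exact hP.ge ⟨c, h2.le_sylow_of_normal T hc', e⟩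
    · obtain ⟨c, -, rfl⟩ := hP.le ha
      exact Subgroup.mem_centralizer_singleton_iff.1 c.2
  obtain ⟨d, -, -, hdz, hdC, t, ht, W, P⟩ := FischerAut24.exists_sys S hidx hcentral hFX
  have hN := FischerAut24.nearPole S ht hdz hdC W P
  have hcl := W.isClass P hN
  have hgr := W.tgroup P hN
  have hpr := W.prim P hN
  have h24 := W.type_m24 P hN
  obtain ⟨a, -, C⟩ := FischerUnique24.exists_ctx hgr hpr h24
  have hcomp : ∃ L : Subgroup (↥(Subgroup.normalizer (Y : Set G)) ⧸ Y.subgroupOf (Subgroup.normalizer (Y : Set G))),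
      IsComponent L ∧ layer _ = L := by
    obtain ⟨L, hLc⟩ := Fischer.TClass.exists_component (Fischer.toClass C.group C.prim) C.prim.2.1
      (Fischer.prim_pCore_two C.group C.prim) (Fischer.prim_pCore_three C.group C.prim C.has_pair)
    haveI := Fischer.component_normal C.group hLc
    exact ⟨L, hLc, le_antisymm (Components.layer_le_iff.2 fun M hM =>
      le_of_eq (Fischer.TClass.component_unique hcl hM hLc)) (Components.component_le_layer hLc)⟩
  obtain ⟨hG₀, hsimp, hperf⟩ := FischerAut24.index_two_simple G₀ hidx C.layer_index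
    (fun p _ => W.pCore_bot P hN) hcomp
  have hperf' : commutator (↥(Subgroup.centralizer (Y : Set G)) ⧸
      Y.subgroupOf (Subgroup.centralizer (Y : Set G))) = ⊤ := by
    rw [← Subgroup.map_top_of_surjective ι.symm.toMonoidHom ι.symm.surjective, ← hperf, commutator_def,
      commutator_def, Subgroup.map_commutator, Subgroup.map_top_of_surjective ι.symm.toMonoidHom ι.symm.surjective]
  refine ⟨quasisimple_of_quotient _ (fun a ha => ?_) (fun a ha => ?_) (ι.isSimpleGroup_congr.2 hsimp) hperf',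
    _, hcl, hgr, hpr, h24, ⟨ι.trans (MulEquiv.subgroupCongr hG₀)⟩⟩
  · exact Subgroup.mem_center_iff.2 fun b => Subtype.ext (Subgroup.mem_centralizer_iff.1 b.2 _ ha).symm
  · have hyd := beta_mem_commutator D hB
    have hmap : (commutator ↥(Subgroup.centralizer (Y : Set G))).map (Subgroup.centralizer (Y : Set G)).subtype =
        ⁅Subgroup.centralizer (Y : Set G), Subgroup.centralizer (Y : Set G)⁆ := by
      rw [commutator_def, Subgroup.map_commutator, ← MonoidHom.range_eq_map, Subgroup.range_subtype]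
    have : (a : G) ∈ (commutator ↥(Subgroup.centralizer (Y : Set G))).map
        (Subgroup.centralizer (Y : Set G)).subtype := by
      rw [hmap]
      exact (hB.le.trans (Subgroup.zpowers_le.2 hyd)) (Subgroup.mem_subgroupOf.1 ha)
    obtain ⟨a', ha', ea⟩ := this
    exact Subtype.ext ea ▸ ha'

/-- The three conclusions, given the presented group. -/
theorem fischer_main [Finite Spor.Fi24] {D : Set Spor.Fi24} (hD : IsThreeTranspositionGroup D)
    (hpD : IsPrimitiveUnderConj D) (htD : IsOfTypeM24 Spor.Fi24 D)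
    (z : G) (Q : Subgroup (Subgroup.centralizer ({z} : Set G))) [Q.Normal]
    (hM : IsOfMonsterType z Q) (s : G)
    (hsQ : ∃ hsc : s ∈ Subgroup.centralizer ({z} : Set G), (⟨s, hsc⟩ : Subgroup.centralizer ({z} : Set G)) ∈ Q)
    (hs : IsConj z s) (hs1 : s ≠ z) (Y : Subgroup G) (hY : Y ≤ Subgroup.centralizer ({z, s} : Set G))
    (hY3 : Nat.card Y = 3)
    (hc : ∃ P : Sylow 3 ↥(Subgroup.centralizer ({z, s} : Set G)),
      Y.subgroupOf (Subgroup.centralizer ({z, s} : Set G)) ≤
        (Subgroup.center ↥(P : Subgroup ↥(Subgroup.centralizer ({z, s} : Set G)))).map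
          (P : Subgroup ↥(Subgroup.centralizer ({z, s} : Set G))).subtype)
    [hn : (Y.subgroupOf (Subgroup.centralizer (Y : Set G))).Normal]
    [hn' : (Y.subgroupOf (Subgroup.normalizer (Y : Set G))).Normal] :
    IsQuasisimple ↥(Subgroup.centralizer (Y : Set G)) ∧
      Spor.IsoFi24' (↥(Subgroup.centralizer (Y : Set G)) ⧸ Y.subgroupOf (Subgroup.centralizer (Y : Set G))) ∧
      ∃ E : Set (↥(Subgroup.normalizer (Y : Set G)) ⧸ Y.subgroupOf (Subgroup.normalizer (Y : Set G))),
        IsThreeTranspositionClass E ∧ IsOfTypeM24 _ E := by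
  obtain ⟨hqs, E, hcl, hgr, hpr, h24, ⟨ι⟩⟩ := fischer_parts z Q hM s hsQ hs hs1 Y hY hY3 hc
  obtain ⟨Φ⟩ := iso_presented hgr hpr h24 hD hpD htD
  have hmap : (commutator _).map Φ.toMonoidHom = commutator Spor.Fi24 := by
    rw [commutator_def, Subgroup.map_commutator, Subgroup.map_top_of_surjective Φ.toMonoidHom Φ.surjective,
      ← commutator_def]
  exact ⟨hqs, ⟨ι.trans ((Φ.subgroupMap _).trans (MulEquiv.subgroupCongr hmap))⟩, E, hcl, h24⟩

end Cfsg.Agent.MonsterT.ThreeA
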